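import Cfsg.Agent.H15.QS2
import Cfsg.Agent.H15.M.M22
import Cfsg.Agent.S2062

/-! Generated by tools/h15/qs/qs.py (kit tools/h0/tr). -/

set_option maxRecDepth 100000
set_option maxHeartbeats 0

namespace H15.QS.YM22
open H16 H0.TR
open H4.QG
open scoped commutatorElement Pointwise

universe u

noncomputable def Pd : List ℕ := [nat_lit 0xba91094e346b9e63d8955b0a918820,
  nat_lit 0xb9e086be3593a6952d94b10a618820,
  nat_lit 0xba1474922b3398d85676a3cb218820,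
  nat_lit 0xbb4c93ae2453ac893e8c9d4b018820,
  nat_lit 0xbd58a410b37c4f66a6905c9c618820,
  nat_lit 0xbb2c9819c8795753d1536923218820,
  nat_lit 0xbc654656c5790733a9265a20e68820,
  nat_lit 0xba54c410b07b8f45d6d369a3210c20,
  nat_lit 0xbacea991c87c58db5130a98b218440,
  nat_lit 0x58549954f8398d5c50939a4325437]
noncomputable def P (k u : ℕ) : ℕ := Nat.land (Nat.shiftRight (nth (nat_lit 0) Pd k) (Nat.mul u (nat_lit 5))) (nat_lit 31)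
noncomputable def B : List ℕ := [nat_lit 1, nat_lit 2, nat_lit 3, nat_lit 5, nat_lit 4, nat_lit 0]
noncomputable def iv : List ℕ := [nat_lit 0, nat_lit 1, nat_lit 2, nat_lit 3, nat_lit 5, nat_lit 4, nat_lit 6, nat_lit 7, nat_lit 8, nat_lit 9]
noncomputable def xW : List (List ℕ) := [[nat_lit 1, nat_lit 2, nat_lit 6, nat_lit 5, nat_lit 7, nat_lit 6, nat_lit 1, nat_lit 2],
  [nat_lit 0, nat_lit 6, nat_lit 1, nat_lit 4, nat_lit 7, nat_lit 6, nat_lit 0],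
  [nat_lit 6, nat_lit 3, nat_lit 6, nat_lit 5, nat_lit 7, nat_lit 6, nat_lit 3, nat_lit 6],
  [nat_lit 0, nat_lit 2, nat_lit 6, nat_lit 1, nat_lit 4, nat_lit 7, nat_lit 6, nat_lit 0, nat_lit 2],
  [nat_lit 1, nat_lit 5, nat_lit 6, nat_lit 1, nat_lit 7, nat_lit 6],
  [nat_lit 6, nat_lit 1, nat_lit 2, nat_lit 7, nat_lit 6, nat_lit 4, nat_lit 1],
  [nat_lit 0, nat_lit 1, nat_lit 4, nat_lit 6, nat_lit 3, nat_lit 6, nat_lit 7, nat_lit 6, nat_lit 3, nat_lit 6, nat_lit 7],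
  [nat_lit 1, nat_lit 3, nat_lit 6, nat_lit 3, nat_lit 6, nat_lit 5, nat_lit 7, nat_lit 6, nat_lit 3, nat_lit 6],
  [nat_lit 7, nat_lit 8, nat_lit 2, nat_lit 5, nat_lit 6, nat_lit 7, nat_lit 6, nat_lit 1, nat_lit 8, nat_lit 7, nat_lit 6, nat_lit 1, nat_lit 5, nat_lit 6]]
noncomputable def yl_W : List (List ℕ) := [[nat_lit 2, nat_lit 3, nat_lit 5, nat_lit 6, nat_lit 0, nat_lit 7, nat_lit 6, nat_lit 2, nat_lit 5, nat_lit 9],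
  [nat_lit 0],
  [nat_lit 1],
  [nat_lit 2],
  [nat_lit 3],
  [nat_lit 4],
  [nat_lit 5],
  [nat_lit 6],
  [nat_lit 7],
  [nat_lit 9],
  [nat_lit 8]]
noncomputable def yl_P : ℕ → ℕ → ℕ := wdsP H15.QS.YM22.P yl_W
noncomputable def yll0Dd : ℕ := nat_lit 0x964b3e70462b313a1f282e271d262524232214130a00
noncomputable def yll0D (u : ℕ) : ℕ := Nat.land (Nat.shiftRight yll0Dd (Nat.mul u (nat_lit 8))) (nat_lit 255)
noncomputable def yll0Pd : ℕ := nat_lit 0x1d12a5e79ac92a31b632a08a8c41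
noncomputable def yll0P (u : ℕ) : ℕ := Nat.land (Nat.shiftRight yll0Pd (Nat.mul u (nat_lit 5))) (nat_lit 31)
noncomputable def yll0Qd : ℕ := nat_lit 0x206b7b2858d52a71a4481e6d10400
noncomputable def yll0Q (u : ℕ) : ℕ := Nat.land (Nat.shiftRight yll0Qd (Nat.mul u (nat_lit 5))) (nat_lit 31)
noncomputable def yll0 : H16.Lev := ⟨22, 11, yll0D, yll0P, yll0Q⟩
noncomputable def yll1Dd : ℕ := nat_lit 0x7f76bee486c8d5933680d113260b962a24400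
noncomputable def yll1D (u : ℕ) : ℕ := Nat.land (Nat.shiftRight yll1Dd (Nat.mul u (nat_lit 7))) (nat_lit 127)
noncomputable def yll1Pd : ℕ := nat_lit 0xe895277cd649518db195045462
noncomputable def yll1P (u : ℕ) : ℕ := Nat.land (Nat.shiftRight yll1Pd (Nat.mul u (nat_lit 5))) (nat_lit 31)
noncomputable def yll1Qd : ℕ := nat_lit 0x1c4a72e647d1096962381a4c08000
noncomputable def yll1Q (u : ℕ) : ℕ := Nat.land (Nat.shiftRight yll1Qd (Nat.mul u (nat_lit 5))) (nat_lit 31)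
noncomputable def yll1 : H16.Lev := ⟨21, 10, yll1D, yll1P, yll1Q⟩
noncomputable def yll2Dd : ℕ := nat_lit 0x8d672f433b25241d1b1413120e0d0c0b0a090700
noncomputable def yll2D (u : ℕ) : ℕ := Nat.land (Nat.shiftRight yll2Dd (Nat.mul u (nat_lit 8))) (nat_lit 255)
noncomputable def yll2Pd : ℕ := nat_lit 0x71624a55104a8d23aecc9bda3
noncomputable def yll2P (u : ℕ) : ℕ := Nat.land (Nat.shiftRight yll2Pd (Nat.mul u (nat_lit 5))) (nat_lit 31)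
noncomputable def yll2Qd : ℕ := nat_lit 0x15cf1a22c14c243296d3a65000000
noncomputable def yll2Q (u : ℕ) : ℕ := Nat.land (Nat.shiftRight yll2Qd (Nat.mul u (nat_lit 5))) (nat_lit 31)
noncomputable def yll2 : H16.Lev := ⟨20, 8, yll2D, yll2P, yll2Q⟩
noncomputable def yll3Dd : ℕ := nat_lit 0x1a8
noncomputable def yll3D (u : ℕ) : ℕ := Nat.land (Nat.shiftRight yll3Dd (Nat.mul u (nat_lit 3))) (nat_lit 7)
noncomputable def yll3Pd : ℕ := nat_lit 0x3a25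
noncomputable def yll3P (u : ℕ) : ℕ := Nat.land (Nat.shiftRight yll3Pd (Nat.mul u (nat_lit 5))) (nat_lit 31)
noncomputable def yll3Qd : ℕ := nat_lit 0x420000000
noncomputable def yll3Q (u : ℕ) : ℕ := Nat.land (Nat.shiftRight yll3Qd (Nat.mul u (nat_lit 2))) (nat_lit 3)
noncomputable def yll3 : H16.Lev := ⟨3, 7, yll3D, yll3P, yll3Q⟩
noncomputable def yll4Dd : ℕ := nat_lit 0xeec89d71338d2481c40c2040
noncomputable def yll4D (u : ℕ) : ℕ := Nat.land (Nat.shiftRight yll4Dd (Nat.mul u (nat_lit 6))) (nat_lit 63)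
noncomputable def yll4Pd : ℕ := nat_lit 0xb28e86aeafa4d9091924
noncomputable def yll4P (u : ℕ) : ℕ := Nat.land (Nat.shiftRight yll4Pd (Nat.mul u (nat_lit 5))) (nat_lit 31)
noncomputable def yll4Qd : ℕ := nat_lit 0xf97630480b5ae1cd2000000
noncomputable def yll4Q (u : ℕ) : ℕ := Nat.land (Nat.shiftRight yll4Qd (Nat.mul u (nat_lit 4))) (nat_lit 15)
noncomputable def yll4 : H16.Lev := ⟨16, 5, yll4D, yll4P, yll4Q⟩
noncomputable def yll5Dd : ℕ := nat_lit 0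
noncomputable def yll5D (u : ℕ) : ℕ := Nat.land (Nat.shiftRight yll5Dd (Nat.mul u (nat_lit 1))) (nat_lit 1)
noncomputable def yll5Pd : ℕ := nat_lit 0x2e0
noncomputable def yll5P (u : ℕ) : ℕ := Nat.land (Nat.shiftRight yll5Pd (Nat.mul u (nat_lit 5))) (nat_lit 31)
noncomputable def yll5Qd : ℕ := nat_lit 0x800000
noncomputable def yll5Q (u : ℕ) : ℕ := Nat.land (Nat.shiftRight yll5Qd (Nat.mul u (nat_lit 1))) (nat_lit 1)
noncomputable def yll5 : H16.Lev := ⟨2, 1, yll5D, yll5P, yll5Q⟩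
noncomputable def cb_W : List (List ℕ) := [[nat_lit 6, nat_lit 5, nat_lit 8],
  [nat_lit 4, nat_lit 7, nat_lit 7]]
noncomputable def cb_P : ℕ → ℕ → ℕ := wdsP H15.QS.YM22.P cb_W
noncomputable def cbcth_W : List (List ℕ) := [[nat_lit 4, nat_lit 2, nat_lit 6, nat_lit 1, nat_lit 4, nat_lit 7, nat_lit 6, nat_lit 3, nat_lit 6, nat_lit 5, nat_lit 9],
  [nat_lit 2, nat_lit 6, nat_lit 1, nat_lit 5, nat_lit 7, nat_lit 6, nat_lit 5, nat_lit 8, nat_lit 7, nat_lit 6, nat_lit 9],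
  [nat_lit 7, nat_lit 6, nat_lit 3, nat_lit 6, nat_lit 5, nat_lit 7],
  [nat_lit 4, nat_lit 3, nat_lit 5, nat_lit 6, nat_lit 3, nat_lit 7, nat_lit 6, nat_lit 0, nat_lit 8, nat_lit 7, nat_lit 9],
  [nat_lit 2, nat_lit 3, nat_lit 4, nat_lit 6, nat_lit 0, nat_lit 3, nat_lit 7, nat_lit 8, nat_lit 7, nat_lit 6],
  [nat_lit 0],
  [nat_lit 1],
  [nat_lit 2],
  [nat_lit 3],
  [nat_lit 4],
  [nat_lit 5],
  [nat_lit 8],
  [nat_lit 6],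
  [nat_lit 7],
  [nat_lit 9]]
noncomputable def cbcth_P : ℕ → ℕ → ℕ := wdsP H15.QS.YM22.P cbcth_W
noncomputable def cbctl0Dd : ℕ := nat_lit 0x841f442c39292035191134183317321615140e0d0c00
noncomputable def cbctl0D (u : ℕ) : ℕ := Nat.land (Nat.shiftRight cbctl0Dd (Nat.mul u (nat_lit 8))) (nat_lit 255)
noncomputable def cbctl0Pd : ℕ := nat_lit 0x228555c12c0f492cd64b26f209a3
noncomputable def cbctl0P (u : ℕ) : ℕ := Nat.land (Nat.shiftRight cbctl0Pd (Nat.mul u (nat_lit 5))) (nat_lit 31)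
noncomputable def cbctl0Qd : ℕ := nat_lit 0x224c2aeae2442654cf46a5e300a00
noncomputable def cbctl0Q (u : ℕ) : ℕ := Nat.land (Nat.shiftRight cbctl0Qd (Nat.mul u (nat_lit 5))) (nat_lit 31)
noncomputable def cbctl0 : H16.Lev := ⟨22, 15, cbctl0D, cbctl0P, cbctl0Q⟩
noncomputable def cbctl1Dd : ℕ := nat_lit 0x587a71299b89a7168280f9416284880e18280
noncomputable def cbctl1D (u : ℕ) : ℕ := Nat.land (Nat.shiftRight cbctl1Dd (Nat.mul u (nat_lit 7))) (nat_lit 127)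
noncomputable def cbctl1Pd : ℕ := nat_lit 0x50c44e9120934e8f5d58d41d56
noncomputable def cbctl1P (u : ℕ) : ℕ := Nat.land (Nat.shiftRight cbctl1Pd (Nat.mul u (nat_lit 5))) (nat_lit 31)
noncomputable def cbctl1Qd : ℕ := nat_lit 0xc953e4d440853858312e8e04660
noncomputable def cbctl1Q (u : ℕ) : ℕ := Nat.land (Nat.shiftRight cbctl1Qd (Nat.mul u (nat_lit 5))) (nat_lit 31)
noncomputable def cbctl1 : H16.Lev := ⟨21, 12, cbctl1D, cbctl1P, cbctl1Q⟩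
noncomputable def cbctl2Dd : ℕ := nat_lit 0x94d93b45abd2982a406911c2c608121c200
noncomputable def cbctl2D (u : ℕ) : ℕ := Nat.land (Nat.shiftRight cbctl2Dd (Nat.mul u (nat_lit 7))) (nat_lit 127)
noncomputable def cbctl2Pd : ℕ := nat_lit 0x6a682812659390a305eb3b2b1
noncomputable def cbctl2P (u : ℕ) : ℕ := Nat.land (Nat.shiftRight cbctl2Pd (Nat.mul u (nat_lit 5))) (nat_lit 31)
noncomputable def cbctl2Qd : ℕ := nat_lit 0x316ac0f2aa622224919d8e040c0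
noncomputable def cbctl2Q (u : ℕ) : ℕ := Nat.land (Nat.shiftRight cbctl2Qd (Nat.mul u (nat_lit 5))) (nat_lit 31)
noncomputable def cbctl2 : H16.Lev := ⟨20, 5, cbctl2D, cbctl2P, cbctl2Q⟩
noncomputable def cbctl3Dd : ℕ := nat_lit 0xe5f35a6acf4a8e530c40
noncomputable def cbctl3D (u : ℕ) : ℕ := Nat.land (Nat.shiftRight cbctl3Dd (Nat.mul u (nat_lit 5))) (nat_lit 31)
noncomputable def cbctl3Pd : ℕ := nat_lit 0x34dc28288591d017ad95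
noncomputable def cbctl3P (u : ℕ) : ℕ := Nat.land (Nat.shiftRight cbctl3Pd (Nat.mul u (nat_lit 5))) (nat_lit 31)
noncomputable def cbctl3Qd : ℕ := nat_lit 0xe70b3d012a056f890c40
noncomputable def cbctl3Q (u : ℕ) : ℕ := Nat.land (Nat.shiftRight cbctl3Qd (Nat.mul u (nat_lit 4))) (nat_lit 15)
noncomputable def cbctl3 : H16.Lev := ⟨16, 4, cbctl3D, cbctl3P, cbctl3Q⟩
noncomputable def cbctl4Dd : ℕ := nat_lit 0x24
noncomputable def cbctl4D (u : ℕ) : ℕ := Nat.land (Nat.shiftRight cbctl4Dd (Nat.mul u (nat_lit 2))) (nat_lit 3)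
noncomputable def cbctl4Pd : ℕ := nat_lit 0x1265
noncomputable def cbctl4P (u : ℕ) : ℕ := Nat.land (Nat.shiftRight cbctl4Pd (Nat.mul u (nat_lit 5))) (nat_lit 31)
noncomputable def cbctl4Qd : ℕ := nat_lit 0x4000000200
noncomputable def cbctl4Q (u : ℕ) : ℕ := Nat.land (Nat.shiftRight cbctl4Qd (Nat.mul u (nat_lit 2))) (nat_lit 3)
noncomputable def cbctl4 : H16.Lev := ⟨3, 2, cbctl4D, cbctl4P, cbctl4Q⟩
noncomputable def cbctl5Dd : ℕ := nat_lit 0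
noncomputable def cbctl5D (u : ℕ) : ℕ := Nat.land (Nat.shiftRight cbctl5Dd (Nat.mul u (nat_lit 1))) (nat_lit 1)
noncomputable def cbctl5Pd : ℕ := nat_lit 0x246
noncomputable def cbctl5P (u : ℕ) : ℕ := Nat.land (Nat.shiftRight cbctl5Pd (Nat.mul u (nat_lit 5))) (nat_lit 31)
noncomputable def cbctl5Qd : ℕ := nat_lit 0x40000
noncomputable def cbctl5Q (u : ℕ) : ℕ := Nat.land (Nat.shiftRight cbctl5Qd (Nat.mul u (nat_lit 1))) (nat_lit 1)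
noncomputable def cbctl5 : H16.Lev := ⟨2, 1, cbctl5D, cbctl5P, cbctl5Q⟩
noncomputable def cbce_W : List (List ℕ) := []
noncomputable def cbce_P : ℕ → ℕ → ℕ := wdsP H15.QS.YM22.P cbce_W
noncomputable def cbctn0Fd : ℕ := nat_lit 0x3ffffe
noncomputable def cbctn0F (u : ℕ) : ℕ := Nat.land (Nat.shiftRight cbctn0Fd (Nat.mul u (nat_lit 1))) (nat_lit 1)
noncomputable def cbctn0 : Nd := ⟨cbctn0F, (nat_lit 2), (nat_lit 0), [[nat_lit 1],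
  [nat_lit 0, nat_lit 0]], [((nat_lit 0), [])], []⟩
noncomputable def p2t_W : List (List ℕ) := [[nat_lit 2, nat_lit 6, nat_lit 5, nat_lit 7, nat_lit 6, nat_lit 3, nat_lit 6, nat_lit 8, nat_lit 7, nat_lit 6, nat_lit 2],
  [nat_lit 8, nat_lit 0, nat_lit 2, nat_lit 3, nat_lit 4, nat_lit 6, nat_lit 0, nat_lit 7, nat_lit 6, nat_lit 4, nat_lit 8, nat_lit 7, nat_lit 6, nat_lit 4],
  [nat_lit 2, nat_lit 5, nat_lit 6, nat_lit 1, nat_lit 5, nat_lit 7, nat_lit 6, nat_lit 0, nat_lit 8, nat_lit 7, nat_lit 6, nat_lit 2, nat_lit 7],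
  [nat_lit 1, nat_lit 8, nat_lit 7, nat_lit 3, nat_lit 6, nat_lit 0, nat_lit 7, nat_lit 6, nat_lit 1],
  [nat_lit 2, nat_lit 4, nat_lit 7, nat_lit 6, nat_lit 8, nat_lit 7, nat_lit 6, nat_lit 8, nat_lit 2, nat_lit 9],
  [nat_lit 3, nat_lit 6, nat_lit 1, nat_lit 7, nat_lit 6, nat_lit 8, nat_lit 7, nat_lit 6, nat_lit 1, nat_lit 7, nat_lit 5, nat_lit 9],
  [nat_lit 8, nat_lit 4, nat_lit 6, nat_lit 1, nat_lit 5, nat_lit 7, nat_lit 6, nat_lit 1, nat_lit 4, nat_lit 8, nat_lit 7, nat_lit 6, nat_lit 0],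
  [nat_lit 1, nat_lit 7, nat_lit 6, nat_lit 5, nat_lit 8, nat_lit 7, nat_lit 6, nat_lit 4, nat_lit 8]]
noncomputable def p2t_P : ℕ → ℕ → ℕ := wdsP H15.QS.YM22.P p2t_W
noncomputable def p2Pd : List ℕ := [nat_lit 0x9c8ae3c064489667a22c6a820,
  nat_lit 0x9c9c56c5e9219821aa0b3a020,
  nat_lit 0x9c96c1111089cad50d2e33c20,
  nat_lit 0x9c9243315088caf41d6e13420,
  nat_lit 0x9c9643b1ae888a8799301a801,
  nat_lit 0x94c466212d3c1f1215435b801,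
  nat_lit 0x9c846621276c4702394f59420,
  nat_lit 0x9c8462216d3b9e5645434c020]
noncomputable def p2P (k u : ℕ) : ℕ := Nat.land (Nat.shiftRight (nth (nat_lit 0) p2Pd k) (Nat.mul u (nat_lit 5))) (nat_lit 31)
noncomputable def p2Ed : ℕ := nat_lit 0x892d5a4e507b149398a3106e0
noncomputable def p2E (u : ℕ) : ℕ := Nat.land (Nat.shiftRight p2Ed (Nat.mul u (nat_lit 5))) (nat_lit 31)
noncomputable def p2Id : ℕ := nat_lit 0xc60f7366c5800a02500398b220c40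
noncomputable def p2I (u : ℕ) : ℕ := Nat.land (Nat.shiftRight p2Id (Nat.mul u (nat_lit 5))) (nat_lit 31)
noncomputable def p2B : List ℕ := [nat_lit 2, nat_lit 3, nat_lit 4, nat_lit 5, nat_lit 18, nat_lit 0]
noncomputable def p2C : List (List (List ℕ)) := [[[],
  [],
  [],
  [],
  [],
  [],
  [],
  []], [[],
  [],
  [],
  [],
  [nat_lit 0],
  [],
  [],
  []], [[],
  [],
  [],
  [nat_lit 0],
  [],
  [nat_lit 0],
  [nat_lit 1],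
  [nat_lit 0]], [[],
  [],
  [],
  [nat_lit 0],
  [nat_lit 0],
  [nat_lit 1],
  [nat_lit 0],
  [nat_lit 1]], [[],
  [],
  [],
  [],
  [],
  [nat_lit 2],
  [nat_lit 0, nat_lit 3],
  [nat_lit 2]], [[],
  [],
  [],
  [],
  [],
  [nat_lit 1],
  [nat_lit 0, nat_lit 1],
  [nat_lit 0]], [[],
  [],
  [],
  [],
  [],
  [],
  [nat_lit 0],
  [nat_lit 1]], [[],
  [],
  [],
  [],
  [],
  [],
  [],
  [nat_lit 0, nat_lit 1]]]
noncomputable def p2e : List (List ℕ) := [[],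
  [],
  [],
  [],
  [],
  [],
  [],
  [],
  [],
  [],
  [],
  [],
  [],
  [],
  [],
  [],
  [],
  [],
  [],
  [],
  [],
  [],
  [],
  [],
  [],
  [],
  [],
  [nat_lit 0, nat_lit 2, nat_lit 3, nat_lit 4, nat_lit 5, nat_lit 7],
  [],
  [],
  [],
  [],
  [nat_lit 0, nat_lit 6, nat_lit 7],
  [nat_lit 0, nat_lit 3, nat_lit 6],
  [nat_lit 0, nat_lit 6, nat_lit 7],
  [nat_lit 2, nat_lit 3, nat_lit 6, nat_lit 7],
  [nat_lit 0, nat_lit 6],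
  [nat_lit 0, nat_lit 3],
  [nat_lit 2, nat_lit 7],
  [nat_lit 0, nat_lit 3, nat_lit 4, nat_lit 7]]
noncomputable def p2l0Dd : ℕ := nat_lit 0x9c0
noncomputable def p2l0D (u : ℕ) : ℕ := Nat.land (Nat.shiftRight p2l0Dd (Nat.mul u (nat_lit 6))) (nat_lit 63)
noncomputable def p2l0Pd : ℕ := nat_lit 2
noncomputable def p2l0P (u : ℕ) : ℕ := Nat.land (Nat.shiftRight p2l0Pd (Nat.mul u (nat_lit 1))) (nat_lit 1)
noncomputable def p2l0Qd : ℕ := nat_lit 2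
noncomputable def p2l0Q (u : ℕ) : ℕ := Nat.land (Nat.shiftRight p2l0Qd (Nat.mul u (nat_lit 1))) (nat_lit 1)
noncomputable def p2l0 : H16.Lev := ⟨2, 40, p2l0D, p2l0P, p2l0Q⟩
noncomputable def p2l1Dd : ℕ := nat_lit 0xedee656e7873b596ca54aa0be3d219084200
noncomputable def p2l1D (u : ℕ) : ℕ := Nat.land (Nat.shiftRight p2l1Dd (Nat.mul u (nat_lit 9))) (nat_lit 511)
noncomputable def p2l1Pd : ℕ := nat_lit 0x3218468de53c60e52d22
noncomputable def p2l1P (u : ℕ) : ℕ := Nat.land (Nat.shiftRight p2l1Pd (Nat.mul u (nat_lit 5))) (nat_lit 31)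
noncomputable def p2l1Qd : ℕ := nat_lit 0x6594bd231e7f8ca000
noncomputable def p2l1Q (u : ℕ) : ℕ := Nat.land (Nat.shiftRight p2l1Qd (Nat.mul u (nat_lit 4))) (nat_lit 15)
noncomputable def p2l1 : H16.Lev := ⟨16, 34, p2l1D, p2l1P, p2l1Q⟩
noncomputable def p2l2Dd : ℕ := nat_lit 0xc4f1000
noncomputable def p2l2D (u : ℕ) : ℕ := Nat.land (Nat.shiftRight p2l2Dd (Nat.mul u (nat_lit 7))) (nat_lit 127)
noncomputable def p2l2Pd : ℕ := nat_lit 0xd7f3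
noncomputable def p2l2P (u : ℕ) : ℕ := Nat.land (Nat.shiftRight p2l2Pd (Nat.mul u (nat_lit 4))) (nat_lit 15)
noncomputable def p2l2Qd : ℕ := nat_lit 0x4c008000
noncomputable def p2l2Q (u : ℕ) : ℕ := Nat.land (Nat.shiftRight p2l2Qd (Nat.mul u (nat_lit 2))) (nat_lit 3)
noncomputable def p2l2 : H16.Lev := ⟨4, 33, p2l2D, p2l2P, p2l2Q⟩
noncomputable def p2l3Dd : ℕ := nat_lit 0x360
noncomputable def p2l3D (u : ℕ) : ℕ := Nat.land (Nat.shiftRight p2l3Dd (Nat.mul u (nat_lit 5))) (nat_lit 31)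
noncomputable def p2l3Pd : ℕ := nat_lit 0x224
noncomputable def p2l3P (u : ℕ) : ℕ := Nat.land (Nat.shiftRight p2l3Pd (Nat.mul u (nat_lit 5))) (nat_lit 31)
noncomputable def p2l3Qd : ℕ := nat_lit 0x20000
noncomputable def p2l3Q (u : ℕ) : ℕ := Nat.land (Nat.shiftRight p2l3Qd (Nat.mul u (nat_lit 1))) (nat_lit 1)
noncomputable def p2l3 : H16.Lev := ⟨2, 28, p2l3D, p2l3P, p2l3Q⟩
noncomputable def covr_W : List (List ℕ) := [[nat_lit 2, nat_lit 6, nat_lit 5, nat_lit 7, nat_lit 6, nat_lit 3, nat_lit 6, nat_lit 8, nat_lit 7, nat_lit 6, nat_lit 2],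
  [nat_lit 2, nat_lit 4, nat_lit 7, nat_lit 6, nat_lit 8, nat_lit 7, nat_lit 6, nat_lit 2, nat_lit 8, nat_lit 9],
  [nat_lit 7, nat_lit 3, nat_lit 6, nat_lit 3, nat_lit 7, nat_lit 6, nat_lit 8, nat_lit 7, nat_lit 6, nat_lit 1, nat_lit 4, nat_lit 9]]
noncomputable def covr_P : ℕ → ℕ → ℕ := wdsP H15.QS.YM22.P covr_W
noncomputable def covT0 : H0.TR.CT := (.split (.more (.split (.more (.split (.more (.split (.more (.split (.more (.split (.more (.split (.more (.split (.more .one (.more (.leaf (nat_lit 0) []) .one))) (.more (.fuse [nat_lit 4] [] (.leaf (nat_lit 0) [nat_lit 2, nat_lit 6, nat_lit 1, nat_lit 4, nat_lit 7])) .one))) (.more (.fuse [nat_lit 6] [] (.fuse [nat_lit 3] [] (.leaf (nat_lit 0) [nat_lit 0, nat_lit 1, nat_lit 2, nat_lit 5, nat_lit 7]))) .one))) (.more (.split (.more (.fuse [nat_lit 5] [] (.fuse [nat_lit 2] [] (.prune (nat_lit 0)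 (nat_lit 1) []))) (.more (.fuse [nat_lit 5] [nat_lit 0] (.fuse [nat_lit 2] [] (.leaf (nat_lit 0) [nat_lit 0, nat_lit 2, nat_lit 3, nat_lit 5]))) .one))) .one))) (.more (.fuse [nat_lit 6] [] (.fuse [nat_lit 5] [] (.split (.more (.fuse [nat_lit 1] [] (.leaf (nat_lit 1) [])) (.more (.fuse [nat_lit 1] [] (.prune (nat_lit 0) (nat_lit 1) [])) .one))))) .one))) (.more (.split (.more (.split (.more (.fuse [nat_lit 4] [nat_lit 0] (.fuse [nat_lit 3] [] (.prune (nat_lit 1) (nat_lit 1) []))) (.more (.fuse [nat_lit 4] [nat_lit 0] (.fuse [nat_lit 3] [] (.fuse [nat_lit 3, nat_lit 7] [] (.prune (nat_lit 0) (nat_lit 1) [])))) .one))) (.more (.fuse [nat_lit 6] [nat_lit 1] (.fuse [nat_lit 4] [nat_lit 0] (.prune (nat_lit 2) (nat_lit 1) [nat_lit 0, nat_lit 1]))) .one))) .one))) (.more (.split (.more (.split (.more (.fuse [nat_lit 4] [nat_lit 0] (.split (.more (.fuse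 [nat_lit 2] [] (.fuse [nat_lit 3] [] (.prune (nat_lit 0) (nat_lit 1) []))) (.more (.fuse [nat_lit 2] [] (.prune (nat_lit 1) (nat_lit 1) [nat_lit 0])) .one)))) (.more (.fuse [nat_lit 4] [] (.prune (nat_lit 3) (nat_lit 1) [])) .one))) (.more (.split (.more (.fuse [nat_lit 4] [nat_lit 1, nat_lit 2] (.split (.more (.fuse [nat_lit 2] [nat_lit 0] (.split (.more (.leaf (nat_lit 2) []) (.more (.leaf (nat_lit 1) [nat_lit 0, nat_lit 2, nat_lit 3, nat_lit 5]) .one)))) (.more (.fuse [nat_lit 2] [nat_lit 0] (.prune (nat_lit 1) (nat_lit 1) [nat_lit 0])) .one)))) (.more (.fuse [nat_lit 4] [nat_lit 1, nat_lit 2] (.prune (nat_lit 3) (nat_lit 1) [nat_lit 1, nat_lit 2])) .one))) .one))) .one))) (.more (.split (.more (.split (.more (.split (.more (.split (.more (.fuse [nat_lit 4] [nat_lit 0] (.fuse [nat_lit 3] [] (.prune (nat_lit 1) (nat_lit 1) [nat_lit 0])))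 (.more (.fuse [nat_lit 4] [nat_lit 0] (.fuse [nat_lit 3] [] (.fuse [nat_lit 3, nat_lit 5] [] (.leaf (nat_lit 0) [nat_lit 1, nat_lit 5, nat_lit 6, nat_lit 3, nat_lit 6, nat_lit 7, nat_lit 3])))) .one))) (.more (.fuse [nat_lit 6] [nat_lit 0, nat_lit 1] (.fuse [nat_lit 4] [nat_lit 0] (.prune (nat_lit 2) (nat_lit 1) [nat_lit 1]))) .one))) (.more (.split (.more (.split (.more (.split (.more (.split (.more (.fuse [nat_lit 4] [] (.leaf (nat_lit 2) [nat_lit 0, nat_lit 2, nat_lit 5, nat_lit 6, nat_lit 1, nat_lit 5])) (.more (.fuse [nat_lit 5] [] (.leaf (nat_lit 1) [nat_lit 8, nat_lit 5, nat_lit 6, nat_lit 0, nat_lit 7, nat_lit 8, nat_lit 7, nat_lit 6, nat_lit 1, nat_lit 0])) .one))) (.more (.fuse [nat_lit 6] [nat_lit 0] (.fuse [nat_lit 3] [] (.leaf (nat_lit 2) [nat_lit 0, nat_lit 2, nat_lit 4, nat_lit 6, nat_lit 7, nat_lit 6, nat_lit 2]))) .one))) (.more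 (.split (.more (.fuse [nat_lit 5] [nat_lit 0] (.fuse [nat_lit 2] [] (.prune (nat_lit 0) (nat_lit 1) []))) (.more (.fuse [nat_lit 5] [] (.fuse [nat_lit 2] [] (.leaf (nat_lit 1) [nat_lit 0, nat_lit 3, nat_lit 4]))) .one))) .one))) (.more (.fuse [nat_lit 6] [nat_lit 0] (.fuse [nat_lit 5] [nat_lit 0] (.split (.more (.fuse [nat_lit 1] [] (.prune (nat_lit 0) (nat_lit 1) [])) (.more (.fuse [nat_lit 1] [] (.leaf (nat_lit 0) [nat_lit 1, nat_lit 7, nat_lit 6, nat_lit 2, nat_lit 7, nat_lit 8, nat_lit 7, nat_lit 6, nat_lit 1, nat_lit 4])) .one))))) .one))) .one))) (.more (.split (.more (.split (.more (.fuse [nat_lit 4] [nat_lit 0, nat_lit 1, nat_lit 2] (.split (.more (.fuse [nat_lit 2] [nat_lit 0] (.fuse [nat_lit 2, nat_lit 5] [] (.leaf (nat_lit 0) [nat_lit 0, nat_lit 2, nat_lit 3, nat_lit 4, nat_lit 6, nat_lit 4, nat_lit 7]))) (.more (.fuse [nat_lit 2]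 [nat_lit 0] (.prune (nat_lit 1) (nat_lit 1) [nat_lit 0])) .one)))) (.more (.fuse [nat_lit 4] [nat_lit 0, nat_lit 1, nat_lit 2] (.prune (nat_lit 3) (nat_lit 1) [nat_lit 0, nat_lit 1, nat_lit 2])) .one))) (.more (.split (.more (.fuse [nat_lit 4] [nat_lit 0] (.split (.more (.fuse [nat_lit 2] [] (.fuse [nat_lit 3] [] (.leaf (nat_lit 2) [nat_lit 1, nat_lit 2, nat_lit 3, nat_lit 4, nat_lit 7, nat_lit 6, nat_lit 8]))) (.more (.fuse [nat_lit 2] [] (.prune (nat_lit 1) (nat_lit 1) [])) .one)))) (.more (.fuse [nat_lit 4] [] (.prune (nat_lit 3) (nat_lit 1) [nat_lit 0])) .one))) .one))) .one))) .one)))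
noncomputable def c0ax_W : List (List ℕ) := [[nat_lit 2, nat_lit 6, nat_lit 5, nat_lit 7, nat_lit 6, nat_lit 3, nat_lit 6, nat_lit 8, nat_lit 7, nat_lit 6, nat_lit 2]]
noncomputable def c0ax_P : ℕ → ℕ → ℕ := wdsP H15.QS.YM22.P c0ax_W
noncomputable def c0ath_W : List (List ℕ) := [[nat_lit 0, nat_lit 2, nat_lit 6, nat_lit 0, nat_lit 2],
  [nat_lit 1, nat_lit 6, nat_lit 1],
  [nat_lit 6, nat_lit 1, nat_lit 3, nat_lit 5],
  [nat_lit 0, nat_lit 4, nat_lit 6, nat_lit 4],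
  [nat_lit 6, nat_lit 3, nat_lit 6, nat_lit 4, nat_lit 2],
  [nat_lit 0, nat_lit 1, nat_lit 4, nat_lit 7, nat_lit 6, nat_lit 2, nat_lit 5],
  [nat_lit 0],
  [nat_lit 1],
  [nat_lit 2],
  [nat_lit 3],
  [nat_lit 4],
  [nat_lit 5],
  [nat_lit 6],
  [nat_lit 7],
  [nat_lit 8],
  [nat_lit 9]]
noncomputable def c0ath_P : ℕ → ℕ → ℕ := wdsP H15.QS.YM22.P c0ath_W
noncomputable def c0atl0Dd : ℕ := nat_lit 0xf0
noncomputable def c0atl0D (u : ℕ) : ℕ := Nat.land (Nat.shiftRight c0atl0Dd (Nat.mul u (nat_lit 4))) (nat_lit 15)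
noncomputable def c0atl0Pd : ℕ := nat_lit 0x2e0
noncomputable def c0atl0P (u : ℕ) : ℕ := Nat.land (Nat.shiftRight c0atl0Pd (Nat.mul u (nat_lit 5))) (nat_lit 31)
noncomputable def c0atl0Qd : ℕ := nat_lit 0x800000
noncomputable def c0atl0Q (u : ℕ) : ℕ := Nat.land (Nat.shiftRight c0atl0Qd (Nat.mul u (nat_lit 1))) (nat_lit 1)
noncomputable def c0atl0 : H16.Lev := ⟨2, 16, c0atl0D, c0atl0P, c0atl0Q⟩
noncomputable def c0atl1Dd : ℕ := nat_lit 0x31457185fb7c10df5184bd6b3448501e3e70700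
noncomputable def c0atl1D (u : ℕ) : ℕ := Nat.land (Nat.shiftRight c0atl1Dd (Nat.mul u (nat_lit 7))) (nat_lit 127)
noncomputable def c0atl1Pd : ℕ := nat_lit 0x295458b05914f625d289da698c41
noncomputable def c0atl1P (u : ℕ) : ℕ := Nat.land (Nat.shiftRight c0atl1Pd (Nat.mul u (nat_lit 5))) (nat_lit 31)
noncomputable def c0atl1Qd : ℕ := nat_lit 0x4a951a0f0624ab7b5533122e10400
noncomputable def c0atl1Q (u : ℕ) : ℕ := Nat.land (Nat.shiftRight c0atl1Qd (Nat.mul u (nat_lit 5))) (nat_lit 31)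
noncomputable def c0atl1 : H16.Lev := ⟨22, 15, c0atl1D, c0atl1P, c0atl1Q⟩
noncomputable def c0atl2Dd : ℕ := nat_lit 0x4bb6d0cc63e58895203878d182c509101c300
noncomputable def c0atl2D (u : ℕ) : ℕ := Nat.land (Nat.shiftRight c0atl2Dd (Nat.mul u (nat_lit 7))) (nat_lit 127)
noncomputable def c0atl2Pd : ℕ := nat_lit 0x23ae5183ca450dd49daa86a4cc
noncomputable def c0atl2P (u : ℕ) : ℕ := Nat.land (Nat.shiftRight c0atl2Pd (Nat.mul u (nat_lit 5))) (nat_lit 31)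
noncomputable def c0atl2Qd : ℕ := nat_lit 0x18a83c60f7246092c44985ac55000
noncomputable def c0atl2Q (u : ℕ) : ℕ := Nat.land (Nat.shiftRight c0atl2Qd (Nat.mul u (nat_lit 5))) (nat_lit 31)
noncomputable def c0atl2 : H16.Lev := ⟨21, 14, c0atl2D, c0atl2P, c0atl2Q⟩
noncomputable def c0atl3Dd : ℕ := nat_lit 0xcae9fac44992102a5058e18284880c1c280
noncomputable def c0atl3D (u : ℕ) : ℕ := Nat.land (Nat.shiftRight c0atl3Dd (Nat.mul u (nat_lit 7))) (nat_lit 127)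
noncomputable def c0atl3Pd : ℕ := nat_lit 0x5a096a42af2aa49744ed34c62
noncomputable def c0atl3P (u : ℕ) : ℕ := Nat.land (Nat.shiftRight c0atl3Pd (Nat.mul u (nat_lit 5))) (nat_lit 31)
noncomputable def c0atl3Qd : ℕ := nat_lit 0x41af124ce61c809a91228d7108000
noncomputable def c0atl3Q (u : ℕ) : ℕ := Nat.land (Nat.shiftRight c0atl3Qd (Nat.mul u (nat_lit 5))) (nat_lit 31)
noncomputable def c0atl3 : H16.Lev := ⟨20, 6, c0atl3D, c0atl3P, c0atl3Q⟩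
noncomputable def c0atl4Dd : ℕ := nat_lit 0x940
noncomputable def c0atl4D (u : ℕ) : ℕ := Nat.land (Nat.shiftRight c0atl4Dd (Nat.mul u (nat_lit 4))) (nat_lit 15)
noncomputable def c0atl4Pd : ℕ := nat_lit 0x2d12
noncomputable def c0atl4P (u : ℕ) : ℕ := Nat.land (Nat.shiftRight c0atl4Pd (Nat.mul u (nat_lit 5))) (nat_lit 31)
noncomputable def c0atl4Qd : ℕ := nat_lit 0x810000
noncomputable def c0atl4Q (u : ℕ) : ℕ := Nat.land (Nat.shiftRight c0atl4Qd (Nat.mul u (nat_lit 2))) (nat_lit 3)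
noncomputable def c0atl4 : H16.Lev := ⟨3, 5, c0atl4D, c0atl4P, c0atl4Q⟩
noncomputable def c0atl5Dd : ℕ := nat_lit 0xbe36d758f2ca1c6103080040
noncomputable def c0atl5D (u : ℕ) : ℕ := Nat.land (Nat.shiftRight c0atl5Dd (Nat.mul u (nat_lit 6))) (nat_lit 63)
noncomputable def c0atl5Pd : ℕ := nat_lit 0xa1215b3caa8a5c769a63
noncomputable def c0atl5P (u : ℕ) : ℕ := Nat.land (Nat.shiftRight c0atl5Pd (Nat.mul u (nat_lit 5))) (nat_lit 31)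
noncomputable def c0atl5Qd : ℕ := nat_lit 0xbcf107da5300860429e0000
noncomputable def c0atl5Q (u : ℕ) : ℕ := Nat.land (Nat.shiftRight c0atl5Qd (Nat.mul u (nat_lit 4))) (nat_lit 15)
noncomputable def c0atl5 : H16.Lev := ⟨16, 4, c0atl5D, c0atl5P, c0atl5Q⟩
noncomputable def c0ace_W : List (List ℕ) := [[nat_lit 0, nat_lit 1, nat_lit 4, nat_lit 6, nat_lit 3],
  [nat_lit 4, nat_lit 6, nat_lit 2, nat_lit 6, nat_lit 5],
  [nat_lit 0, nat_lit 1, nat_lit 6, nat_lit 2, nat_lit 7, nat_lit 6, nat_lit 0, nat_lit 1],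
  [nat_lit 7, nat_lit 3, nat_lit 6, nat_lit 1, nat_lit 7, nat_lit 6, nat_lit 5, nat_lit 1],
  [nat_lit 2, nat_lit 6, nat_lit 1, nat_lit 5, nat_lit 8, nat_lit 7, nat_lit 6, nat_lit 2, nat_lit 0, nat_lit 4],
  [nat_lit 1, nat_lit 6, nat_lit 2, nat_lit 7, nat_lit 8, nat_lit 7, nat_lit 6, nat_lit 2, nat_lit 7, nat_lit 4, nat_lit 0],
  [nat_lit 2, nat_lit 5, nat_lit 6, nat_lit 5, nat_lit 7, nat_lit 6, nat_lit 0, nat_lit 3, nat_lit 8, nat_lit 7, nat_lit 6, nat_lit 1, nat_lit 4, nat_lit 9]]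
noncomputable def c0ace_P : ℕ → ℕ → ℕ := wdsP H15.QS.YM22.P c0ace_W
noncomputable def c0acc5Dd : ℕ := nat_lit 0xd0
noncomputable def c0acc5D (u : ℕ) : ℕ := Nat.land (Nat.shiftRight c0acc5Dd (Nat.mul u (nat_lit 2))) (nat_lit 3)
noncomputable def c0acc5Pd : ℕ := nat_lit 0x2c2c3
noncomputable def c0acc5P (u : ℕ) : ℕ := Nat.land (Nat.shiftRight c0acc5Pd (Nat.mul u (nat_lit 5))) (nat_lit 31)
noncomputable def c0acc5Qd : ℕ := nat_lit 0x100200000c00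
noncomputable def c0acc5Q (u : ℕ) : ℕ := Nat.land (Nat.shiftRight c0acc5Qd (Nat.mul u (nat_lit 2))) (nat_lit 3)
noncomputable def c0acc5 : H16.Lev := ⟨4, 2, c0acc5D, c0acc5P, c0acc5Q⟩
noncomputable def c0atn0Fd : ℕ := nat_lit 0x7450c2695248
noncomputable def c0atn0F (u : ℕ) : ℕ := Nat.land (Nat.shiftRight c0atn0Fd (Nat.mul u (nat_lit 3))) (nat_lit 7)
noncomputable def c0atn0 : Nd := ⟨c0atn0F, (nat_lit 2), (nat_lit 2), [[nat_lit 0]], [((nat_lit 0), []), ((nat_lit 1), [nat_lit 0])], []⟩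
noncomputable def c0acc3Dd : ℕ := nat_lit 0xd98320
noncomputable def c0acc3D (u : ℕ) : ℕ := Nat.land (Nat.shiftRight c0acc3Dd (Nat.mul u (nat_lit 4))) (nat_lit 15)
noncomputable def c0acc3Pd : ℕ := nat_lit 0x28732642
noncomputable def c0acc3P (u : ℕ) : ℕ := Nat.land (Nat.shiftRight c0acc3Pd (Nat.mul u (nat_lit 5))) (nat_lit 31)
noncomputable def c0acc3Qd : ℕ := nat_lit 0x50400000108c0000
noncomputable def c0acc3Q (u : ℕ) : ℕ := Nat.land (Nat.shiftRight c0acc3Qd (Nat.mul u (nat_lit 3))) (nat_lit 7)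
noncomputable def c0acc3 : H16.Lev := ⟨6, 4, c0acc3D, c0acc3P, c0acc3Q⟩
noncomputable def c0atn1Fd : ℕ := nat_lit 0xbf94056a790045010b10
noncomputable def c0atn1F (u : ℕ) : ℕ := Nat.land (Nat.shiftRight c0atn1Fd (Nat.mul u (nat_lit 4))) (nat_lit 15)
noncomputable def c0atn1 : Nd := ⟨c0atn1F, (nat_lit 4), (nat_lit 4), [[nat_lit 0]], [((nat_lit 0), []), ((nat_lit 0), [nat_lit 0])], []⟩
noncomputable def c0acc1Dd : ℕ := nat_lit 0x6959644504ca38920d305100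
noncomputable def c0acc1D (u : ℕ) : ℕ := Nat.land (Nat.shiftRight c0acc1Dd (Nat.mul u (nat_lit 6))) (nat_lit 63)
noncomputable def c0acc1Pd : ℕ := nat_lit 0xb0ce6a16ac8264f54c41
noncomputable def c0acc1P (u : ℕ) : ℕ := Nat.land (Nat.shiftRight c0acc1Pd (Nat.mul u (nat_lit 5))) (nat_lit 31)
noncomputable def c0acc1Qd : ℕ := nat_lit 0xf9b250740080360dca0e100
noncomputable def c0acc1Q (u : ℕ) : ℕ := Nat.land (Nat.shiftRight c0acc1Qd (Nat.mul u (nat_lit 4))) (nat_lit 15)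
noncomputable def c0acc1 : H16.Lev := ⟨16, 6, c0acc1D, c0acc1P, c0acc1Q⟩
noncomputable def c0atn2Fd : ℕ := nat_lit 0xa80007b400000c03802000000
noncomputable def c0atn2F (u : ℕ) : ℕ := Nat.land (Nat.shiftRight c0atn2Fd (Nat.mul u (nat_lit 5))) (nat_lit 31)
noncomputable def c0atn2 : Nd := ⟨c0atn2F, (nat_lit 6), (nat_lit 6), [[nat_lit 0]], [((nat_lit 0), [])], []⟩
noncomputable def c0acc0Dd : ℕ := nat_lit 0x30
noncomputable def c0acc0D (u : ℕ) : ℕ := Nat.land (Nat.shiftRight c0acc0Dd (Nat.mul u (nat_lit 3))) (nat_lit 7)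
noncomputable def c0acc0Pd : ℕ := nat_lit 0x2e0
noncomputable def c0acc0P (u : ℕ) : ℕ := Nat.land (Nat.shiftRight c0acc0Pd (Nat.mul u (nat_lit 5))) (nat_lit 31)
noncomputable def c0acc0Qd : ℕ := nat_lit 0x800000
noncomputable def c0acc0Q (u : ℕ) : ℕ := Nat.land (Nat.shiftRight c0acc0Qd (Nat.mul u (nat_lit 1))) (nat_lit 1)
noncomputable def c0acc0 : H16.Lev := ⟨2, 7, c0acc0D, c0acc0P, c0acc0Q⟩
noncomputable def c0atn3Fd : ℕ := nat_lit 0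
noncomputable def c0atn3F (u : ℕ) : ℕ := Nat.land (Nat.shiftRight c0atn3Fd (Nat.mul u (nat_lit 1))) (nat_lit 1)
noncomputable def c0atn3 : Nd := ⟨c0atn3F, (nat_lit 7), (nat_lit 7), [], [((nat_lit 0), [])], []⟩
noncomputable def c1ax_W : List (List ℕ) := [[nat_lit 2, nat_lit 4, nat_lit 7, nat_lit 6, nat_lit 8, nat_lit 7, nat_lit 6, nat_lit 2, nat_lit 8, nat_lit 9]]
noncomputable def c1ax_P : ℕ → ℕ → ℕ := wdsP H15.QS.YM22.P c1ax_W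
noncomputable def c1ath_W : List (List ℕ) := [[nat_lit 0, nat_lit 1, nat_lit 7, nat_lit 6, nat_lit 2, nat_lit 7, nat_lit 4],
  [nat_lit 7, nat_lit 6, nat_lit 7],
  [nat_lit 7, nat_lit 4, nat_lit 6, nat_lit 5, nat_lit 7],
  [nat_lit 7, nat_lit 3, nat_lit 6, nat_lit 3, nat_lit 7],
  [nat_lit 2, nat_lit 5, nat_lit 7, nat_lit 6, nat_lit 2, nat_lit 7],
  [nat_lit 7, nat_lit 6, nat_lit 5, nat_lit 1],
  [nat_lit 0],
  [nat_lit 1],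
  [nat_lit 2],
  [nat_lit 3],
  [nat_lit 4],
  [nat_lit 5],
  [nat_lit 6],
  [nat_lit 7],
  [nat_lit 8],
  [nat_lit 9]]
noncomputable def c1ath_P : ℕ → ℕ → ℕ := wdsP H15.QS.YM22.P c1ath_W
noncomputable def c1atl0Dd : ℕ := nat_lit 0xf0
noncomputable def c1atl0D (u : ℕ) : ℕ := Nat.land (Nat.shiftRight c1atl0Dd (Nat.mul u (nat_lit 4))) (nat_lit 15)
noncomputable def c1atl0Pd : ℕ := nat_lit 0x2e0
noncomputable def c1atl0P (u : ℕ) : ℕ := Nat.land (Nat.shiftRight c1atl0Pd (Nat.mul u (nat_lit 5))) (nat_lit 31)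
noncomputable def c1atl0Qd : ℕ := nat_lit 0x800000
noncomputable def c1atl0Q (u : ℕ) : ℕ := Nat.land (Nat.shiftRight c1atl0Qd (Nat.mul u (nat_lit 1))) (nat_lit 1)
noncomputable def c1atl0 : H16.Lev := ⟨2, 16, c1atl0D, c1atl0P, c1atl0Q⟩
noncomputable def c1atl1Dd : ℕ := nat_lit 0x6c8854305336436a1e212720262513140f1211100e00
noncomputable def c1atl1D (u : ℕ) : ℕ := Nat.land (Nat.shiftRight c1atl1Dd (Nat.mul u (nat_lit 8))) (nat_lit 255)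
noncomputable def c1atl1Pd : ℕ := nat_lit 0x1c879ab2644859b69680d4959c41
noncomputable def c1atl1P (u : ℕ) : ℕ := Nat.land (Nat.shiftRight c1atl1Pd (Nat.mul u (nat_lit 5))) (nat_lit 31)
noncomputable def c1atl1Qd : ℕ := nat_lit 0x22295c1c79d54f194941498d30400
noncomputable def c1atl1Q (u : ℕ) : ℕ := Nat.land (Nat.shiftRight c1atl1Qd (Nat.mul u (nat_lit 5))) (nat_lit 31)
noncomputable def c1atl1 : H16.Lev := ⟨22, 15, c1atl1D, c1atl1P, c1atl1Q⟩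
noncomputable def c1atl2Dd : ℕ := nat_lit 0x365535319587c7162aace8d182c509101c300
noncomputable def c1atl2D (u : ℕ) : ℕ := Nat.land (Nat.shiftRight c1atl2Dd (Nat.mul u (nat_lit 7))) (nat_lit 127)
noncomputable def c1atl2Pd : ℕ := nat_lit 0x38c152389cf22cb49daa86a4cc
noncomputable def c1atl2P (u : ℕ) : ℕ := Nat.land (Nat.shiftRight c1atl2Pd (Nat.mul u (nat_lit 5))) (nat_lit 31)
noncomputable def c1atl2Qd : ℕ := nat_lit 0x18a83c27263460544447852ba3800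
noncomputable def c1atl2Q (u : ℕ) : ℕ := Nat.land (Nat.shiftRight c1atl2Qd (Nat.mul u (nat_lit 5))) (nat_lit 31)
noncomputable def c1atl2 : H16.Lev := ⟨21, 14, c1atl2D, c1atl2P, c1atl2Q⟩
noncomputable def c1atl3Dd : ℕ := nat_lit 0xb34eaaa5274c17245480c1e28309101c280
noncomputable def c1atl3D (u : ℕ) : ℕ := Nat.land (Nat.shiftRight c1atl3Dd (Nat.mul u (nat_lit 7))) (nat_lit 127)
noncomputable def c1atl3Pd : ℕ := nat_lit 0x7d5d4b49068ce0a4ac85688e3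
noncomputable def c1atl3P (u : ℕ) : ℕ := Nat.land (Nat.shiftRight c1atl3Pd (Nat.mul u (nat_lit 5))) (nat_lit 31)
noncomputable def c1atl3Qd : ℕ := nat_lit 0x3e50539699c460320ed0b08500800
noncomputable def c1atl3Q (u : ℕ) : ℕ := Nat.land (Nat.shiftRight c1atl3Qd (Nat.mul u (nat_lit 5))) (nat_lit 31)
noncomputable def c1atl3 : H16.Lev := ⟨20, 6, c1atl3D, c1atl3P, c1atl3Q⟩
noncomputable def c1atl4Dd : ℕ := nat_lit 0x940
noncomputable def c1atl4D (u : ℕ) : ℕ := Nat.land (Nat.shiftRight c1atl4Dd (Nat.mul u (nat_lit 4))) (nat_lit 15)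
noncomputable def c1atl4Pd : ℕ := nat_lit 0x59f5
noncomputable def c1atl4P (u : ℕ) : ℕ := Nat.land (Nat.shiftRight c1atl4Pd (Nat.mul u (nat_lit 5))) (nat_lit 31)
noncomputable def c1atl4Qd : ℕ := nat_lit 0x200040000000
noncomputable def c1atl4Q (u : ℕ) : ℕ := Nat.land (Nat.shiftRight c1atl4Qd (Nat.mul u (nat_lit 2))) (nat_lit 3)
noncomputable def c1atl4 : H16.Lev := ⟨3, 5, c1atl4D, c1atl4P, c1atl4Q⟩
noncomputable def c1atl5Dd : ℕ := nat_lit 0xb206145cc20b1071800c2040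
noncomputable def c1atl5D (u : ℕ) : ℕ := Nat.land (Nat.shiftRight c1atl5Dd (Nat.mul u (nat_lit 6))) (nat_lit 63)
noncomputable def c1atl5Pd : ℕ := nat_lit 0x8454e5924da08c83cd25
noncomputable def c1atl5P (u : ℕ) : ℕ := Nat.land (Nat.shiftRight c1atl5Pd (Nat.mul u (nat_lit 5))) (nat_lit 31)
noncomputable def c1atl5Qd : ℕ := nat_lit 0x729ef0c80bd14350a0600
noncomputable def c1atl5Q (u : ℕ) : ℕ := Nat.land (Nat.shiftRight c1atl5Qd (Nat.mul u (nat_lit 4))) (nat_lit 15)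
noncomputable def c1atl5 : H16.Lev := ⟨16, 4, c1atl5D, c1atl5P, c1atl5Q⟩
noncomputable def c1ace_W : List (List ℕ) := [[nat_lit 2, nat_lit 3, nat_lit 7, nat_lit 6, nat_lit 3, nat_lit 7],
  [nat_lit 7, nat_lit 1, nat_lit 6, nat_lit 3, nat_lit 2, nat_lit 5, nat_lit 7],
  [nat_lit 4, nat_lit 6, nat_lit 4, nat_lit 7, nat_lit 6, nat_lit 5],
  [nat_lit 0, nat_lit 1, nat_lit 3, nat_lit 6, nat_lit 0, nat_lit 7, nat_lit 6, nat_lit 5],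
  [nat_lit 1, nat_lit 2, nat_lit 5, nat_lit 6, nat_lit 3, nat_lit 7, nat_lit 6, nat_lit 5],
  [nat_lit 4, nat_lit 8, nat_lit 5, nat_lit 2, nat_lit 5, nat_lit 7, nat_lit 6, nat_lit 2, nat_lit 7, nat_lit 8],
  [nat_lit 3, nat_lit 6, nat_lit 7, nat_lit 6, nat_lit 1, nat_lit 5, nat_lit 8, nat_lit 0, nat_lit 9]]
noncomputable def c1ace_P : ℕ → ℕ → ℕ := wdsP H15.QS.YM22.P c1ace_W
noncomputable def c1acc5Dd : ℕ := nat_lit 0xd7451200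
noncomputable def c1acc5D (u : ℕ) : ℕ := Nat.land (Nat.shiftRight c1acc5Dd (Nat.mul u (nat_lit 4))) (nat_lit 15)
noncomputable def c1acc5Pd : ℕ := nat_lit 0x7428d54ce5
noncomputable def c1acc5P (u : ℕ) : ℕ := Nat.land (Nat.shiftRight c1acc5Pd (Nat.mul u (nat_lit 5))) (nat_lit 31)
noncomputable def c1acc5Qd : ℕ := nat_lit 0x54061e00c0200000
noncomputable def c1acc5Q (u : ℕ) : ℕ := Nat.land (Nat.shiftRight c1acc5Qd (Nat.mul u (nat_lit 3))) (nat_lit 7)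
noncomputable def c1acc5 : H16.Lev := ⟨8, 3, c1acc5D, c1acc5P, c1acc5Q⟩
noncomputable def c1atn0Fd : ℕ := nat_lit 0x70084a003570010
noncomputable def c1atn0F (u : ℕ) : ℕ := Nat.land (Nat.shiftRight c1atn0Fd (Nat.mul u (nat_lit 4))) (nat_lit 15)
noncomputable def c1atn0 : Nd := ⟨c1atn0F, (nat_lit 3), (nat_lit 3), [[nat_lit 0]], [((nat_lit 0), [])], []⟩
noncomputable def c1acc3Dd : ℕ := nat_lit 0xb274904492cc2840c0
noncomputable def c1acc3D (u : ℕ) : ℕ := Nat.land (Nat.shiftRight c1acc3Dd (Nat.mul u (nat_lit 6))) (nat_lit 63)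
noncomputable def c1acc3Pd : ℕ := nat_lit 0xada65834ee551e3
noncomputable def c1acc3P (u : ℕ) : ℕ := Nat.land (Nat.shiftRight c1acc3Pd (Nat.mul u (nat_lit 5))) (nat_lit 31)
noncomputable def c1acc3Qd : ℕ := nat_lit 0xab290071460030050800000
noncomputable def c1acc3Q (u : ℕ) : ℕ := Nat.land (Nat.shiftRight c1acc3Qd (Nat.mul u (nat_lit 4))) (nat_lit 15)
noncomputable def c1acc3 : H16.Lev := ⟨12, 5, c1acc3D, c1acc3P, c1acc3Q⟩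
noncomputable def c1atn1Fd : ℕ := nat_lit 0x2ccc8000029d6000400
noncomputable def c1atn1F (u : ℕ) : ℕ := Nat.land (Nat.shiftRight c1atn1Fd (Nat.mul u (nat_lit 5))) (nat_lit 31)
noncomputable def c1atn1 : Nd := ⟨c1atn1F, (nat_lit 5), (nat_lit 5), [[nat_lit 0]], [((nat_lit 0), [])], []⟩
noncomputable def c1acc1Dd : ℕ := nat_lit 0x8e271678d38a247206140
noncomputable def c1acc1D (u : ℕ) : ℕ := Nat.land (Nat.shiftRight c1acc1Dd (Nat.mul u (nat_lit 6))) (nat_lit 63)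
noncomputable def c1acc1Pd : ℕ := nat_lit 0x19578ceda58b353a01
noncomputable def c1acc1P (u : ℕ) : ℕ := Nat.land (Nat.shiftRight c1acc1Pd (Nat.mul u (nat_lit 5))) (nat_lit 31)
noncomputable def c1acc1Qd : ℕ := nat_lit 0x6c74001b28d03009050a000
noncomputable def c1acc1Q (u : ℕ) : ℕ := Nat.land (Nat.shiftRight c1acc1Qd (Nat.mul u (nat_lit 4))) (nat_lit 15)
noncomputable def c1acc1 : H16.Lev := ⟨14, 6, c1acc1D, c1acc1P, c1acc1Q⟩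
noncomputable def c1atn2Fd : ℕ := nat_lit 0x70380d04da0000000000640020
noncomputable def c1atn2F (u : ℕ) : ℕ := Nat.land (Nat.shiftRight c1atn2Fd (Nat.mul u (nat_lit 5))) (nat_lit 31)
noncomputable def c1atn2 : Nd := ⟨c1atn2F, (nat_lit 6), (nat_lit 6), [[nat_lit 0]], [((nat_lit 0), [])], []⟩
noncomputable def c1acc0Dd : ℕ := nat_lit 0x30
noncomputable def c1acc0D (u : ℕ) : ℕ := Nat.land (Nat.shiftRight c1acc0Dd (Nat.mul u (nat_lit 3))) (nat_lit 7)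
noncomputable def c1acc0Pd : ℕ := nat_lit 0x2e0
noncomputable def c1acc0P (u : ℕ) : ℕ := Nat.land (Nat.shiftRight c1acc0Pd (Nat.mul u (nat_lit 5))) (nat_lit 31)
noncomputable def c1acc0Qd : ℕ := nat_lit 0x800000
noncomputable def c1acc0Q (u : ℕ) : ℕ := Nat.land (Nat.shiftRight c1acc0Qd (Nat.mul u (nat_lit 1))) (nat_lit 1)
noncomputable def c1acc0 : H16.Lev := ⟨2, 7, c1acc0D, c1acc0P, c1acc0Q⟩
noncomputable def c1atn3Fd : ℕ := nat_lit 0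
noncomputable def c1atn3F (u : ℕ) : ℕ := Nat.land (Nat.shiftRight c1atn3Fd (Nat.mul u (nat_lit 1))) (nat_lit 1)
noncomputable def c1atn3 : Nd := ⟨c1atn3F, (nat_lit 7), (nat_lit 7), [], [((nat_lit 0), [])], []⟩
noncomputable def c1v_W : List (List ℕ) := [[nat_lit 4, nat_lit 6, nat_lit 1, nat_lit 4, nat_lit 7, nat_lit 6, nat_lit 5],
  [nat_lit 0, nat_lit 1, nat_lit 6, nat_lit 2, nat_lit 7, nat_lit 6, nat_lit 0, nat_lit 1],
  [nat_lit 2, nat_lit 6, nat_lit 0, nat_lit 1, nat_lit 2, nat_lit 7, nat_lit 6, nat_lit 2, nat_lit 7, nat_lit 8, nat_lit 7, nat_lit 6, nat_lit 8]]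
noncomputable def c1v_P : ℕ → ℕ → ℕ := wdsP H15.QS.YM22.P c1v_W
noncomputable def c1cth_W : List (List ℕ) := [[nat_lit 2, nat_lit 6, nat_lit 4, nat_lit 7, nat_lit 6, nat_lit 0, nat_lit 1, nat_lit 8, nat_lit 7, nat_lit 6, nat_lit 9],
  [nat_lit 2, nat_lit 6, nat_lit 0, nat_lit 1, nat_lit 7, nat_lit 8, nat_lit 7, nat_lit 6, nat_lit 2, nat_lit 3],
  [nat_lit 0, nat_lit 2, nat_lit 4, nat_lit 6, nat_lit 4, nat_lit 7, nat_lit 8, nat_lit 7],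
  [nat_lit 0, nat_lit 1, nat_lit 6, nat_lit 0, nat_lit 3, nat_lit 7, nat_lit 8, nat_lit 7, nat_lit 6, nat_lit 0],
  [nat_lit 0, nat_lit 2, nat_lit 6, nat_lit 4, nat_lit 8, nat_lit 7, nat_lit 6, nat_lit 8, nat_lit 6, nat_lit 2],
  [nat_lit 0],
  [nat_lit 1],
  [nat_lit 2],
  [nat_lit 3],
  [nat_lit 4],
  [nat_lit 5],
  [nat_lit 6],
  [nat_lit 7],
  [nat_lit 8],
  [nat_lit 9]]
noncomputable def c1cth_P : ℕ → ℕ → ℕ := wdsP H15.QS.YM22.P c1cth_W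
noncomputable def c1ctl0Dd : ℕ := nat_lit 0x264dacc3ec5a4e901d70ddb1a6ad19b21c34600
noncomputable def c1ctl0D (u : ℕ) : ℕ := Nat.land (Nat.shiftRight c1ctl0Dd (Nat.mul u (nat_lit 7))) (nat_lit 127)
noncomputable def c1ctl0Pd : ℕ := nat_lit 0x1d12a5f359e84932cd32a08a8462
noncomputable def c1ctl0P (u : ℕ) : ℕ := Nat.land (Nat.shiftRight c1ctl0Pd (Nat.mul u (nat_lit 5))) (nat_lit 31)
noncomputable def c1ctl0Qd : ℕ := nat_lit 0x246d82e858d50a79a4471e6c08040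
noncomputable def c1ctl0Q (u : ℕ) : ℕ := Nat.land (Nat.shiftRight c1ctl0Qd (Nat.mul u (nat_lit 5))) (nat_lit 31)
noncomputable def c1ctl0 : H16.Lev := ⟨22, 15, c1ctl0D, c1ctl0P, c1ctl0Q⟩
noncomputable def c1ctl1Dd : ℕ := nat_lit 0x3d21727c61aed1ac4054f9426485880e18280
noncomputable def c1ctl1D (u : ℕ) : ℕ := Nat.land (Nat.shiftRight c1ctl1Dd (Nat.mul u (nat_lit 7))) (nat_lit 127)
noncomputable def c1ctl1Pd : ℕ := nat_lit 0x309db1b150baa9f49b1d091924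
noncomputable def c1ctl1P (u : ℕ) : ℕ := Nat.land (Nat.shiftRight c1ctl1Pd (Nat.mul u (nat_lit 5))) (nat_lit 31)
noncomputable def c1ctl1Qd : ℕ := nat_lit 0x3d6838e04496266282d909c0a0260
noncomputable def c1ctl1Q (u : ℕ) : ℕ := Nat.land (Nat.shiftRight c1ctl1Qd (Nat.mul u (nat_lit 5))) (nat_lit 31)
noncomputable def c1ctl1 : H16.Lev := ⟨21, 12, c1ctl1D, c1ctl1P, c1ctl1Q⟩
noncomputable def c1ctl2Dd : ℕ := nat_lit 0xeb0a2962f4e054e34928b18c1c40c0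
noncomputable def c1ctl2D (u : ℕ) : ℕ := Nat.land (Nat.shiftRight c1ctl2Dd (Nat.mul u (nat_lit 6))) (nat_lit 63)
noncomputable def c1ctl2Pd : ℕ := nat_lit 0xac9a38d27041c2eb24cc53cab
noncomputable def c1ctl2P (u : ℕ) : ℕ := Nat.land (Nat.shiftRight c1ctl2Pd (Nat.mul u (nat_lit 5))) (nat_lit 31)
noncomputable def c1ctl2Qd : ℕ := nat_lit 0x1e6e6c9ec1222400ccb5142080120
noncomputable def c1ctl2Q (u : ℕ) : ℕ := Nat.land (Nat.shiftRight c1ctl2Qd (Nat.mul u (nat_lit 5))) (nat_lit 31)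
noncomputable def c1ctl2 : H16.Lev := ⟨20, 5, c1ctl2D, c1ctl2P, c1ctl2Q⟩
noncomputable def c1ctl3Dd : ℕ := nat_lit 0xfe399bce9152cc719440
noncomputable def c1ctl3D (u : ℕ) : ℕ := Nat.land (Nat.shiftRight c1ctl3Dd (Nat.mul u (nat_lit 5))) (nat_lit 31)
noncomputable def c1ctl3Pd : ℕ := nat_lit 0x458e98b28f805d31b6b2
noncomputable def c1ctl3P (u : ℕ) : ℕ := Nat.land (Nat.shiftRight c1ctl3Pd (Nat.mul u (nat_lit 5))) (nat_lit 31)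
noncomputable def c1ctl3Qd : ℕ := nat_lit 0xe1940b7852a00cfd0003060
noncomputable def c1ctl3Q (u : ℕ) : ℕ := Nat.land (Nat.shiftRight c1ctl3Qd (Nat.mul u (nat_lit 4))) (nat_lit 15)
noncomputable def c1ctl3 : H16.Lev := ⟨16, 3, c1ctl3D, c1ctl3P, c1ctl3Q⟩
noncomputable def c1ctl4Dd : ℕ := nat_lit 0x34
noncomputable def c1ctl4D (u : ℕ) : ℕ := Nat.land (Nat.shiftRight c1ctl4Dd (Nat.mul u (nat_lit 2))) (nat_lit 3)
noncomputable def c1ctl4Pd : ℕ := nat_lit 0x5a6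
noncomputable def c1ctl4P (u : ℕ) : ℕ := Nat.land (Nat.shiftRight c1ctl4Pd (Nat.mul u (nat_lit 4))) (nat_lit 15)
noncomputable def c1ctl4Qd : ℕ := nat_lit 0x100800
noncomputable def c1ctl4Q (u : ℕ) : ℕ := Nat.land (Nat.shiftRight c1ctl4Qd (Nat.mul u (nat_lit 2))) (nat_lit 3)
noncomputable def c1ctl4 : H16.Lev := ⟨3, 2, c1ctl4D, c1ctl4P, c1ctl4Q⟩
noncomputable def c1ctl5Dd : ℕ := nat_lit 0
noncomputable def c1ctl5D (u : ℕ) : ℕ := Nat.land (Nat.shiftRight c1ctl5Dd (Nat.mul u (nat_lit 1))) (nat_lit 1)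
noncomputable def c1ctl5Pd : ℕ := nat_lit 0xc1
noncomputable def c1ctl5P (u : ℕ) : ℕ := Nat.land (Nat.shiftRight c1ctl5Pd (Nat.mul u (nat_lit 4))) (nat_lit 15)
noncomputable def c1ctl5Qd : ℕ := nat_lit 0x1000
noncomputable def c1ctl5Q (u : ℕ) : ℕ := Nat.land (Nat.shiftRight c1ctl5Qd (Nat.mul u (nat_lit 1))) (nat_lit 1)
noncomputable def c1ctl5 : H16.Lev := ⟨2, 1, c1ctl5D, c1ctl5P, c1ctl5Q⟩
noncomputable def c1ce_W : List (List ℕ) := [[nat_lit 2, nat_lit 4, nat_lit 7, nat_lit 6, nat_lit 8, nat_lit 7, nat_lit 6, nat_lit 2, nat_lit 8, nat_lit 9],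
  [nat_lit 1, nat_lit 7, nat_lit 3, nat_lit 9],
  [nat_lit 7, nat_lit 6, nat_lit 2, nat_lit 6, nat_lit 4, nat_lit 9],
  [nat_lit 4, nat_lit 6, nat_lit 1, nat_lit 4, nat_lit 7, nat_lit 6, nat_lit 5]]
noncomputable def c1ce_P : ℕ → ℕ → ℕ := wdsP H15.QS.YM22.P c1ce_W
noncomputable def c1cc5Dd : ℕ := nat_lit 0
noncomputable def c1cc5D (u : ℕ) : ℕ := Nat.land (Nat.shiftRight c1cc5Dd (Nat.mul u (nat_lit 1))) (nat_lit 1)
noncomputable def c1cc5Pd : ℕ := nat_lit 0xc1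
noncomputable def c1cc5P (u : ℕ) : ℕ := Nat.land (Nat.shiftRight c1cc5Pd (Nat.mul u (nat_lit 4))) (nat_lit 15)
noncomputable def c1cc5Qd : ℕ := nat_lit 0x1000
noncomputable def c1cc5Q (u : ℕ) : ℕ := Nat.land (Nat.shiftRight c1cc5Qd (Nat.mul u (nat_lit 1))) (nat_lit 1)
noncomputable def c1cc5 : H16.Lev := ⟨2, 1, c1cc5D, c1cc5P, c1cc5Q⟩
noncomputable def c1ctn0Fd : ℕ := nat_lit 0
noncomputable def c1ctn0F (u : ℕ) : ℕ := Nat.land (Nat.shiftRight c1ctn0Fd (Nat.mul u (nat_lit 1))) (nat_lit 1)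
noncomputable def c1ctn0 : Nd := ⟨c1ctn0F, (nat_lit 2), (nat_lit 1), [], [((nat_lit 0), [])], []⟩
noncomputable def c1cc0Dd : ℕ := nat_lit 0x9ace618820
noncomputable def c1cc0D (u : ℕ) : ℕ := Nat.land (Nat.shiftRight c1cc0Dd (Nat.mul u (nat_lit 5))) (nat_lit 31)
noncomputable def c1cc0Pd : ℕ := nat_lit 0x944c85a482
noncomputable def c1cc0P (u : ℕ) : ℕ := Nat.land (Nat.shiftRight c1cc0Pd (Nat.mul u (nat_lit 5))) (nat_lit 31)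
noncomputable def c1cc0Qd : ℕ := nat_lit 0x1f0000614141000
noncomputable def c1cc0Q (u : ℕ) : ℕ := Nat.land (Nat.shiftRight c1cc0Qd (Nat.mul u (nat_lit 3))) (nat_lit 7)
noncomputable def c1cc0 : H16.Lev := ⟨8, 4, c1cc0D, c1cc0P, c1cc0Q⟩
noncomputable def c1ctn1Fd : ℕ := nat_lit 0x30a3e148109048a48
noncomputable def c1ctn1F (u : ℕ) : ℕ := Nat.land (Nat.shiftRight c1ctn1Fd (Nat.mul u (nat_lit 3))) (nat_lit 7)
noncomputable def c1ctn1 : Nd := ⟨c1ctn1F, (nat_lit 4), (nat_lit 4), [[nat_lit 0],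
  [nat_lit 1],
  [nat_lit 0, nat_lit 1]], [((nat_lit 0), [])], []⟩
noncomputable def c1nW : List (List (List ℕ)) := [[[nat_lit 1],
  [nat_lit 0],
  [nat_lit 2]], [[nat_lit 0],
  [nat_lit 1],
  [nat_lit 2]], [[nat_lit 0],
  [nat_lit 1],
  [nat_lit 0, nat_lit 1, nat_lit 2]], [[nat_lit 0],
  [nat_lit 1],
  [nat_lit 1, nat_lit 2]], [[nat_lit 1],
  [nat_lit 0, nat_lit 1],
  [nat_lit 2]], [[nat_lit 0],
  [nat_lit 0, nat_lit 2],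
  [nat_lit 0, nat_lit 1, nat_lit 2]], [[nat_lit 0, nat_lit 1, nat_lit 2],
  [nat_lit 2],
  [nat_lit 0, nat_lit 2]]]
noncomputable def c2ax_W : List (List ℕ) := [[nat_lit 7, nat_lit 3, nat_lit 6, nat_lit 3, nat_lit 7, nat_lit 6, nat_lit 8, nat_lit 7, nat_lit 6, nat_lit 1, nat_lit 4, nat_lit 9]]
noncomputable def c2ax_P : ℕ → ℕ → ℕ := wdsP H15.QS.YM22.P c2ax_W
noncomputable def c2ath_W : List (List ℕ) := [[nat_lit 0, nat_lit 4, nat_lit 6, nat_lit 1, nat_lit 5],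
  [nat_lit 6],
  [nat_lit 4, nat_lit 6, nat_lit 3],
  [nat_lit 7, nat_lit 1, nat_lit 6, nat_lit 1, nat_lit 4],
  [nat_lit 0],
  [nat_lit 1],
  [nat_lit 2],
  [nat_lit 3],
  [nat_lit 4],
  [nat_lit 5],
  [nat_lit 7],
  [nat_lit 8],
  [nat_lit 9]]
noncomputable def c2ath_P : ℕ → ℕ → ℕ := wdsP H15.QS.YM22.P c2ath_W
noncomputable def c2atl0Dd : ℕ := nat_lit 0xc0
noncomputable def c2atl0D (u : ℕ) : ℕ := Nat.land (Nat.shiftRight c2atl0Dd (Nat.mul u (nat_lit 4))) (nat_lit 15)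
noncomputable def c2atl0Pd : ℕ := nat_lit 0x2e0
noncomputable def c2atl0P (u : ℕ) : ℕ := Nat.land (Nat.shiftRight c2atl0Pd (Nat.mul u (nat_lit 5))) (nat_lit 31)
noncomputable def c2atl0Qd : ℕ := nat_lit 0x800000
noncomputable def c2atl0Q (u : ℕ) : ℕ := Nat.land (Nat.shiftRight c2atl0Qd (Nat.mul u (nat_lit 1))) (nat_lit 1)
noncomputable def c2atl0 : H16.Lev := ⟨2, 13, c2atl0D, c2atl0P, c2atl0Q⟩
noncomputable def c2atl1Dd : ℕ := nat_lit 0x5a334285373e366d61352b2a261b2928181a190f0b00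
noncomputable def c2atl1D (u : ℕ) : ℕ := Nat.land (Nat.shiftRight c2atl1Dd (Nat.mul u (nat_lit 8))) (nat_lit 255)
noncomputable def c2atl1Pd : ℕ := nat_lit 0x125a4655810cab31c89bceb68c41
noncomputable def c2atl1P (u : ℕ) : ℕ := Nat.land (Nat.shiftRight c2atl1Pd (Nat.mul u (nat_lit 5))) (nat_lit 31)
noncomputable def c2atl1Qd : ℕ := nat_lit 0x2e133c64f3246a232a82b68e10400
noncomputable def c2atl1Q (u : ℕ) : ℕ := Nat.land (Nat.shiftRight c2atl1Qd (Nat.mul u (nat_lit 5))) (nat_lit 31)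
noncomputable def c2atl1 : H16.Lev := ⟨22, 12, c2atl1D, c2atl1P, c2atl1Q⟩
noncomputable def c2atl2Dd : ℕ := nat_lit 0xb34f391e1d16231c120b110d100a0c080706050400
noncomputable def c2atl2D (u : ℕ) : ℕ := Nat.land (Nat.shiftRight c2atl2Dd (Nat.mul u (nat_lit 8))) (nat_lit 255)
noncomputable def c2atl2Pd : ℕ := nat_lit 0x21bea859db02ca26b39549b089
noncomputable def c2atl2P (u : ℕ) : ℕ := Nat.land (Nat.shiftRight c2atl2Pd (Nat.mul u (nat_lit 5))) (nat_lit 31)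
noncomputable def c2atl2Qd : ℕ := nat_lit 0x1e241a92c919a279410721619d000
noncomputable def c2atl2Q (u : ℕ) : ℕ := Nat.land (Nat.shiftRight c2atl2Qd (Nat.mul u (nat_lit 5))) (nat_lit 31)
noncomputable def c2atl2 : H16.Lev := ⟨21, 11, c2atl2D, c2atl2P, c2atl2Q⟩
noncomputable def c2atl3Dd : ℕ := nat_lit 0x847d51b2874d0f2048c951c283840c14180
noncomputable def c2atl3D (u : ℕ) : ℕ := Nat.land (Nat.shiftRight c2atl3Dd (Nat.mul u (nat_lit 7))) (nat_lit 127)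
noncomputable def c2atl3Pd : ℕ := nat_lit 0x7d26a6464585486b39075b462
noncomputable def c2atl3P (u : ℕ) : ℕ := Nat.land (Nat.shiftRight c2atl3Pd (Nat.mul u (nat_lit 5))) (nat_lit 31)
noncomputable def c2atl3Qd : ℕ := nat_lit 0x1d528b5cb9984f1c0052218908000
noncomputable def c2atl3Q (u : ℕ) : ℕ := Nat.land (Nat.shiftRight c2atl3Qd (Nat.mul u (nat_lit 5))) (nat_lit 31)
noncomputable def c2atl3 : H16.Lev := ⟨20, 4, c2atl3D, c2atl3P, c2atl3Q⟩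
noncomputable def c2atl4Dd : ℕ := nat_lit 0x85e6d24ce2d02880c7142040
noncomputable def c2atl4D (u : ℕ) : ℕ := Nat.land (Nat.shiftRight c2atl4Dd (Nat.mul u (nat_lit 6))) (nat_lit 63)
noncomputable def c2atl4Pd : ℕ := nat_lit 0x2a20622cf163ac39b6b2
noncomputable def c2atl4P (u : ℕ) : ℕ := Nat.land (Nat.shiftRight c2atl4Pd (Nat.mul u (nat_lit 5))) (nat_lit 31)
noncomputable def c2atl4Qd : ℕ := nat_lit 0x510308d0627a00e9cfb4000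
noncomputable def c2atl4Q (u : ℕ) : ℕ := Nat.land (Nat.shiftRight c2atl4Qd (Nat.mul u (nat_lit 4))) (nat_lit 15)
noncomputable def c2atl4 : H16.Lev := ⟨16, 3, c2atl4D, c2atl4P, c2atl4Q⟩
noncomputable def c2atl5Dd : ℕ := nat_lit 4
noncomputable def c2atl5D (u : ℕ) : ℕ := Nat.land (Nat.shiftRight c2atl5Dd (Nat.mul u (nat_lit 1))) (nat_lit 1)
noncomputable def c2atl5Pd : ℕ := nat_lit 0x40e3
noncomputable def c2atl5P (u : ℕ) : ℕ := Nat.land (Nat.shiftRight c2atl5Pd (Nat.mul u (nat_lit 5))) (nat_lit 31)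
noncomputable def c2atl5Qd : ℕ := nat_lit 0x200004000
noncomputable def c2atl5Q (u : ℕ) : ℕ := Nat.land (Nat.shiftRight c2atl5Qd (Nat.mul u (nat_lit 2))) (nat_lit 3)
noncomputable def c2atl5 : H16.Lev := ⟨3, 1, c2atl5D, c2atl5P, c2atl5Q⟩
noncomputable def c2ace_W : List (List ℕ) := [[nat_lit 5, nat_lit 6, nat_lit 2, nat_lit 7, nat_lit 6, nat_lit 4],
  [nat_lit 1, nat_lit 6, nat_lit 1, nat_lit 5, nat_lit 7, nat_lit 6, nat_lit 3, nat_lit 2],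
  [nat_lit 6, nat_lit 7, nat_lit 6, nat_lit 1, nat_lit 5, nat_lit 6, nat_lit 8],
  [nat_lit 8, nat_lit 3, nat_lit 4, nat_lit 6, nat_lit 4, nat_lit 2, nat_lit 9]]
noncomputable def c2ace_P : ℕ → ℕ → ℕ := wdsP H15.QS.YM22.P c2ace_W
noncomputable def c2atn0Fd : ℕ := nat_lit 6
noncomputable def c2atn0F (u : ℕ) : ℕ := Nat.land (Nat.shiftRight c2atn0Fd (Nat.mul u (nat_lit 1))) (nat_lit 1)
noncomputable def c2atn0 : Nd := ⟨c2atn0F, (nat_lit 2), (nat_lit 0), [], [((nat_lit 0), []), ((nat_lit 1), [nat_lit 0])], []⟩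
noncomputable def c2acc3Dd : ℕ := nat_lit 0xde6b17b569398a418400
noncomputable def c2acc3D (u : ℕ) : ℕ := Nat.land (Nat.shiftRight c2acc3Dd (Nat.mul u (nat_lit 5))) (nat_lit 31)
noncomputable def c2acc3Pd : ℕ := nat_lit 0xa49cd5bd101d9552cce2
noncomputable def c2acc3P (u : ℕ) : ℕ := Nat.land (Nat.shiftRight c2acc3Pd (Nat.mul u (nat_lit 5))) (nat_lit 31)
noncomputable def c2acc3Qd : ℕ := nat_lit 0x64f2e08adc0b50910307000
noncomputable def c2acc3Q (u : ℕ) : ℕ := Nat.land (Nat.shiftRight c2acc3Qd (Nat.mul u (nat_lit 4))) (nat_lit 15)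
noncomputable def c2acc3 : H16.Lev := ⟨16, 2, c2acc3D, c2acc3P, c2acc3Q⟩
noncomputable def c2atn1Fd : ℕ := nat_lit 0xf0050000
noncomputable def c2atn1F (u : ℕ) : ℕ := Nat.land (Nat.shiftRight c2atn1Fd (Nat.mul u (nat_lit 2))) (nat_lit 3)
noncomputable def c2atn1 : Nd := ⟨c2atn1F, (nat_lit 2), (nat_lit 2), [], [((nat_lit 0), []), ((nat_lit 0), [nat_lit 0])], []⟩
noncomputable def c2acc1Dd : ℕ := nat_lit 0xa268596966d740e28b307204143080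
noncomputable def c2acc1D (u : ℕ) : ℕ := Nat.land (Nat.shiftRight c2acc1Dd (Nat.mul u (nat_lit 6))) (nat_lit 63)
noncomputable def c2acc1Pd : ℕ := nat_lit 0x5b9e56586682547a0ab29a1a1
noncomputable def c2acc1P (u : ℕ) : ℕ := Nat.land (Nat.shiftRight c2acc1Pd (Nat.mul u (nat_lit 5))) (nat_lit 31)
noncomputable def c2acc1Qd : ℕ := nat_lit 0x38a71900b8c82f9a5424320069800
noncomputable def c2acc1Q (u : ℕ) : ℕ := Nat.land (Nat.shiftRight c2acc1Qd (Nat.mul u (nat_lit 5))) (nat_lit 31)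
noncomputable def c2acc1 : H16.Lev := ⟨20, 3, c2acc1D, c2acc1P, c2acc1Q⟩
noncomputable def c2atn2y4_W : List (List ℕ) := [[nat_lit 6, nat_lit 4, nat_lit 2, nat_lit 7, nat_lit 6, nat_lit 1, nat_lit 5, nat_lit 8, nat_lit 7, nat_lit 6, nat_lit 1, nat_lit 5, nat_lit 8, nat_lit 9]]
noncomputable def c2atn2y4_P : ℕ → ℕ → ℕ := wdsP H15.QS.YM22.P c2atn2y4_W
noncomputable def c2atr3k_W : List (List ℕ) := [[nat_lit 6, nat_lit 1, nat_lit 4, nat_lit 7, nat_lit 6, nat_lit 3, nat_lit 6, nat_lit 5],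
  [nat_lit 5, nat_lit 3, nat_lit 6, nat_lit 0, nat_lit 3, nat_lit 7, nat_lit 6],
  [nat_lit 4, nat_lit 7, nat_lit 6, nat_lit 2]]
noncomputable def c2atr3k_P : ℕ → ℕ → ℕ := wdsP H15.QS.YM22.P c2atr3k_W
noncomputable def c2atn3Fd : ℕ := nat_lit 0x9789b67b94b689abd351
noncomputable def c2atn3F (u : ℕ) : ℕ := Nat.land (Nat.shiftRight c2atn3Fd (Nat.mul u (nat_lit 4))) (nat_lit 15)
noncomputable def c2atn3 : Nd := ⟨c2atn3F, (nat_lit 3), (nat_lit 3), [], [((nat_lit 0), []), ((nat_lit 0), [nat_lit 0])], []⟩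
noncomputable def c2atn2Fd : ℕ := nat_lit 0x140040000000000
noncomputable def c2atn2F (u : ℕ) : ℕ := Nat.land (Nat.shiftRight c2atn2Fd (Nat.mul u (nat_lit 3))) (nat_lit 7)
noncomputable def c2atn2 : Nd := ⟨c2atn2F, (nat_lit 3), (nat_lit 3), [], [((nat_lit 0), []), ((nat_lit 0), [nat_lit 0])], [((nat_lit 4), c2atn2y4_W)]⟩
noncomputable def c2acc0Dd : ℕ := nat_lit 0xc
noncomputable def c2acc0D (u : ℕ) : ℕ := Nat.land (Nat.shiftRight c2acc0Dd (Nat.mul u (nat_lit 2))) (nat_lit 3)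
noncomputable def c2acc0Pd : ℕ := nat_lit 0x2e0
noncomputable def c2acc0P (u : ℕ) : ℕ := Nat.land (Nat.shiftRight c2acc0Pd (Nat.mul u (nat_lit 5))) (nat_lit 31)
noncomputable def c2acc0Qd : ℕ := nat_lit 0x800000
noncomputable def c2acc0Q (u : ℕ) : ℕ := Nat.land (Nat.shiftRight c2acc0Qd (Nat.mul u (nat_lit 1))) (nat_lit 1)
noncomputable def c2acc0 : H16.Lev := ⟨2, 4, c2acc0D, c2acc0P, c2acc0Q⟩
noncomputable def c2atn4Fd : ℕ := nat_lit 0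
noncomputable def c2atn4F (u : ℕ) : ℕ := Nat.land (Nat.shiftRight c2atn4Fd (Nat.mul u (nat_lit 1))) (nat_lit 1)
noncomputable def c2atn4 : Nd := ⟨c2atn4F, (nat_lit 4), (nat_lit 4), [], [((nat_lit 0), [])], []⟩

theorem y1_a : allZ2 (permEnt P (nth 0 iv) (nat_lit 24)) (nat_lit 10) (nat_lit 24) = true := by decide +kernel
theorem y2_a : allZ2 (matEnt H15.MM22.P P) (nat_lit 9) (nat_lit 24) = true := by decide +kernel
theorem y3_a : allZ2 (extEnt P (nat_lit 9) xW) (nat_lit 9) (nat_lit 24) = true := by decide +kernel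
theorem yl_lt : H16.allL (ltAll 10) yl_W = true := by decide +kernel
theorem yll0_e_0 : allZ (dent yll0 yl_P (nat_lit 24)) (nat_lit 0) (nat_lit 21) = true := by decide +kernel
theorem yll0_h : 0 < yll0.n ∧ 0 < yll0.K ∧ yll0.Pt 0 < 24 ∧ yll0.Q (yll0.Pt 0) = 0 := by decide +kernel
theorem yll1_e_0 : allZ (dent yll1 yl_P (nat_lit 24)) (nat_lit 0) (nat_lit 20) = true := by decide +kernel
theorem yll1_h : 0 < yll1.n ∧ 0 < yll1.K ∧ yll1.Pt 0 < 24 ∧ yll1.Q (yll1.Pt 0) = 0 := by decide +kernel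
theorem yll2_e_0 : allZ (dent yll2 yl_P (nat_lit 24)) (nat_lit 0) (nat_lit 19) = true := by decide +kernel
theorem yll2_h : 0 < yll2.n ∧ 0 < yll2.K ∧ yll2.Pt 0 < 24 ∧ yll2.Q (yll2.Pt 0) = 0 := by decide +kernel
theorem yll3_e_0 : allZ (dent yll3 yl_P (nat_lit 24)) (nat_lit 0) (nat_lit 2) = true := by decide +kernel
theorem yll3_h : 0 < yll3.n ∧ 0 < yll3.K ∧ yll3.Pt 0 < 24 ∧ yll3.Q (yll3.Pt 0) = 0 := by decide +kernel
theorem yll4_e_0 : allZ (dent yll4 yl_P (nat_lit 24)) (nat_lit 0) (nat_lit 15) = true := by decide +kernel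
theorem yll4_h : 0 < yll4.n ∧ 0 < yll4.K ∧ yll4.Pt 0 < 24 ∧ yll4.Q (yll4.Pt 0) = 0 := by decide +kernel
theorem yll5_e_0 : allZ (dent yll5 yl_P (nat_lit 24)) (nat_lit 0) (nat_lit 1) = true := by decide +kernel
theorem yll5_h : 0 < yll5.n ∧ 0 < yll5.K ∧ yll5.Pt 0 < 24 ∧ yll5.Q (yll5.Pt 0) = 0 := by decide +kernel
theorem yl_f5 : (Nat.ble yll5.K 11 && Nat.ble (topK []) yll5.K && fixLetters yl_P (topK []) (yll5.Pt 0)) = true := by decide +kernel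
theorem yl_f4 : (Nat.ble yll4.K 11 && Nat.ble (topK [yll5]) yll4.K && fixLetters yl_P (topK [yll5]) (yll4.Pt 0)) = true := by decide +kernel
theorem yl_f3 : (Nat.ble yll3.K 11 && Nat.ble (topK [yll4, yll5]) yll3.K && fixLetters yl_P (topK [yll4, yll5]) (yll3.Pt 0)) = true := by decide +kernel
theorem yl_f2 : (Nat.ble yll2.K 11 && Nat.ble (topK [yll3, yll4, yll5]) yll2.K && fixLetters yl_P (topK [yll3, yll4, yll5]) (yll2.Pt 0)) = true := by decide +kernel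
theorem yl_f1 : (Nat.ble yll1.K 11 && Nat.ble (topK [yll2, yll3, yll4, yll5]) yll1.K && fixLetters yl_P (topK [yll2, yll3, yll4, yll5]) (yll1.Pt 0)) = true := by decide +kernel
theorem yl_f0 : (Nat.ble yll0.K 11 && Nat.ble (topK [yll1, yll2, yll3, yll4, yll5]) yll0.K && fixLetters yl_P (topK [yll1, yll2, yll3, yll4, yll5]) (yll0.Pt 0)) = true := by decide +kernel
theorem yc : nth 0 iv 9 = 9 ∧ H16.allL (ltAll 9) xW = true ∧ H16.allL (ltAll (9 + 1)) yl_W = true ∧ chainCard [yll0, yll1, yll2, yll3, yll4, yll5] = 2 * 443520 ∧ chainBase [yll0, yll1, yll2, yll3, yll4, yll5] = B ∧ ltAll 24 B = 0 ∧ 443520 ≠ 0 := by decide +kernel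
theorem md_b : ltAll 24 H15.MM22.B = 0 ∧ 443520 ≠ 0 := by decide +kernel
theorem cb_lt : H16.allL (ltAll 10) cb_W = true := by decide +kernel
theorem cbcth_lt : H16.allL (ltAll 10) cbcth_W = true := by decide +kernel
theorem cbctl0_e_0 : allZ (dent cbctl0 cbcth_P (nat_lit 24)) (nat_lit 0) (nat_lit 21) = true := by decide +kernel
theorem cbctl0_h : 0 < cbctl0.n ∧ 0 < cbctl0.K ∧ cbctl0.Pt 0 < 24 ∧ cbctl0.Q (cbctl0.Pt 0) = 0 := by decide +kernel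
theorem cbctl1_e_0 : allZ (dent cbctl1 cbcth_P (nat_lit 24)) (nat_lit 0) (nat_lit 20) = true := by decide +kernel
theorem cbctl1_h : 0 < cbctl1.n ∧ 0 < cbctl1.K ∧ cbctl1.Pt 0 < 24 ∧ cbctl1.Q (cbctl1.Pt 0) = 0 := by decide +kernel
theorem cbctl2_e_0 : allZ (dent cbctl2 cbcth_P (nat_lit 24)) (nat_lit 0) (nat_lit 19) = true := by decide +kernel
theorem cbctl2_h : 0 < cbctl2.n ∧ 0 < cbctl2.K ∧ cbctl2.Pt 0 < 24 ∧ cbctl2.Q (cbctl2.Pt 0) = 0 := by decide +kernel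
theorem cbctl3_e_0 : allZ (dent cbctl3 cbcth_P (nat_lit 24)) (nat_lit 0) (nat_lit 15) = true := by decide +kernel
theorem cbctl3_h : 0 < cbctl3.n ∧ 0 < cbctl3.K ∧ cbctl3.Pt 0 < 24 ∧ cbctl3.Q (cbctl3.Pt 0) = 0 := by decide +kernel
theorem cbctl4_e_0 : allZ (dent cbctl4 cbcth_P (nat_lit 24)) (nat_lit 0) (nat_lit 2) = true := by decide +kernel
theorem cbctl4_h : 0 < cbctl4.n ∧ 0 < cbctl4.K ∧ cbctl4.Pt 0 < 24 ∧ cbctl4.Q (cbctl4.Pt 0) = 0 := by decide +kernel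
theorem cbctl5_e_0 : allZ (dent cbctl5 cbcth_P (nat_lit 24)) (nat_lit 0) (nat_lit 1) = true := by decide +kernel
theorem cbctl5_h : 0 < cbctl5.n ∧ 0 < cbctl5.K ∧ cbctl5.Pt 0 < 24 ∧ cbctl5.Q (cbctl5.Pt 0) = 0 := by decide +kernel
theorem cbct_f5 : (Nat.ble cbctl5.K 15 && Nat.ble (topK []) cbctl5.K && fixLetters cbcth_P (topK []) (cbctl5.Pt 0)) = true := by decide +kernel
theorem cbct_f4 : (Nat.ble cbctl4.K 15 && Nat.ble (topK [cbctl5]) cbctl4.K && fixLetters cbcth_P (topK [cbctl5]) (cbctl4.Pt 0)) = true := by decide +kernel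
theorem cbct_f3 : (Nat.ble cbctl3.K 15 && Nat.ble (topK [cbctl4, cbctl5]) cbctl3.K && fixLetters cbcth_P (topK [cbctl4, cbctl5]) (cbctl3.Pt 0)) = true := by decide +kernel
theorem cbct_f2 : (Nat.ble cbctl2.K 15 && Nat.ble (topK [cbctl3, cbctl4, cbctl5]) cbctl2.K && fixLetters cbcth_P (topK [cbctl3, cbctl4, cbctl5]) (cbctl2.Pt 0)) = true := by decide +kernel
theorem cbct_f1 : (Nat.ble cbctl1.K 15 && Nat.ble (topK [cbctl2, cbctl3, cbctl4, cbctl5]) cbctl1.K && fixLetters cbcth_P (topK [cbctl2, cbctl3, cbctl4, cbctl5]) (cbctl1.Pt 0)) = true := by decide +kernel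
theorem cbct_f0 : (Nat.ble cbctl0.K 15 && Nat.ble (topK [cbctl1, cbctl2, cbctl3, cbctl4, cbctl5]) cbctl0.K && fixLetters cbcth_P (topK [cbctl1, cbctl2, cbctl3, cbctl4, cbctl5]) (cbctl0.Pt 0)) = true := by decide +kernel
theorem cbct_c : chainCard [cbctl0, cbctl1, cbctl2, cbctl3, cbctl4, cbctl5] = 887040 := by decide +kernel
theorem cbce_lt : H16.allL (ltAll 10) cbce_W = true := by decide +kernel
theorem cbc_f5 : (Nat.ble cbctl5.K 15 && Nat.blt (nat_lit 3) 24 && fixLetters cbcth_P cbctl5.K (nat_lit 3) && Nat.beq (ltAll 2 [nat_lit 0, nat_lit 1, nat_lit 0]) 0 && Nat.beq (apW cb_P [nat_lit 0, nat_lit 1, nat_lit 0] (nat_lit 3)) (cbctl5.Pt 0)) = true := by decide +kernel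
theorem cbc_f4 : (Nat.ble cbctl4.K 15 && Nat.blt (nat_lit 3) 24 && fixLetters cbcth_P cbctl4.K (nat_lit 3) && Nat.beq (ltAll 2 [nat_lit 0, nat_lit 0, nat_lit 1]) 0 && Nat.beq (apW cb_P [nat_lit 0, nat_lit 0, nat_lit 1] (nat_lit 3)) (cbctl4.Pt 0)) = true := by decide +kernel
theorem cbc_f3 : (Nat.ble cbctl3.K 15 && Nat.blt (nat_lit 3) 24 && fixLetters cbcth_P cbctl3.K (nat_lit 3) && Nat.beq (ltAll 2 [nat_lit 0, nat_lit 1]) 0 && Nat.beq (apW cb_P [nat_lit 0, nat_lit 1] (nat_lit 3)) (cbctl3.Pt 0)) = true := by decide +kernel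
theorem cbc_f2 : (Nat.ble cbctl2.K 15 && Nat.blt (nat_lit 3) 24 && fixLetters cbcth_P cbctl2.K (nat_lit 3) && Nat.beq (ltAll 2 [nat_lit 0, nat_lit 0]) 0 && Nat.beq (apW cb_P [nat_lit 0, nat_lit 0] (nat_lit 3)) (cbctl2.Pt 0)) = true := by decide +kernel
theorem cbc_f1 : (Nat.ble cbctl1.K 15 && Nat.blt (nat_lit 3) 24 && fixLetters cbcth_P cbctl1.K (nat_lit 3) && Nat.beq (ltAll 2 [nat_lit 0]) 0 && Nat.beq (apW cb_P [nat_lit 0] (nat_lit 3)) (cbctl1.Pt 0)) = true := by decide +kernel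
theorem cbctn0_0 : (Nat.ble cbctl0.K 15 && Nat.beq (ltAll 24 []) 0 && kChk cbce_P cb_P cbctn0.Kn 2 H15.QS.YM22.B [] && H16.allL (ltAll 2) cbctn0.pre && planOK cbcth_P cb_P 2 (cbctl0.Pt 0) cbctn0.plan [cbctl0, cbctl1, cbctl2, cbctl3, cbctl4, cbctl5]) = true := by decide +kernel
theorem cbctn0_1_0 : allZ (cbctn0.ent H15.QS.YM22.P cbcth_P cb_P cb_P cbce_P (nat_lit 10) (nat_lit 2) H15.QS.YM22.B cbctl0 [cbctl1, cbctl2, cbctl3, cbctl4, cbctl5] (fun w => Nat.xor w (cbctl0.Pt (nat_lit 0)))) (nat_lit 0) (nat_lit 22) = true := by decide +kernel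
theorem cbc_c : chainCard [] = 1 ∧ topK [] = 0 := by decide +kernel
theorem p2t_lt : H16.allL (ltAll 10) p2t_W = true := by decide +kernel
theorem p2_r_a : allZ2 (resEnt p2t_P p2P p2E p2I (nat_lit 24) (nat_lit 20)) (nat_lit 8) (nat_lit 20) = true := by decide +kernel
theorem p2_b : neL H15.QS.YM22.B (p2B.map p2E) = 0 ∧ ltAll 20 p2B = 0 := by decide +kernel
theorem p2_p : allZ2 (pcEnt p2P (nat_lit 2) p2B p2C) 8 8 = true := by decide +kernel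
theorem p2_e : H16.allL (ltAll 8) p2e = true := by decide +kernel
theorem p2l0_e_0 : allZ (dent p2l0 (wdsP p2P p2e) (nat_lit 20)) (nat_lit 0) (nat_lit 1) = true := by decide +kernel
theorem p2l0_h : 0 < p2l0.n ∧ 0 < p2l0.K ∧ p2l0.Pt 0 < 20 ∧ p2l0.Q (p2l0.Pt 0) = 0 := by decide +kernel
theorem p2l1_e_0 : allZ (dent p2l1 (wdsP p2P p2e) (nat_lit 20)) (nat_lit 0) (nat_lit 15) = true := by decide +kernel
theorem p2l1_h : 0 < p2l1.n ∧ 0 < p2l1.K ∧ p2l1.Pt 0 < 20 ∧ p2l1.Q (p2l1.Pt 0) = 0 := by decide +kernel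
theorem p2l2_e_0 : allZ (dent p2l2 (wdsP p2P p2e) (nat_lit 20)) (nat_lit 0) (nat_lit 3) = true := by decide +kernel
theorem p2l2_h : 0 < p2l2.n ∧ 0 < p2l2.K ∧ p2l2.Pt 0 < 20 ∧ p2l2.Q (p2l2.Pt 0) = 0 := by decide +kernel
theorem p2l3_e_0 : allZ (dent p2l3 (wdsP p2P p2e) (nat_lit 20)) (nat_lit 0) (nat_lit 1) = true := by decide +kernel
theorem p2l3_h : 0 < p2l3.n ∧ 0 < p2l3.K ∧ p2l3.Pt 0 < 20 ∧ p2l3.Q (p2l3.Pt 0) = 0 := by decide +kernel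
theorem p2_f3 : (Nat.ble p2l3.K 40 && Nat.ble (topK []) p2l3.K && fixLetters (wdsP p2P p2e) (topK []) (p2l3.Pt 0)) = true := by decide +kernel
theorem p2_f2 : (Nat.ble p2l2.K 40 && Nat.ble (topK [p2l3]) p2l2.K && fixLetters (wdsP p2P p2e) (topK [p2l3]) (p2l2.Pt 0)) = true := by decide +kernel
theorem p2_f1 : (Nat.ble p2l1.K 40 && Nat.ble (topK [p2l2, p2l3]) p2l1.K && fixLetters (wdsP p2P p2e) (topK [p2l2, p2l3]) (p2l1.Pt 0)) = true := by decide +kernel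
theorem p2_f0 : (Nat.ble p2l0.K 40 && Nat.ble (topK [p2l1, p2l2, p2l3]) p2l0.K && fixLetters (wdsP p2P p2e) (topK [p2l1, p2l2, p2l3]) (p2l0.Pt 0)) = true := by decide +kernel
theorem p2_c : chainCard [p2l0, p2l1, p2l2, p2l3] = 2 ^ 8 ∧ ¬ 2 ^ (8 + 1) ∣ 887040 := by decide +kernel
theorem covr_lt : H16.allL (ltAll 10) covr_W = true := by decide +kernel
theorem cov_c0 : (Nat.ble 8 8 && Nat.beq (ltAll 8 []) 0 && Nat.beq (covT0.chk H15.QS.YM22.P p2P covr_P p2E 10 8 2 2 3 p2B 8 [] 0) 0) = true := by decide +kernel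
theorem c0ax_lt : H16.allL (ltAll 10) c0ax_W = true := by decide +kernel
theorem c0ath_lt : H16.allL (ltAll 10) c0ath_W = true := by decide +kernel
theorem c0atl0_e_0 : allZ (dent c0atl0 c0ath_P (nat_lit 24)) (nat_lit 0) (nat_lit 1) = true := by decide +kernel
theorem c0atl0_h : 0 < c0atl0.n ∧ 0 < c0atl0.K ∧ c0atl0.Pt 0 < 24 ∧ c0atl0.Q (c0atl0.Pt 0) = 0 := by decide +kernel
theorem c0atl1_e_0 : allZ (dent c0atl1 c0ath_P (nat_lit 24)) (nat_lit 0) (nat_lit 21) = true := by decide +kernel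
theorem c0atl1_h : 0 < c0atl1.n ∧ 0 < c0atl1.K ∧ c0atl1.Pt 0 < 24 ∧ c0atl1.Q (c0atl1.Pt 0) = 0 := by decide +kernel
theorem c0atl2_e_0 : allZ (dent c0atl2 c0ath_P (nat_lit 24)) (nat_lit 0) (nat_lit 20) = true := by decide +kernel
theorem c0atl2_h : 0 < c0atl2.n ∧ 0 < c0atl2.K ∧ c0atl2.Pt 0 < 24 ∧ c0atl2.Q (c0atl2.Pt 0) = 0 := by decide +kernel
theorem c0atl3_e_0 : allZ (dent c0atl3 c0ath_P (nat_lit 24)) (nat_lit 0) (nat_lit 19) = true := by decide +kernel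
theorem c0atl3_h : 0 < c0atl3.n ∧ 0 < c0atl3.K ∧ c0atl3.Pt 0 < 24 ∧ c0atl3.Q (c0atl3.Pt 0) = 0 := by decide +kernel
theorem c0atl4_e_0 : allZ (dent c0atl4 c0ath_P (nat_lit 24)) (nat_lit 0) (nat_lit 2) = true := by decide +kernel
theorem c0atl4_h : 0 < c0atl4.n ∧ 0 < c0atl4.K ∧ c0atl4.Pt 0 < 24 ∧ c0atl4.Q (c0atl4.Pt 0) = 0 := by decide +kernel
theorem c0atl5_e_0 : allZ (dent c0atl5 c0ath_P (nat_lit 24)) (nat_lit 0) (nat_lit 15) = true := by decide +kernel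
theorem c0atl5_h : 0 < c0atl5.n ∧ 0 < c0atl5.K ∧ c0atl5.Pt 0 < 24 ∧ c0atl5.Q (c0atl5.Pt 0) = 0 := by decide +kernel
theorem c0at_f5 : (Nat.ble c0atl5.K 16 && Nat.ble (topK []) c0atl5.K && fixLetters c0ath_P (topK []) (c0atl5.Pt 0)) = true := by decide +kernel
theorem c0at_f4 : (Nat.ble c0atl4.K 16 && Nat.ble (topK [c0atl5]) c0atl4.K && fixLetters c0ath_P (topK [c0atl5]) (c0atl4.Pt 0)) = true := by decide +kernel
theorem c0at_f3 : (Nat.ble c0atl3.K 16 && Nat.ble (topK [c0atl4, c0atl5]) c0atl3.K && fixLetters c0ath_P (topK [c0atl4, c0atl5]) (c0atl3.Pt 0)) = true := by decide +kernel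
theorem c0at_f2 : (Nat.ble c0atl2.K 16 && Nat.ble (topK [c0atl3, c0atl4, c0atl5]) c0atl2.K && fixLetters c0ath_P (topK [c0atl3, c0atl4, c0atl5]) (c0atl2.Pt 0)) = true := by decide +kernel
theorem c0at_f1 : (Nat.ble c0atl1.K 16 && Nat.ble (topK [c0atl2, c0atl3, c0atl4, c0atl5]) c0atl1.K && fixLetters c0ath_P (topK [c0atl2, c0atl3, c0atl4, c0atl5]) (c0atl1.Pt 0)) = true := by decide +kernel
theorem c0at_f0 : (Nat.ble c0atl0.K 16 && Nat.ble (topK [c0atl1, c0atl2, c0atl3, c0atl4, c0atl5]) c0atl0.K && fixLetters c0ath_P (topK [c0atl1, c0atl2, c0atl3, c0atl4, c0atl5]) (c0atl0.Pt 0)) = true := by decide +kernel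
theorem c0at_c : chainCard [c0atl0, c0atl1, c0atl2, c0atl3, c0atl4, c0atl5] = 887040 := by decide +kernel
theorem c0ace_lt : H16.allL (ltAll 10) c0ace_W = true := by decide +kernel
theorem c0acc5_e_0 : allZ (dent c0acc5 c0ace_P (nat_lit 24)) (nat_lit 0) (nat_lit 3) = true := by decide +kernel
theorem c0acc5_h : 0 < c0acc5.n ∧ 0 < c0acc5.K ∧ c0acc5.Pt 0 < 24 ∧ c0acc5.Q (c0acc5.Pt 0) = 0 := by decide +kernel
theorem c0atn0_0 : (Nat.ble c0atl5.K 16 && Nat.beq (ltAll 24 [c0atl4.Pt 0, c0atl3.Pt 0, c0atl2.Pt 0, c0atl1.Pt 0, c0atl0.Pt 0]) 0 && kChk c0ace_P c0ax_P c0atn0.Kn 1 H15.QS.YM22.B [c0atl4.Pt 0, c0atl3.Pt 0, c0atl2.Pt 0, c0atl1.Pt 0, c0atl0.Pt 0] && H16.allL (ltAll 1) c0atn0.pre && planOK c0ath_P c0ax_P 1 (c0atl5.Pt 0) c0atn0.plan [c0atl5]) = true := by decide +kernel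
theorem c0atn0_1_0 : allZ (c0atn0.ent H15.QS.YM22.P c0ath_P c0ax_P c0ax_P c0ace_P (nat_lit 10) (nat_lit 1) H15.QS.YM22.B c0atl5 [] (memO c0acc5)) (nat_lit 0) (nat_lit 16) = true := by decide +kernel
theorem c0ac_f5 : (Nat.ble c0acc5.K 7 && Nat.ble (topK []) c0acc5.K && Nat.beq (c0acc5.Pt 0) (c0atl5.Pt 0) && Nat.beq (ltAll 24 [c0atl4.Pt 0, c0atl3.Pt 0, c0atl2.Pt 0, c0atl1.Pt 0, c0atl0.Pt 0]) 0 && kChk c0ace_P c0ax_P c0acc5.K 1 H15.QS.YM22.B [c0atl4.Pt 0, c0atl3.Pt 0, c0atl2.Pt 0, c0atl1.Pt 0, c0atl0.Pt 0]) = true := by decide +kernel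
theorem c0ac_f4 : (Nat.ble c0atl4.K 16 && Nat.blt (nat_lit 2) 24 && fixLetters c0ath_P c0atl4.K (nat_lit 2) && Nat.beq (ltAll 1 [nat_lit 0]) 0 && Nat.beq (apW c0ax_P [nat_lit 0] (nat_lit 2)) (c0atl4.Pt 0)) = true := by decide +kernel
theorem c0acc3_e_0 : allZ (dent c0acc3 c0ace_P (nat_lit 24)) (nat_lit 0) (nat_lit 5) = true := by decide +kernel
theorem c0acc3_h : 0 < c0acc3.n ∧ 0 < c0acc3.K ∧ c0acc3.Pt 0 < 24 ∧ c0acc3.Q (c0acc3.Pt 0) = 0 := by decide +kernel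
theorem c0atn1_0 : (Nat.ble c0atl3.K 16 && Nat.beq (ltAll 24 [c0atl2.Pt 0, c0atl1.Pt 0, c0atl0.Pt 0]) 0 && kChk c0ace_P c0ax_P c0atn1.Kn 1 H15.QS.YM22.B [c0atl2.Pt 0, c0atl1.Pt 0, c0atl0.Pt 0] && H16.allL (ltAll 1) c0atn1.pre && planOK c0ath_P c0ax_P 1 (c0atl3.Pt 0) c0atn1.plan [c0atl3, c0atl4, c0atl5]) = true := by decide +kernel
theorem c0atn1_1_0 : allZ (c0atn1.ent H15.QS.YM22.P c0ath_P c0ax_P c0ax_P c0ace_P (nat_lit 10) (nat_lit 1) H15.QS.YM22.B c0atl3 [c0atl4, c0atl5] (memO c0acc3)) (nat_lit 0) (nat_lit 20) = true := by decide +kernel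
theorem c0ac_f3 : (Nat.ble c0acc3.K 7 && Nat.ble (topK [c0acc5]) c0acc3.K && Nat.beq (c0acc3.Pt 0) (c0atl3.Pt 0) && Nat.beq (ltAll 24 [c0atl2.Pt 0, c0atl1.Pt 0, c0atl0.Pt 0]) 0 && kChk c0ace_P c0ax_P c0acc3.K 1 H15.QS.YM22.B [c0atl2.Pt 0, c0atl1.Pt 0, c0atl0.Pt 0]) = true := by decide +kernel
theorem c0ac_f2 : (Nat.ble c0atl2.K 16 && Nat.blt (nat_lit 1) 24 && fixLetters c0ath_P c0atl2.K (nat_lit 1) && Nat.beq (ltAll 1 [nat_lit 0]) 0 && Nat.beq (apW c0ax_P [nat_lit 0] (nat_lit 1)) (c0atl2.Pt 0)) = true := by decide +kernel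
theorem c0acc1_e_0 : allZ (dent c0acc1 c0ace_P (nat_lit 24)) (nat_lit 0) (nat_lit 15) = true := by decide +kernel
theorem c0acc1_h : 0 < c0acc1.n ∧ 0 < c0acc1.K ∧ c0acc1.Pt 0 < 24 ∧ c0acc1.Q (c0acc1.Pt 0) = 0 := by decide +kernel
theorem c0atn2_0 : (Nat.ble c0atl1.K 16 && Nat.beq (ltAll 24 [c0atl0.Pt 0]) 0 && kChk c0ace_P c0ax_P c0atn2.Kn 1 H15.QS.YM22.B [c0atl0.Pt 0] && H16.allL (ltAll 1) c0atn2.pre && planOK c0ath_P c0ax_P 1 (c0atl1.Pt 0) c0atn2.plan [c0atl1, c0atl2, c0atl3, c0atl4, c0atl5]) = true := by decide +kernel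
theorem c0atn2_1_0 : allZ (c0atn2.ent H15.QS.YM22.P c0ath_P c0ax_P c0ax_P c0ace_P (nat_lit 10) (nat_lit 1) H15.QS.YM22.B c0atl1 [c0atl2, c0atl3, c0atl4, c0atl5] (memO c0acc1)) (nat_lit 0) (nat_lit 22) = true := by decide +kernel
theorem c0ac_f1 : (Nat.ble c0acc1.K 7 && Nat.ble (topK [c0acc3, c0acc5]) c0acc1.K && Nat.beq (c0acc1.Pt 0) (c0atl1.Pt 0) && Nat.beq (ltAll 24 [c0atl0.Pt 0]) 0 && kChk c0ace_P c0ax_P c0acc1.K 1 H15.QS.YM22.B [c0atl0.Pt 0]) = true := by decide +kernel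
theorem c0acc0_e_0 : allZ (dent c0acc0 c0ace_P (nat_lit 24)) (nat_lit 0) (nat_lit 1) = true := by decide +kernel
theorem c0acc0_h : 0 < c0acc0.n ∧ 0 < c0acc0.K ∧ c0acc0.Pt 0 < 24 ∧ c0acc0.Q (c0acc0.Pt 0) = 0 := by decide +kernel
theorem c0atn3_0 : (Nat.ble c0atl0.K 16 && Nat.beq (ltAll 24 []) 0 && kChk c0ace_P c0ax_P c0atn3.Kn 1 H15.QS.YM22.B [] && H16.allL (ltAll 1) c0atn3.pre && planOK c0ath_P c0ax_P 1 (c0atl0.Pt 0) c0atn3.plan [c0atl0, c0atl1, c0atl2, c0atl3, c0atl4, c0atl5]) = true := by decide +kernel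
theorem c0atn3_1_0 : allZ (c0atn3.ent H15.QS.YM22.P c0ath_P c0ax_P c0ax_P c0ace_P (nat_lit 10) (nat_lit 1) H15.QS.YM22.B c0atl0 [c0atl1, c0atl2, c0atl3, c0atl4, c0atl5] (memO c0acc0)) (nat_lit 0) (nat_lit 2) = true := by decide +kernel
theorem c0ac_f0 : (Nat.ble c0acc0.K 7 && Nat.ble (topK [c0acc1, c0acc3, c0acc5]) c0acc0.K && Nat.beq (c0acc0.Pt 0) (c0atl0.Pt 0) && Nat.beq (ltAll 24 []) 0 && kChk c0ace_P c0ax_P c0acc0.K 1 H15.QS.YM22.B []) = true := by decide +kernel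
theorem c0ac_c : chainCard [c0acc0, c0acc1, c0acc3, c0acc5] = 768 ∧ topK [c0acc0, c0acc1, c0acc3, c0acc5] = 7 := by decide +kernel
theorem c1ax_lt : H16.allL (ltAll 10) c1ax_W = true := by decide +kernel
theorem c1ath_lt : H16.allL (ltAll 10) c1ath_W = true := by decide +kernel
theorem c1atl0_e_0 : allZ (dent c1atl0 c1ath_P (nat_lit 24)) (nat_lit 0) (nat_lit 1) = true := by decide +kernel
theorem c1atl0_h : 0 < c1atl0.n ∧ 0 < c1atl0.K ∧ c1atl0.Pt 0 < 24 ∧ c1atl0.Q (c1atl0.Pt 0) = 0 := by decide +kernel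
theorem c1atl1_e_0 : allZ (dent c1atl1 c1ath_P (nat_lit 24)) (nat_lit 0) (nat_lit 21) = true := by decide +kernel
theorem c1atl1_h : 0 < c1atl1.n ∧ 0 < c1atl1.K ∧ c1atl1.Pt 0 < 24 ∧ c1atl1.Q (c1atl1.Pt 0) = 0 := by decide +kernel
theorem c1atl2_e_0 : allZ (dent c1atl2 c1ath_P (nat_lit 24)) (nat_lit 0) (nat_lit 20) = true := by decide +kernel
theorem c1atl2_h : 0 < c1atl2.n ∧ 0 < c1atl2.K ∧ c1atl2.Pt 0 < 24 ∧ c1atl2.Q (c1atl2.Pt 0) = 0 := by decide +kernel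
theorem c1atl3_e_0 : allZ (dent c1atl3 c1ath_P (nat_lit 24)) (nat_lit 0) (nat_lit 19) = true := by decide +kernel
theorem c1atl3_h : 0 < c1atl3.n ∧ 0 < c1atl3.K ∧ c1atl3.Pt 0 < 24 ∧ c1atl3.Q (c1atl3.Pt 0) = 0 := by decide +kernel
theorem c1atl4_e_0 : allZ (dent c1atl4 c1ath_P (nat_lit 24)) (nat_lit 0) (nat_lit 2) = true := by decide +kernel
theorem c1atl4_h : 0 < c1atl4.n ∧ 0 < c1atl4.K ∧ c1atl4.Pt 0 < 24 ∧ c1atl4.Q (c1atl4.Pt 0) = 0 := by decide +kernel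
theorem c1atl5_e_0 : allZ (dent c1atl5 c1ath_P (nat_lit 24)) (nat_lit 0) (nat_lit 15) = true := by decide +kernel
theorem c1atl5_h : 0 < c1atl5.n ∧ 0 < c1atl5.K ∧ c1atl5.Pt 0 < 24 ∧ c1atl5.Q (c1atl5.Pt 0) = 0 := by decide +kernel
theorem c1at_f5 : (Nat.ble c1atl5.K 16 && Nat.ble (topK []) c1atl5.K && fixLetters c1ath_P (topK []) (c1atl5.Pt 0)) = true := by decide +kernel
theorem c1at_f4 : (Nat.ble c1atl4.K 16 && Nat.ble (topK [c1atl5]) c1atl4.K && fixLetters c1ath_P (topK [c1atl5]) (c1atl4.Pt 0)) = true := by decide +kernel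
theorem c1at_f3 : (Nat.ble c1atl3.K 16 && Nat.ble (topK [c1atl4, c1atl5]) c1atl3.K && fixLetters c1ath_P (topK [c1atl4, c1atl5]) (c1atl3.Pt 0)) = true := by decide +kernel
theorem c1at_f2 : (Nat.ble c1atl2.K 16 && Nat.ble (topK [c1atl3, c1atl4, c1atl5]) c1atl2.K && fixLetters c1ath_P (topK [c1atl3, c1atl4, c1atl5]) (c1atl2.Pt 0)) = true := by decide +kernel
theorem c1at_f1 : (Nat.ble c1atl1.K 16 && Nat.ble (topK [c1atl2, c1atl3, c1atl4, c1atl5]) c1atl1.K && fixLetters c1ath_P (topK [c1atl2, c1atl3, c1atl4, c1atl5]) (c1atl1.Pt 0)) = true := by decide +kernel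
theorem c1at_f0 : (Nat.ble c1atl0.K 16 && Nat.ble (topK [c1atl1, c1atl2, c1atl3, c1atl4, c1atl5]) c1atl0.K && fixLetters c1ath_P (topK [c1atl1, c1atl2, c1atl3, c1atl4, c1atl5]) (c1atl0.Pt 0)) = true := by decide +kernel
theorem c1at_c : chainCard [c1atl0, c1atl1, c1atl2, c1atl3, c1atl4, c1atl5] = 887040 := by decide +kernel
theorem c1ace_lt : H16.allL (ltAll 10) c1ace_W = true := by decide +kernel
theorem c1acc5_e_0 : allZ (dent c1acc5 c1ace_P (nat_lit 24)) (nat_lit 0) (nat_lit 7) = true := by decide +kernel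
theorem c1acc5_h : 0 < c1acc5.n ∧ 0 < c1acc5.K ∧ c1acc5.Pt 0 < 24 ∧ c1acc5.Q (c1acc5.Pt 0) = 0 := by decide +kernel
theorem c1atn0_0 : (Nat.ble c1atl5.K 16 && Nat.beq (ltAll 24 [c1atl4.Pt 0, c1atl3.Pt 0, c1atl2.Pt 0, c1atl1.Pt 0, c1atl0.Pt 0]) 0 && kChk c1ace_P c1ax_P c1atn0.Kn 1 H15.QS.YM22.B [c1atl4.Pt 0, c1atl3.Pt 0, c1atl2.Pt 0, c1atl1.Pt 0, c1atl0.Pt 0] && H16.allL (ltAll 1) c1atn0.pre && planOK c1ath_P c1ax_P 1 (c1atl5.Pt 0) c1atn0.plan [c1atl5]) = true := by decide +kernel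
theorem c1atn0_1_0 : allZ (c1atn0.ent H15.QS.YM22.P c1ath_P c1ax_P c1ax_P c1ace_P (nat_lit 10) (nat_lit 1) H15.QS.YM22.B c1atl5 [] (memO c1acc5)) (nat_lit 0) (nat_lit 16) = true := by decide +kernel
theorem c1ac_f5 : (Nat.ble c1acc5.K 7 && Nat.ble (topK []) c1acc5.K && Nat.beq (c1acc5.Pt 0) (c1atl5.Pt 0) && Nat.beq (ltAll 24 [c1atl4.Pt 0, c1atl3.Pt 0, c1atl2.Pt 0, c1atl1.Pt 0, c1atl0.Pt 0]) 0 && kChk c1ace_P c1ax_P c1acc5.K 1 H15.QS.YM22.B [c1atl4.Pt 0, c1atl3.Pt 0, c1atl2.Pt 0, c1atl1.Pt 0, c1atl0.Pt 0]) = true := by decide +kernel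
theorem c1ac_f4 : (Nat.ble c1atl4.K 16 && Nat.blt (nat_lit 3) 24 && fixLetters c1ath_P c1atl4.K (nat_lit 3) && Nat.beq (ltAll 1 [nat_lit 0]) 0 && Nat.beq (apW c1ax_P [nat_lit 0] (nat_lit 3)) (c1atl4.Pt 0)) = true := by decide +kernel
theorem c1acc3_e_0 : allZ (dent c1acc3 c1ace_P (nat_lit 24)) (nat_lit 0) (nat_lit 11) = true := by decide +kernel
theorem c1acc3_h : 0 < c1acc3.n ∧ 0 < c1acc3.K ∧ c1acc3.Pt 0 < 24 ∧ c1acc3.Q (c1acc3.Pt 0) = 0 := by decide +kernel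
theorem c1atn1_0 : (Nat.ble c1atl3.K 16 && Nat.beq (ltAll 24 [c1atl2.Pt 0, c1atl1.Pt 0, c1atl0.Pt 0]) 0 && kChk c1ace_P c1ax_P c1atn1.Kn 1 H15.QS.YM22.B [c1atl2.Pt 0, c1atl1.Pt 0, c1atl0.Pt 0] && H16.allL (ltAll 1) c1atn1.pre && planOK c1ath_P c1ax_P 1 (c1atl3.Pt 0) c1atn1.plan [c1atl3, c1atl4, c1atl5]) = true := by decide +kernel
theorem c1atn1_1_0 : allZ (c1atn1.ent H15.QS.YM22.P c1ath_P c1ax_P c1ax_P c1ace_P (nat_lit 10) (nat_lit 1) H15.QS.YM22.B c1atl3 [c1atl4, c1atl5] (memO c1acc3)) (nat_lit 0) (nat_lit 20) = true := by decide +kernel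
theorem c1ac_f3 : (Nat.ble c1acc3.K 7 && Nat.ble (topK [c1acc5]) c1acc3.K && Nat.beq (c1acc3.Pt 0) (c1atl3.Pt 0) && Nat.beq (ltAll 24 [c1atl2.Pt 0, c1atl1.Pt 0, c1atl0.Pt 0]) 0 && kChk c1ace_P c1ax_P c1acc3.K 1 H15.QS.YM22.B [c1atl2.Pt 0, c1atl1.Pt 0, c1atl0.Pt 0]) = true := by decide +kernel
theorem c1ac_f2 : (Nat.ble c1atl2.K 16 && Nat.blt (nat_lit 1) 24 && fixLetters c1ath_P c1atl2.K (nat_lit 1) && Nat.beq (ltAll 1 [nat_lit 0]) 0 && Nat.beq (apW c1ax_P [nat_lit 0] (nat_lit 1)) (c1atl2.Pt 0)) = true := by decide +kernel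
theorem c1acc1_e_0 : allZ (dent c1acc1 c1ace_P (nat_lit 24)) (nat_lit 0) (nat_lit 13) = true := by decide +kernel
theorem c1acc1_h : 0 < c1acc1.n ∧ 0 < c1acc1.K ∧ c1acc1.Pt 0 < 24 ∧ c1acc1.Q (c1acc1.Pt 0) = 0 := by decide +kernel
theorem c1atn2_0 : (Nat.ble c1atl1.K 16 && Nat.beq (ltAll 24 [c1atl0.Pt 0]) 0 && kChk c1ace_P c1ax_P c1atn2.Kn 1 H15.QS.YM22.B [c1atl0.Pt 0] && H16.allL (ltAll 1) c1atn2.pre && planOK c1ath_P c1ax_P 1 (c1atl1.Pt 0) c1atn2.plan [c1atl1, c1atl2, c1atl3, c1atl4, c1atl5]) = true := by decide +kernel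
theorem c1atn2_1_0 : allZ (c1atn2.ent H15.QS.YM22.P c1ath_P c1ax_P c1ax_P c1ace_P (nat_lit 10) (nat_lit 1) H15.QS.YM22.B c1atl1 [c1atl2, c1atl3, c1atl4, c1atl5] (memO c1acc1)) (nat_lit 0) (nat_lit 22) = true := by decide +kernel
theorem c1ac_f1 : (Nat.ble c1acc1.K 7 && Nat.ble (topK [c1acc3, c1acc5]) c1acc1.K && Nat.beq (c1acc1.Pt 0) (c1atl1.Pt 0) && Nat.beq (ltAll 24 [c1atl0.Pt 0]) 0 && kChk c1ace_P c1ax_P c1acc1.K 1 H15.QS.YM22.B [c1atl0.Pt 0]) = true := by decide +kernel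
theorem c1acc0_e_0 : allZ (dent c1acc0 c1ace_P (nat_lit 24)) (nat_lit 0) (nat_lit 1) = true := by decide +kernel
theorem c1acc0_h : 0 < c1acc0.n ∧ 0 < c1acc0.K ∧ c1acc0.Pt 0 < 24 ∧ c1acc0.Q (c1acc0.Pt 0) = 0 := by decide +kernel
theorem c1atn3_0 : (Nat.ble c1atl0.K 16 && Nat.beq (ltAll 24 []) 0 && kChk c1ace_P c1ax_P c1atn3.Kn 1 H15.QS.YM22.B [] && H16.allL (ltAll 1) c1atn3.pre && planOK c1ath_P c1ax_P 1 (c1atl0.Pt 0) c1atn3.plan [c1atl0, c1atl1, c1atl2, c1atl3, c1atl4, c1atl5]) = true := by decide +kernel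
theorem c1atn3_1_0 : allZ (c1atn3.ent H15.QS.YM22.P c1ath_P c1ax_P c1ax_P c1ace_P (nat_lit 10) (nat_lit 1) H15.QS.YM22.B c1atl0 [c1atl1, c1atl2, c1atl3, c1atl4, c1atl5] (memO c1acc0)) (nat_lit 0) (nat_lit 2) = true := by decide +kernel
theorem c1ac_f0 : (Nat.ble c1acc0.K 7 && Nat.ble (topK [c1acc1, c1acc3, c1acc5]) c1acc0.K && Nat.beq (c1acc0.Pt 0) (c1atl0.Pt 0) && Nat.beq (ltAll 24 []) 0 && kChk c1ace_P c1ax_P c1acc0.K 1 H15.QS.YM22.B []) = true := by decide +kernel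
theorem c1ac_c : chainCard [c1acc0, c1acc1, c1acc3, c1acc5] = 2688 ∧ topK [c1acc0, c1acc1, c1acc3, c1acc5] = 7 := by decide +kernel
theorem c1v_lt : H16.allL (ltAll 10) c1v_W = true := by decide +kernel
theorem c1cth_lt : H16.allL (ltAll 10) c1cth_W = true := by decide +kernel
theorem c1ctl0_e_0 : allZ (dent c1ctl0 c1cth_P (nat_lit 24)) (nat_lit 0) (nat_lit 21) = true := by decide +kernel
theorem c1ctl0_h : 0 < c1ctl0.n ∧ 0 < c1ctl0.K ∧ c1ctl0.Pt 0 < 24 ∧ c1ctl0.Q (c1ctl0.Pt 0) = 0 := by decide +kernel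
theorem c1ctl1_e_0 : allZ (dent c1ctl1 c1cth_P (nat_lit 24)) (nat_lit 0) (nat_lit 20) = true := by decide +kernel
theorem c1ctl1_h : 0 < c1ctl1.n ∧ 0 < c1ctl1.K ∧ c1ctl1.Pt 0 < 24 ∧ c1ctl1.Q (c1ctl1.Pt 0) = 0 := by decide +kernel
theorem c1ctl2_e_0 : allZ (dent c1ctl2 c1cth_P (nat_lit 24)) (nat_lit 0) (nat_lit 19) = true := by decide +kernel
theorem c1ctl2_h : 0 < c1ctl2.n ∧ 0 < c1ctl2.K ∧ c1ctl2.Pt 0 < 24 ∧ c1ctl2.Q (c1ctl2.Pt 0) = 0 := by decide +kernel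
theorem c1ctl3_e_0 : allZ (dent c1ctl3 c1cth_P (nat_lit 24)) (nat_lit 0) (nat_lit 15) = true := by decide +kernel
theorem c1ctl3_h : 0 < c1ctl3.n ∧ 0 < c1ctl3.K ∧ c1ctl3.Pt 0 < 24 ∧ c1ctl3.Q (c1ctl3.Pt 0) = 0 := by decide +kernel
theorem c1ctl4_e_0 : allZ (dent c1ctl4 c1cth_P (nat_lit 24)) (nat_lit 0) (nat_lit 2) = true := by decide +kernel
theorem c1ctl4_h : 0 < c1ctl4.n ∧ 0 < c1ctl4.K ∧ c1ctl4.Pt 0 < 24 ∧ c1ctl4.Q (c1ctl4.Pt 0) = 0 := by decide +kernel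
theorem c1ctl5_e_0 : allZ (dent c1ctl5 c1cth_P (nat_lit 24)) (nat_lit 0) (nat_lit 1) = true := by decide +kernel
theorem c1ctl5_h : 0 < c1ctl5.n ∧ 0 < c1ctl5.K ∧ c1ctl5.Pt 0 < 24 ∧ c1ctl5.Q (c1ctl5.Pt 0) = 0 := by decide +kernel
theorem c1ct_f5 : (Nat.ble c1ctl5.K 15 && Nat.ble (topK []) c1ctl5.K && fixLetters c1cth_P (topK []) (c1ctl5.Pt 0)) = true := by decide +kernel
theorem c1ct_f4 : (Nat.ble c1ctl4.K 15 && Nat.ble (topK [c1ctl5]) c1ctl4.K && fixLetters c1cth_P (topK [c1ctl5]) (c1ctl4.Pt 0)) = true := by decide +kernel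
theorem c1ct_f3 : (Nat.ble c1ctl3.K 15 && Nat.ble (topK [c1ctl4, c1ctl5]) c1ctl3.K && fixLetters c1cth_P (topK [c1ctl4, c1ctl5]) (c1ctl3.Pt 0)) = true := by decide +kernel
theorem c1ct_f2 : (Nat.ble c1ctl2.K 15 && Nat.ble (topK [c1ctl3, c1ctl4, c1ctl5]) c1ctl2.K && fixLetters c1cth_P (topK [c1ctl3, c1ctl4, c1ctl5]) (c1ctl2.Pt 0)) = true := by decide +kernel
theorem c1ct_f1 : (Nat.ble c1ctl1.K 15 && Nat.ble (topK [c1ctl2, c1ctl3, c1ctl4, c1ctl5]) c1ctl1.K && fixLetters c1cth_P (topK [c1ctl2, c1ctl3, c1ctl4, c1ctl5]) (c1ctl1.Pt 0)) = true := by decide +kernel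
theorem c1ct_f0 : (Nat.ble c1ctl0.K 15 && Nat.ble (topK [c1ctl1, c1ctl2, c1ctl3, c1ctl4, c1ctl5]) c1ctl0.K && fixLetters c1cth_P (topK [c1ctl1, c1ctl2, c1ctl3, c1ctl4, c1ctl5]) (c1ctl0.Pt 0)) = true := by decide +kernel
theorem c1ct_c : chainCard [c1ctl0, c1ctl1, c1ctl2, c1ctl3, c1ctl4, c1ctl5] = 887040 := by decide +kernel
theorem c1ce_lt : H16.allL (ltAll 10) c1ce_W = true := by decide +kernel
theorem c1cc5_e_0 : allZ (dent c1cc5 c1ce_P (nat_lit 24)) (nat_lit 0) (nat_lit 1) = true := by decide +kernel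
theorem c1cc5_h : 0 < c1cc5.n ∧ 0 < c1cc5.K ∧ c1cc5.Pt 0 < 24 ∧ c1cc5.Q (c1cc5.Pt 0) = 0 := by decide +kernel
theorem c1ctn0_0 : (Nat.ble c1ctl5.K 15 && Nat.beq (ltAll 24 [c1ctl4.Pt 0, c1ctl3.Pt 0, c1ctl2.Pt 0, c1ctl1.Pt 0, c1ctl0.Pt 0]) 0 && kChk c1ce_P c1v_P c1ctn0.Kn 3 H15.QS.YM22.B [c1ctl4.Pt 0, c1ctl3.Pt 0, c1ctl2.Pt 0, c1ctl1.Pt 0, c1ctl0.Pt 0] && H16.allL (ltAll 3) c1ctn0.pre && planOK c1cth_P c1v_P 3 (c1ctl5.Pt 0) c1ctn0.plan [c1ctl5]) = true := by decide +kernel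
theorem c1ctn0_1_0 : allZ (c1ctn0.ent H15.QS.YM22.P c1cth_P c1v_P c1v_P c1ce_P (nat_lit 10) (nat_lit 3) H15.QS.YM22.B c1ctl5 [] (memO c1cc5)) (nat_lit 0) (nat_lit 2) = true := by decide +kernel
theorem c1c_f5 : (Nat.ble c1cc5.K 4 && Nat.ble (topK []) c1cc5.K && Nat.beq (c1cc5.Pt 0) (c1ctl5.Pt 0) && Nat.beq (ltAll 24 [c1ctl4.Pt 0, c1ctl3.Pt 0, c1ctl2.Pt 0, c1ctl1.Pt 0, c1ctl0.Pt 0]) 0 && kChk c1ce_P c1v_P c1cc5.K 3 H15.QS.YM22.B [c1ctl4.Pt 0, c1ctl3.Pt 0, c1ctl2.Pt 0, c1ctl1.Pt 0, c1ctl0.Pt 0]) = true := by decide +kernel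
theorem c1c_f4 : (Nat.ble c1ctl4.K 15 && Nat.blt (nat_lit 2) 24 && fixLetters c1cth_P c1ctl4.K (nat_lit 2) && Nat.beq (ltAll 3 [nat_lit 0, nat_lit 2]) 0 && Nat.beq (apW c1v_P [nat_lit 0, nat_lit 2] (nat_lit 2)) (c1ctl4.Pt 0)) = true := by decide +kernel
theorem c1c_f3 : (Nat.ble c1ctl3.K 15 && Nat.blt (nat_lit 2) 24 && fixLetters c1cth_P c1ctl3.K (nat_lit 2) && Nat.beq (ltAll 3 [nat_lit 1]) 0 && Nat.beq (apW c1v_P [nat_lit 1] (nat_lit 2)) (c1ctl3.Pt 0)) = true := by decide +kernel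
theorem c1c_f2 : (Nat.ble c1ctl2.K 15 && Nat.blt (nat_lit 2) 24 && fixLetters c1cth_P c1ctl2.K (nat_lit 2) && Nat.beq (ltAll 3 [nat_lit 0]) 0 && Nat.beq (apW c1v_P [nat_lit 0] (nat_lit 2)) (c1ctl2.Pt 0)) = true := by decide +kernel
theorem c1c_f1 : (Nat.ble c1ctl1.K 15 && Nat.blt (nat_lit 2) 24 && fixLetters c1cth_P c1ctl1.K (nat_lit 2) && Nat.beq (ltAll 3 [nat_lit 2]) 0 && Nat.beq (apW c1v_P [nat_lit 2] (nat_lit 2)) (c1ctl1.Pt 0)) = true := by decide +kernel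
theorem c1cc0_e_0 : allZ (dent c1cc0 c1ce_P (nat_lit 24)) (nat_lit 0) (nat_lit 7) = true := by decide +kernel
theorem c1cc0_h : 0 < c1cc0.n ∧ 0 < c1cc0.K ∧ c1cc0.Pt 0 < 24 ∧ c1cc0.Q (c1cc0.Pt 0) = 0 := by decide +kernel
theorem c1ctn1_0 : (Nat.ble c1ctl0.K 15 && Nat.beq (ltAll 24 []) 0 && kChk c1ce_P c1v_P c1ctn1.Kn 3 H15.QS.YM22.B [] && H16.allL (ltAll 3) c1ctn1.pre && planOK c1cth_P c1v_P 3 (c1ctl0.Pt 0) c1ctn1.plan [c1ctl0, c1ctl1, c1ctl2, c1ctl3, c1ctl4, c1ctl5]) = true := by decide +kernel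
theorem c1ctn1_1_0 : allZ (c1ctn1.ent H15.QS.YM22.P c1cth_P c1v_P c1v_P c1ce_P (nat_lit 10) (nat_lit 3) H15.QS.YM22.B c1ctl0 [c1ctl1, c1ctl2, c1ctl3, c1ctl4, c1ctl5] (memO c1cc0)) (nat_lit 0) (nat_lit 22) = true := by decide +kernel
theorem c1c_f0 : (Nat.ble c1cc0.K 4 && Nat.ble (topK [c1cc5]) c1cc0.K && Nat.beq (c1cc0.Pt 0) (c1ctl0.Pt 0) && Nat.beq (ltAll 24 []) 0 && kChk c1ce_P c1v_P c1cc0.K 3 H15.QS.YM22.B []) = true := by decide +kernel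
theorem c1c_c : chainCard [c1cc0, c1cc5] = 16 ∧ topK [c1cc0, c1cc5] = 4 := by decide +kernel
theorem c1z_k_0 : allZ (cmEnt c1v_P covr_P (nat_lit 3) H15.QS.YM22.B (nat_lit 1)) (nat_lit 0) (nat_lit 3) = true := by decide +kernel
theorem c1n_k_a : allZ2 (nrmEnt c1v_P c1ace_P (nat_lit 3) H15.QS.YM22.B c1nW) (nat_lit 7) (nat_lit 3) = true := by decide +kernel
theorem c1m0_k_0 : allZ (cmEnt c1v_P c1v_P (nat_lit 3) H15.QS.YM22.B (nat_lit 0)) (nat_lit 0) (nat_lit 3) = true := by decide +kernel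
theorem c1m1_k_0 : allZ (cmEnt c1v_P c1v_P (nat_lit 3) H15.QS.YM22.B (nat_lit 1)) (nat_lit 0) (nat_lit 3) = true := by decide +kernel
theorem c1m2_k_0 : allZ (cmEnt c1v_P c1v_P (nat_lit 3) H15.QS.YM22.B (nat_lit 2)) (nat_lit 0) (nat_lit 3) = true := by decide +kernel
theorem c2ax_lt : H16.allL (ltAll 10) c2ax_W = true := by decide +kernel
theorem c2ath_lt : H16.allL (ltAll 10) c2ath_W = true := by decide +kernel
theorem c2atl0_e_0 : allZ (dent c2atl0 c2ath_P (nat_lit 24)) (nat_lit 0) (nat_lit 1) = true := by decide +kernel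
theorem c2atl0_h : 0 < c2atl0.n ∧ 0 < c2atl0.K ∧ c2atl0.Pt 0 < 24 ∧ c2atl0.Q (c2atl0.Pt 0) = 0 := by decide +kernel
theorem c2atl1_e_0 : allZ (dent c2atl1 c2ath_P (nat_lit 24)) (nat_lit 0) (nat_lit 21) = true := by decide +kernel
theorem c2atl1_h : 0 < c2atl1.n ∧ 0 < c2atl1.K ∧ c2atl1.Pt 0 < 24 ∧ c2atl1.Q (c2atl1.Pt 0) = 0 := by decide +kernel
theorem c2atl2_e_0 : allZ (dent c2atl2 c2ath_P (nat_lit 24)) (nat_lit 0) (nat_lit 20) = true := by decide +kernel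
theorem c2atl2_h : 0 < c2atl2.n ∧ 0 < c2atl2.K ∧ c2atl2.Pt 0 < 24 ∧ c2atl2.Q (c2atl2.Pt 0) = 0 := by decide +kernel
theorem c2atl3_e_0 : allZ (dent c2atl3 c2ath_P (nat_lit 24)) (nat_lit 0) (nat_lit 19) = true := by decide +kernel
theorem c2atl3_h : 0 < c2atl3.n ∧ 0 < c2atl3.K ∧ c2atl3.Pt 0 < 24 ∧ c2atl3.Q (c2atl3.Pt 0) = 0 := by decide +kernel
theorem c2atl4_e_0 : allZ (dent c2atl4 c2ath_P (nat_lit 24)) (nat_lit 0) (nat_lit 15) = true := by decide +kernel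
theorem c2atl4_h : 0 < c2atl4.n ∧ 0 < c2atl4.K ∧ c2atl4.Pt 0 < 24 ∧ c2atl4.Q (c2atl4.Pt 0) = 0 := by decide +kernel
theorem c2atl5_e_0 : allZ (dent c2atl5 c2ath_P (nat_lit 24)) (nat_lit 0) (nat_lit 2) = true := by decide +kernel
theorem c2atl5_h : 0 < c2atl5.n ∧ 0 < c2atl5.K ∧ c2atl5.Pt 0 < 24 ∧ c2atl5.Q (c2atl5.Pt 0) = 0 := by decide +kernel
theorem c2at_f5 : (Nat.ble c2atl5.K 13 && Nat.ble (topK []) c2atl5.K && fixLetters c2ath_P (topK []) (c2atl5.Pt 0)) = true := by decide +kernel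
theorem c2at_f4 : (Nat.ble c2atl4.K 13 && Nat.ble (topK [c2atl5]) c2atl4.K && fixLetters c2ath_P (topK [c2atl5]) (c2atl4.Pt 0)) = true := by decide +kernel
theorem c2at_f3 : (Nat.ble c2atl3.K 13 && Nat.ble (topK [c2atl4, c2atl5]) c2atl3.K && fixLetters c2ath_P (topK [c2atl4, c2atl5]) (c2atl3.Pt 0)) = true := by decide +kernel
theorem c2at_f2 : (Nat.ble c2atl2.K 13 && Nat.ble (topK [c2atl3, c2atl4, c2atl5]) c2atl2.K && fixLetters c2ath_P (topK [c2atl3, c2atl4, c2atl5]) (c2atl2.Pt 0)) = true := by decide +kernel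
theorem c2at_f1 : (Nat.ble c2atl1.K 13 && Nat.ble (topK [c2atl2, c2atl3, c2atl4, c2atl5]) c2atl1.K && fixLetters c2ath_P (topK [c2atl2, c2atl3, c2atl4, c2atl5]) (c2atl1.Pt 0)) = true := by decide +kernel
theorem c2at_f0 : (Nat.ble c2atl0.K 13 && Nat.ble (topK [c2atl1, c2atl2, c2atl3, c2atl4, c2atl5]) c2atl0.K && fixLetters c2ath_P (topK [c2atl1, c2atl2, c2atl3, c2atl4, c2atl5]) (c2atl0.Pt 0)) = true := by decide +kernel
theorem c2at_c : chainCard [c2atl0, c2atl1, c2atl2, c2atl3, c2atl4, c2atl5] = 887040 := by decide +kernel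
theorem c2ace_lt : H16.allL (ltAll 10) c2ace_W = true := by decide +kernel
theorem c2atn0_0 : (Nat.ble c2atl5.K 13 && Nat.beq (ltAll 24 [c2atl4.Pt 0, c2atl3.Pt 0, c2atl2.Pt 0, c2atl1.Pt 0, c2atl0.Pt 0]) 0 && kChk c2ace_P c2ax_P c2atn0.Kn 1 H15.QS.YM22.B [c2atl4.Pt 0, c2atl3.Pt 0, c2atl2.Pt 0, c2atl1.Pt 0, c2atl0.Pt 0] && H16.allL (ltAll 1) c2atn0.pre && planOK c2ath_P c2ax_P 1 (c2atl5.Pt 0) c2atn0.plan [c2atl5]) = true := by decide +kernel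
theorem c2atn0_1_0 : allZ (c2atn0.ent H15.QS.YM22.P c2ath_P c2ax_P c2ax_P c2ace_P (nat_lit 10) (nat_lit 1) H15.QS.YM22.B c2atl5 [] (fun w => Nat.xor w (c2atl5.Pt (nat_lit 0)))) (nat_lit 0) (nat_lit 3) = true := by decide +kernel
theorem c2ac_f4 : (Nat.ble c2atl4.K 13 && Nat.blt (nat_lit 2) 24 && fixLetters c2ath_P c2atl4.K (nat_lit 2) && Nat.beq (ltAll 1 [nat_lit 0]) 0 && Nat.beq (apW c2ax_P [nat_lit 0] (nat_lit 2)) (c2atl4.Pt 0)) = true := by decide +kernel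
theorem c2acc3_e_0 : allZ (dent c2acc3 c2ace_P (nat_lit 24)) (nat_lit 0) (nat_lit 15) = true := by decide +kernel
theorem c2acc3_h : 0 < c2acc3.n ∧ 0 < c2acc3.K ∧ c2acc3.Pt 0 < 24 ∧ c2acc3.Q (c2acc3.Pt 0) = 0 := by decide +kernel
theorem c2atn1_0 : (Nat.ble c2atl3.K 13 && Nat.beq (ltAll 24 [c2atl2.Pt 0, c2atl1.Pt 0, c2atl0.Pt 0]) 0 && kChk c2ace_P c2ax_P c2atn1.Kn 1 H15.QS.YM22.B [c2atl2.Pt 0, c2atl1.Pt 0, c2atl0.Pt 0] && H16.allL (ltAll 1) c2atn1.pre && planOK c2ath_P c2ax_P 1 (c2atl3.Pt 0) c2atn1.plan [c2atl3, c2atl4, c2atl5]) = true := by decide +kernel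
theorem c2atn1_1_0 : allZ (c2atn1.ent H15.QS.YM22.P c2ath_P c2ax_P c2ax_P c2ace_P (nat_lit 10) (nat_lit 1) H15.QS.YM22.B c2atl3 [c2atl4, c2atl5] (memO c2acc3)) (nat_lit 0) (nat_lit 20) = true := by decide +kernel
theorem c2ac_f3 : (Nat.ble c2acc3.K 4 && Nat.ble (topK []) c2acc3.K && Nat.beq (c2acc3.Pt 0) (c2atl3.Pt 0) && Nat.beq (ltAll 24 [c2atl2.Pt 0, c2atl1.Pt 0, c2atl0.Pt 0]) 0 && kChk c2ace_P c2ax_P c2acc3.K 1 H15.QS.YM22.B [c2atl2.Pt 0, c2atl1.Pt 0, c2atl0.Pt 0]) = true := by decide +kernel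
theorem c2ac_f2 : (Nat.ble c2atl2.K 13 && Nat.blt (nat_lit 1) 24 && fixLetters c2ath_P c2atl2.K (nat_lit 1) && Nat.beq (ltAll 1 [nat_lit 0]) 0 && Nat.beq (apW c2ax_P [nat_lit 0] (nat_lit 1)) (c2atl2.Pt 0)) = true := by decide +kernel
theorem c2acc1_e_0 : allZ (dent c2acc1 c2ace_P (nat_lit 24)) (nat_lit 0) (nat_lit 19) = true := by decide +kernel
theorem c2acc1_h : 0 < c2acc1.n ∧ 0 < c2acc1.K ∧ c2acc1.Pt 0 < 24 ∧ c2acc1.Q (c2acc1.Pt 0) = 0 := by decide +kernel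
theorem c2atn2y4_lt : H16.allL (ltAll 10) c2atn2y4_W = true := by decide +kernel
theorem c2atr3k_lt : H16.allL (ltAll 10) c2atr3k_W = true := by decide +kernel
theorem c2atn3_0 : (Nat.ble c2atl3.K 13 && Nat.beq (ltAll 24 [c2atl2.Pt 0, c2atl1.Pt 0, c2atl0.Pt 0]) 0 && kChk c2atr3k_P c2atn2y4_P c2atn3.Kn 1 H15.QS.YM22.B [c2atl2.Pt 0, c2atl1.Pt 0, c2atl0.Pt 0] && H16.allL (ltAll 1) c2atn3.pre && planOK c2ath_P c2ax_P 1 (c2atl3.Pt 0) c2atn3.plan [c2atl3, c2atl4, c2atl5]) = true := by decide +kernel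
theorem c2atn3_1_0 : allZ (c2atn3.ent H15.QS.YM22.P c2ath_P c2ax_P c2atn2y4_P c2atr3k_P (nat_lit 10) (nat_lit 1) H15.QS.YM22.B c2atl3 [c2atl4, c2atl5] (fun _ => nat_lit 1)) (nat_lit 0) (nat_lit 20) = true := by decide +kernel
theorem c2atn2_0 : (Nat.ble c2atl1.K 13 && Nat.beq (ltAll 24 [c2atl0.Pt 0]) 0 && kChk c2ace_P c2ax_P c2atn2.Kn 1 H15.QS.YM22.B [c2atl0.Pt 0] && H16.allL (ltAll 1) c2atn2.pre && planOK c2ath_P c2ax_P 1 (c2atl1.Pt 0) c2atn2.plan [c2atl1, c2atl2, c2atl3, c2atl4, c2atl5]) = true := by decide +kernel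
theorem c2atn2_1_0 : allZ (c2atn2.ent H15.QS.YM22.P c2ath_P c2ax_P c2ax_P c2ace_P (nat_lit 10) (nat_lit 1) H15.QS.YM22.B c2atl1 [c2atl2, c2atl3, c2atl4, c2atl5] (memO c2acc1)) (nat_lit 0) (nat_lit 22) = true := by decide +kernel
theorem c2ac_f1 : (Nat.ble c2acc1.K 4 && Nat.ble (topK [c2acc3]) c2acc1.K && Nat.beq (c2acc1.Pt 0) (c2atl1.Pt 0) && Nat.beq (ltAll 24 [c2atl0.Pt 0]) 0 && kChk c2ace_P c2ax_P c2acc1.K 1 H15.QS.YM22.B [c2atl0.Pt 0]) = true := by decide +kernel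
theorem c2acc0_e_0 : allZ (dent c2acc0 c2ace_P (nat_lit 24)) (nat_lit 0) (nat_lit 1) = true := by decide +kernel
theorem c2acc0_h : 0 < c2acc0.n ∧ 0 < c2acc0.K ∧ c2acc0.Pt 0 < 24 ∧ c2acc0.Q (c2acc0.Pt 0) = 0 := by decide +kernel
theorem c2atn4_0 : (Nat.ble c2atl0.K 13 && Nat.beq (ltAll 24 []) 0 && kChk c2ace_P c2ax_P c2atn4.Kn 1 H15.QS.YM22.B [] && H16.allL (ltAll 1) c2atn4.pre && planOK c2ath_P c2ax_P 1 (c2atl0.Pt 0) c2atn4.plan [c2atl0, c2atl1, c2atl2, c2atl3, c2atl4, c2atl5]) = true := by decide +kernel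
theorem c2atn4_1_0 : allZ (c2atn4.ent H15.QS.YM22.P c2ath_P c2ax_P c2ax_P c2ace_P (nat_lit 10) (nat_lit 1) H15.QS.YM22.B c2atl0 [c2atl1, c2atl2, c2atl3, c2atl4, c2atl5] (memO c2acc0)) (nat_lit 0) (nat_lit 2) = true := by decide +kernel
theorem c2ac_f0 : (Nat.ble c2acc0.K 4 && Nat.ble (topK [c2acc1, c2acc3]) c2acc0.K && Nat.beq (c2acc0.Pt 0) (c2atl0.Pt 0) && Nat.beq (ltAll 24 []) 0 && kChk c2ace_P c2ax_P c2acc0.K 1 H15.QS.YM22.B []) = true := by decide +kernel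
theorem c2ac_c : chainCard [c2acc0, c2acc1, c2acc3] = 640 ∧ topK [c2acc0, c2acc1, c2acc3] = 4 := by decide +kernel

theorem y1 : ∀ k < 10, ∀ i < 24, (permEnt P (nth 0 iv) (nat_lit 24)) k i = 0 := allZ2_sound y1_a
theorem y2 : ∀ k < 9, ∀ i < 24, (matEnt H15.MM22.P P) k i = 0 := allZ2_sound y2_a
theorem y3 : ∀ k < 9, ∀ i < 24, (extEnt P (nat_lit 9) xW) k i = 0 := allZ2_sound y3_a
theorem yl_act {G Ω : Type*} [Group G] [MulAction G Ω] {g : ℕ → G} {pt : ℕ → Ω}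
    (M : Act g pt H15.QS.YM22.P 24 10) : Act (wds g yl_W) pt yl_P 24 11 :=
  M.wds yl_lt _
theorem yll0_e : ∀ i < 21, (dent yll0 yl_P (nat_lit 24)) i = 0 := allZ_sound0 yll0_e_0
theorem yll0_ok : DOK yll0 yl_P 24 := ⟨yll0_h, yll0_e⟩
theorem yll1_e : ∀ i < 20, (dent yll1 yl_P (nat_lit 24)) i = 0 := allZ_sound0 yll1_e_0
theorem yll1_ok : DOK yll1 yl_P 24 := ⟨yll1_h, yll1_e⟩
theorem yll2_e : ∀ i < 19, (dent yll2 yl_P (nat_lit 24)) i = 0 := allZ_sound0 yll2_e_0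
theorem yll2_ok : DOK yll2 yl_P 24 := ⟨yll2_h, yll2_e⟩
theorem yll3_e : ∀ i < 2, (dent yll3 yl_P (nat_lit 24)) i = 0 := allZ_sound0 yll3_e_0
theorem yll3_ok : DOK yll3 yl_P 24 := ⟨yll3_h, yll3_e⟩
theorem yll4_e : ∀ i < 15, (dent yll4 yl_P (nat_lit 24)) i = 0 := allZ_sound0 yll4_e_0
theorem yll4_ok : DOK yll4 yl_P 24 := ⟨yll4_h, yll4_e⟩
theorem yll5_e : ∀ i < 1, (dent yll5 yl_P (nat_lit 24)) i = 0 := allZ_sound0 yll5_e_0
theorem yll5_ok : DOK yll5 yl_P 24 := ⟨yll5_h, yll5_e⟩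
theorem yl_low {G Ω : Type*} [Group G] [MulAction G Ω] {g : ℕ → G} {pt : ℕ → Ω}
    (M : Act g pt H15.QS.YM22.P 24 10) : SLow (gi (wds g yl_W)) pt 24 [yll0, yll1, yll2, yll3, yll4, yll5] :=
  ((((((SLow.nil).cons yll5_ok (yl_act M) yl_f5).cons yll4_ok (yl_act M) yl_f4).cons yll3_ok (yl_act M) yl_f3).cons yll2_ok (yl_act M) yl_f2).cons yll1_ok (yl_act M) yl_f1).cons yll0_ok (yl_act M) yl_f0
theorem ymd {G Ω : Type*} [Group G] [MulAction G Ω] {g : ℕ → G} {pt : ℕ → Ω}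
    (M : Md g pt H15.MM22.P 24 9 H15.MM22.B 443520) : ∃ (Y : Type) (_ : Group Y) (_ : MulAction Y (Fin 24)) (γ : ℕ → Y), Md γ (ptF 24) P 24 10 B 887040 ∧
      (gen γ 9).index = 2 ∧ ∃ φ : gen γ 9 ≃* G, ∀ k (hk : k < 9), φ ⟨γ k, mem_gen γ hk⟩ = g k :=
  md_ext M y1 y2 y3 yl_low yc
theorem md {G : Type*} [Group G] (e : gen H15.MM22.g 9 ≃* G) :
    ∃ (_ : MulAction G (Cfsg.GolayPt)) (g : ℕ → G), Md g H15.pt H15.MM22.P 24 9 H15.MM22.B 443520 ∧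
      ∀ k < 9, (e.symm (g k)).1 = H15.MM22.g k :=
  exists_md H15.MM22.act H15.MM22.inj H15.MM22.card H15.MM22.isBase md_b e
theorem cb_act {G Ω : Type*} [Group G] [MulAction G Ω] {g : ℕ → G} {pt : ℕ → Ω}
    (M : Md g pt H15.QS.YM22.P 24 10 H15.QS.YM22.B 887040) : Act (wds g cb_W) pt cb_P 24 2 :=
  M.wact cb_lt
theorem cbcth_act {G Ω : Type*} [Group G] [MulAction G Ω] {g : ℕ → G} {pt : ℕ → Ω}
    (M : Md g pt H15.QS.YM22.P 24 10 H15.QS.YM22.B 887040) : Act (wds g cbcth_W) pt cbcth_P 24 15 :=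
  M.wact cbcth_lt
theorem cbctl0_e : ∀ i < 21, (dent cbctl0 cbcth_P (nat_lit 24)) i = 0 := allZ_sound0 cbctl0_e_0
theorem cbctl0_ok : DOK cbctl0 cbcth_P 24 := ⟨cbctl0_h, cbctl0_e⟩
theorem cbctl1_e : ∀ i < 20, (dent cbctl1 cbcth_P (nat_lit 24)) i = 0 := allZ_sound0 cbctl1_e_0
theorem cbctl1_ok : DOK cbctl1 cbcth_P 24 := ⟨cbctl1_h, cbctl1_e⟩
theorem cbctl2_e : ∀ i < 19, (dent cbctl2 cbcth_P (nat_lit 24)) i = 0 := allZ_sound0 cbctl2_e_0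
theorem cbctl2_ok : DOK cbctl2 cbcth_P 24 := ⟨cbctl2_h, cbctl2_e⟩
theorem cbctl3_e : ∀ i < 15, (dent cbctl3 cbcth_P (nat_lit 24)) i = 0 := allZ_sound0 cbctl3_e_0
theorem cbctl3_ok : DOK cbctl3 cbcth_P 24 := ⟨cbctl3_h, cbctl3_e⟩
theorem cbctl4_e : ∀ i < 2, (dent cbctl4 cbcth_P (nat_lit 24)) i = 0 := allZ_sound0 cbctl4_e_0
theorem cbctl4_ok : DOK cbctl4 cbcth_P 24 := ⟨cbctl4_h, cbctl4_e⟩
theorem cbctl5_e : ∀ i < 1, (dent cbctl5 cbcth_P (nat_lit 24)) i = 0 := allZ_sound0 cbctl5_e_0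
theorem cbctl5_ok : DOK cbctl5 cbcth_P 24 := ⟨cbctl5_h, cbctl5_e⟩
theorem cbct_low {G Ω : Type*} [Group G] [MulAction G Ω] {g : ℕ → G} {pt : ℕ → Ω}
    (M : Md g pt H15.QS.YM22.P 24 10 H15.QS.YM22.B 887040) : SLow (gi (wds g cbcth_W)) pt 24 [cbctl0, cbctl1, cbctl2, cbctl3, cbctl4, cbctl5] :=
  ((((((SLow.nil).cons cbctl5_ok (cbcth_act M) cbct_f5).cons cbctl4_ok (cbcth_act M) cbct_f4).cons cbctl3_ok (cbcth_act M) cbct_f3).cons cbctl2_ok (cbcth_act M) cbct_f2).cons cbctl1_ok (cbcth_act M) cbct_f1).cons cbctl0_ok (cbcth_act M) cbct_f0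
theorem cbct_S0 {G Ω : Type*} [Group G] [MulAction G Ω] {g : ℕ → G} {pt : ℕ → Ω}
    (M : Md g pt H15.QS.YM22.P 24 10 H15.QS.YM22.B 887040) : Stage ⊤ (wds g cbcth_W) pt 24 [cbctl0, cbctl1, cbctl2, cbctl3, cbctl4, cbctl5] [] :=
  M.stage (cbct_low M) cbct_c
theorem cbct_S1 {G Ω : Type*} [Group G] [MulAction G Ω] {g : ℕ → G} {pt : ℕ → Ω}
    (M : Md g pt H15.QS.YM22.P 24 10 H15.QS.YM22.B 887040) : Stage ⊤ (wds g cbcth_W) pt 24 [cbctl1, cbctl2, cbctl3, cbctl4, cbctl5] [cbctl0.Pt 0] :=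
  (cbct_S0 M).next
theorem cbct_S2 {G Ω : Type*} [Group G] [MulAction G Ω] {g : ℕ → G} {pt : ℕ → Ω}
    (M : Md g pt H15.QS.YM22.P 24 10 H15.QS.YM22.B 887040) : Stage ⊤ (wds g cbcth_W) pt 24 [cbctl2, cbctl3, cbctl4, cbctl5] [cbctl1.Pt 0, cbctl0.Pt 0] :=
  (cbct_S1 M).next
theorem cbct_S3 {G Ω : Type*} [Group G] [MulAction G Ω] {g : ℕ → G} {pt : ℕ → Ω}
    (M : Md g pt H15.QS.YM22.P 24 10 H15.QS.YM22.B 887040) : Stage ⊤ (wds g cbcth_W) pt 24 [cbctl3, cbctl4, cbctl5] [cbctl2.Pt 0, cbctl1.Pt 0, cbctl0.Pt 0] :=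
  (cbct_S2 M).next
theorem cbct_S4 {G Ω : Type*} [Group G] [MulAction G Ω] {g : ℕ → G} {pt : ℕ → Ω}
    (M : Md g pt H15.QS.YM22.P 24 10 H15.QS.YM22.B 887040) : Stage ⊤ (wds g cbcth_W) pt 24 [cbctl4, cbctl5] [cbctl3.Pt 0, cbctl2.Pt 0, cbctl1.Pt 0, cbctl0.Pt 0] :=
  (cbct_S3 M).next
theorem cbct_S5 {G Ω : Type*} [Group G] [MulAction G Ω] {g : ℕ → G} {pt : ℕ → Ω}
    (M : Md g pt H15.QS.YM22.P 24 10 H15.QS.YM22.B 887040) : Stage ⊤ (wds g cbcth_W) pt 24 [cbctl5] [cbctl4.Pt 0, cbctl3.Pt 0, cbctl2.Pt 0, cbctl1.Pt 0, cbctl0.Pt 0] :=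
  (cbct_S4 M).next
theorem cbct_S6 {G Ω : Type*} [Group G] [MulAction G Ω] {g : ℕ → G} {pt : ℕ → Ω}
    (M : Md g pt H15.QS.YM22.P 24 10 H15.QS.YM22.B 887040) : Stage ⊤ (wds g cbcth_W) pt 24 [] [cbctl5.Pt 0, cbctl4.Pt 0, cbctl3.Pt 0, cbctl2.Pt 0, cbctl1.Pt 0, cbctl0.Pt 0] :=
  (cbct_S5 M).next
theorem cbce_act {G Ω : Type*} [Group G] [MulAction G Ω] {g : ℕ → G} {pt : ℕ → Ω}
    (M : Md g pt H15.QS.YM22.P 24 10 H15.QS.YM22.B 887040) : Act (wds g cbce_W) pt cbce_P 24 0 :=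
  M.wact cbce_lt
theorem cbctn0_1 : ∀ i < 22, (cbctn0.ent H15.QS.YM22.P cbcth_P cb_P cb_P cbce_P (nat_lit 10) (nat_lit 2) H15.QS.YM22.B cbctl0 [cbctl1, cbctl2, cbctl3, cbctl4, cbctl5] (fun w => Nat.xor w (cbctl0.Pt (nat_lit 0)))) i = 0 := allZ_sound0 cbctn0_1_0
theorem cbctn0_t {G Ω : Type*} [Group G] [MulAction G Ω] {g : ℕ → G} {pt : ℕ → Ω}
    (M : Md g pt H15.QS.YM22.P 24 10 H15.QS.YM22.B 887040) : TrO (gen (wds g cbcth_W) cbctl0.K) (wds g cb_W) (wds g cb_W) 2 pt 24 (cbctl0.Pt 0) (fun w => Nat.xor w (cbctl0.Pt (nat_lit 0))) :=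
  node M (cbct_S0 M) (cbcth_act M) (cb_act M) (cb_act M) cbctn0 ((cbce_act M).mono (by decide)) (fun _ _ => trivial) cbctn0_0 cbctn0_1 (List.forall_mem_nil _)
theorem cbc {G Ω : Type*} [Group G] [MulAction G Ω] {g : ℕ → G} {pt : ℕ → Ω}
    (M : Md g pt H15.QS.YM22.P 24 10 H15.QS.YM22.B 887040) : Cen ⊤ (wds g cb_W) 2 (wds g cbce_W) pt 24 [] :=
  (cbct_S0 M).top ▸ Cen.triv (cbct_S0 M) (Cen.triv (cbct_S1 M) (Cen.triv (cbct_S2 M) (Cen.triv (cbct_S3 M) (Cen.triv (cbct_S4 M) (Cen.triv (cbct_S5 M) (Cen.bot) (forced (cbct_S5 M) (cbcth_act M) (cb_act M) _ _ cbc_f5)) (forced (cbct_S4 M) (cbcth_act M) (cb_act M) _ _ cbc_f4)) (forced (cbct_S3 M) (cbcth_act M) (cb_act M) _ _ cbc_f3)) (forced (cbct_S2 M) (cbcth_act M) (cb_act M) _ _ cbc_f2)) (forced (cbct_S1 M) (cbcth_act M) (cb_act M) _ _ cbc_f1)) (cbctn0_t M)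
theorem cbc_eq {G Ω : Type*} [Group G] [MulAction G Ω] {g : ℕ → G} {pt : ℕ → Ω}
    (M : Md g pt H15.QS.YM22.P 24 10 H15.QS.YM22.B 887040) : Subgroup.centralizer (gen (wds g cb_W) 2) = gen (wds g cbce_W) 0 ∧ Nat.card (gen (wds g cbce_W) 0) = 1 :=
  cbc_c.1 ▸ cbc_c.2 ▸ ⟨(cbc M).cent, (cbc M).card M.inj⟩
theorem cbot0 {G Ω : Type*} [Group G] [MulAction G Ω] {g : ℕ → G} {pt : ℕ → Ω}
    (M : Md g pt H15.QS.YM22.P 24 10 H15.QS.YM22.B 887040) : Subgroup.centralizer ((gen g 9) : Set G) = ⊥ :=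
  have := M.fin
  cbot (gen_wds_le (by decide +kernel) _) ((congrArg (fun H : Subgroup G => Nat.card H) (cbc_eq M).1).trans (cbc_eq M).2)
theorem p2t_act {G Ω : Type*} [Group G] [MulAction G Ω] {g : ℕ → G} {pt : ℕ → Ω}
    (M : Md g pt H15.QS.YM22.P 24 10 H15.QS.YM22.B 887040) : Act (wds g p2t_W) pt p2t_P 24 8 :=
  M.wact p2t_lt
theorem p2_r : ∀ k < 8, ∀ i < 20, (resEnt p2t_P p2P p2E p2I (nat_lit 24) (nat_lit 20)) k i = 0 := allZ2_sound p2_r_a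
theorem p2_sm {G Ω : Type*} [Group G] [MulAction G Ω] {g : ℕ → G} {pt : ℕ → Ω}
    (M : Md g pt H15.QS.YM22.P 24 10 H15.QS.YM22.B 887040) : Sm (wds g p2t_W) (fun i => pt (p2E i)) p2P 20 8 p2B ∧ ∀ i < 20, p2E i < 24 :=
  M.res (p2t_act M) (by decide) p2_r p2_b
theorem p2l0_e : ∀ i < 1, (dent p2l0 (wdsP p2P p2e) (nat_lit 20)) i = 0 := allZ_sound0 p2l0_e_0
theorem p2l0_ok : DOK p2l0 (wdsP p2P p2e) 20 := ⟨p2l0_h, p2l0_e⟩
theorem p2l1_e : ∀ i < 15, (dent p2l1 (wdsP p2P p2e) (nat_lit 20)) i = 0 := allZ_sound0 p2l1_e_0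
theorem p2l1_ok : DOK p2l1 (wdsP p2P p2e) 20 := ⟨p2l1_h, p2l1_e⟩
theorem p2l2_e : ∀ i < 3, (dent p2l2 (wdsP p2P p2e) (nat_lit 20)) i = 0 := allZ_sound0 p2l2_e_0
theorem p2l2_ok : DOK p2l2 (wdsP p2P p2e) 20 := ⟨p2l2_h, p2l2_e⟩
theorem p2l3_e : ∀ i < 1, (dent p2l3 (wdsP p2P p2e) (nat_lit 20)) i = 0 := allZ_sound0 p2l3_e_0
theorem p2l3_ok : DOK p2l3 (wdsP p2P p2e) 20 := ⟨p2l3_h, p2l3_e⟩
theorem p2_low {G Ω : Type*} [Group G] [MulAction G Ω] {g : ℕ → G} {pt : ℕ → Ω}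
    (M : Md g pt H15.QS.YM22.P 24 10 H15.QS.YM22.B 887040) : SLow (gi (wds (wds g p2t_W) p2e)) (fun i => pt (p2E i)) 20 [p2l0, p2l1, p2l2, p2l3] :=
  ((((SLow.nil).cons p2l3_ok ((p2_sm M).1.act.wds p2_e 40) p2_f3).cons p2l2_ok ((p2_sm M).1.act.wds p2_e 40) p2_f2).cons p2l1_ok ((p2_sm M).1.act.wds p2_e 40) p2_f1).cons p2l0_ok ((p2_sm M).1.act.wds p2_e 40) p2_f0
theorem p2_pc {G Ω : Type*} [Group G] [MulAction G Ω] {g : ℕ → G} {pt : ℕ → Ω}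
    (M : Md g pt H15.QS.YM22.P 24 10 H15.QS.YM22.B 887040) : PC (wds g p2t_W) 8 2 :=
  have := M.fin
  ((p2_sm M).1.pc0 (by decide) p2_p).pc (p2_low M) (p2_sm M).1.inj
    (fun k => evA_mem_gen _ (nth_lt p2_e k)) M.card ⟨by decide, p2_c⟩
theorem covr_act {G Ω : Type*} [Group G] [MulAction G Ω] {g : ℕ → G} {pt : ℕ → Ω}
    (M : Md g pt H15.QS.YM22.P 24 10 H15.QS.YM22.B 887040) : Act (wds g covr_W) pt covr_P 24 3 :=
  M.wact covr_lt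
theorem cov_0 {G Ω : Type*} [Group G] [MulAction G Ω] {g : ℕ → G} {pt : ℕ → Ω}
    (M : Md g pt H15.QS.YM22.P 24 10 H15.QS.YM22.B 887040) : H0.TR.Cov (wds g p2t_W) (wds g covr_W) 2 3 8 (evA (wds g p2t_W) []) :=
  have := M.fin
  covT0.cov M (p2_sm M).1 (p2_sm M).2 (covr_act M) (p2_pc M) _ _ cov_c0
theorem cov {G Ω : Type*} [Group G] [MulAction G Ω] {g : ℕ → G} {pt : ℕ → Ω}
    (M : Md g pt H15.QS.YM22.P 24 10 H15.QS.YM22.B 887040) {y : G} {e : ℕ} (hy : y ^ 2 ^ e = 1) (hq : y ^ 2 = 1) : Good (wds g covr_W) 3 y :=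
  have := M.fin
  H0.TR.Cov.all (p2_pc M) (cov_0 M) hy hq
theorem c0ax_act {G Ω : Type*} [Group G] [MulAction G Ω] {g : ℕ → G} {pt : ℕ → Ω}
    (M : Md g pt H15.QS.YM22.P 24 10 H15.QS.YM22.B 887040) : Act (wds g c0ax_W) pt c0ax_P 24 1 :=
  M.wact c0ax_lt
theorem c0ath_act {G Ω : Type*} [Group G] [MulAction G Ω] {g : ℕ → G} {pt : ℕ → Ω}
    (M : Md g pt H15.QS.YM22.P 24 10 H15.QS.YM22.B 887040) : Act (wds g c0ath_W) pt c0ath_P 24 16 :=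
  M.wact c0ath_lt
theorem c0atl0_e : ∀ i < 1, (dent c0atl0 c0ath_P (nat_lit 24)) i = 0 := allZ_sound0 c0atl0_e_0
theorem c0atl0_ok : DOK c0atl0 c0ath_P 24 := ⟨c0atl0_h, c0atl0_e⟩
theorem c0atl1_e : ∀ i < 21, (dent c0atl1 c0ath_P (nat_lit 24)) i = 0 := allZ_sound0 c0atl1_e_0
theorem c0atl1_ok : DOK c0atl1 c0ath_P 24 := ⟨c0atl1_h, c0atl1_e⟩
theorem c0atl2_e : ∀ i < 20, (dent c0atl2 c0ath_P (nat_lit 24)) i = 0 := allZ_sound0 c0atl2_e_0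
theorem c0atl2_ok : DOK c0atl2 c0ath_P 24 := ⟨c0atl2_h, c0atl2_e⟩
theorem c0atl3_e : ∀ i < 19, (dent c0atl3 c0ath_P (nat_lit 24)) i = 0 := allZ_sound0 c0atl3_e_0
theorem c0atl3_ok : DOK c0atl3 c0ath_P 24 := ⟨c0atl3_h, c0atl3_e⟩
theorem c0atl4_e : ∀ i < 2, (dent c0atl4 c0ath_P (nat_lit 24)) i = 0 := allZ_sound0 c0atl4_e_0
theorem c0atl4_ok : DOK c0atl4 c0ath_P 24 := ⟨c0atl4_h, c0atl4_e⟩
theorem c0atl5_e : ∀ i < 15, (dent c0atl5 c0ath_P (nat_lit 24)) i = 0 := allZ_sound0 c0atl5_e_0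
theorem c0atl5_ok : DOK c0atl5 c0ath_P 24 := ⟨c0atl5_h, c0atl5_e⟩
theorem c0at_low {G Ω : Type*} [Group G] [MulAction G Ω] {g : ℕ → G} {pt : ℕ → Ω}
    (M : Md g pt H15.QS.YM22.P 24 10 H15.QS.YM22.B 887040) : SLow (gi (wds g c0ath_W)) pt 24 [c0atl0, c0atl1, c0atl2, c0atl3, c0atl4, c0atl5] :=
  ((((((SLow.nil).cons c0atl5_ok (c0ath_act M) c0at_f5).cons c0atl4_ok (c0ath_act M) c0at_f4).cons c0atl3_ok (c0ath_act M) c0at_f3).cons c0atl2_ok (c0ath_act M) c0at_f2).cons c0atl1_ok (c0ath_act M) c0at_f1).cons c0atl0_ok (c0ath_act M) c0at_f0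
theorem c0at_S0 {G Ω : Type*} [Group G] [MulAction G Ω] {g : ℕ → G} {pt : ℕ → Ω}
    (M : Md g pt H15.QS.YM22.P 24 10 H15.QS.YM22.B 887040) : Stage ⊤ (wds g c0ath_W) pt 24 [c0atl0, c0atl1, c0atl2, c0atl3, c0atl4, c0atl5] [] :=
  M.stage (c0at_low M) c0at_c
theorem c0at_S1 {G Ω : Type*} [Group G] [MulAction G Ω] {g : ℕ → G} {pt : ℕ → Ω}
    (M : Md g pt H15.QS.YM22.P 24 10 H15.QS.YM22.B 887040) : Stage ⊤ (wds g c0ath_W) pt 24 [c0atl1, c0atl2, c0atl3, c0atl4, c0atl5] [c0atl0.Pt 0] :=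
  (c0at_S0 M).next
theorem c0at_S2 {G Ω : Type*} [Group G] [MulAction G Ω] {g : ℕ → G} {pt : ℕ → Ω}
    (M : Md g pt H15.QS.YM22.P 24 10 H15.QS.YM22.B 887040) : Stage ⊤ (wds g c0ath_W) pt 24 [c0atl2, c0atl3, c0atl4, c0atl5] [c0atl1.Pt 0, c0atl0.Pt 0] :=
  (c0at_S1 M).next
theorem c0at_S3 {G Ω : Type*} [Group G] [MulAction G Ω] {g : ℕ → G} {pt : ℕ → Ω}
    (M : Md g pt H15.QS.YM22.P 24 10 H15.QS.YM22.B 887040) : Stage ⊤ (wds g c0ath_W) pt 24 [c0atl3, c0atl4, c0atl5] [c0atl2.Pt 0, c0atl1.Pt 0, c0atl0.Pt 0] :=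
  (c0at_S2 M).next
theorem c0at_S4 {G Ω : Type*} [Group G] [MulAction G Ω] {g : ℕ → G} {pt : ℕ → Ω}
    (M : Md g pt H15.QS.YM22.P 24 10 H15.QS.YM22.B 887040) : Stage ⊤ (wds g c0ath_W) pt 24 [c0atl4, c0atl5] [c0atl3.Pt 0, c0atl2.Pt 0, c0atl1.Pt 0, c0atl0.Pt 0] :=
  (c0at_S3 M).next
theorem c0at_S5 {G Ω : Type*} [Group G] [MulAction G Ω] {g : ℕ → G} {pt : ℕ → Ω}
    (M : Md g pt H15.QS.YM22.P 24 10 H15.QS.YM22.B 887040) : Stage ⊤ (wds g c0ath_W) pt 24 [c0atl5] [c0atl4.Pt 0, c0atl3.Pt 0, c0atl2.Pt 0, c0atl1.Pt 0, c0atl0.Pt 0] :=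
  (c0at_S4 M).next
theorem c0at_S6 {G Ω : Type*} [Group G] [MulAction G Ω] {g : ℕ → G} {pt : ℕ → Ω}
    (M : Md g pt H15.QS.YM22.P 24 10 H15.QS.YM22.B 887040) : Stage ⊤ (wds g c0ath_W) pt 24 [] [c0atl5.Pt 0, c0atl4.Pt 0, c0atl3.Pt 0, c0atl2.Pt 0, c0atl1.Pt 0, c0atl0.Pt 0] :=
  (c0at_S5 M).next
theorem c0ace_act {G Ω : Type*} [Group G] [MulAction G Ω] {g : ℕ → G} {pt : ℕ → Ω}
    (M : Md g pt H15.QS.YM22.P 24 10 H15.QS.YM22.B 887040) : Act (wds g c0ace_W) pt c0ace_P 24 7 :=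
  M.wact c0ace_lt
theorem c0acc5_e : ∀ i < 3, (dent c0acc5 c0ace_P (nat_lit 24)) i = 0 := allZ_sound0 c0acc5_e_0
theorem c0acc5_ok : DOK c0acc5 c0ace_P 24 := ⟨c0acc5_h, c0acc5_e⟩
theorem c0atn0_1 : ∀ i < 16, (c0atn0.ent H15.QS.YM22.P c0ath_P c0ax_P c0ax_P c0ace_P (nat_lit 10) (nat_lit 1) H15.QS.YM22.B c0atl5 [] (memO c0acc5)) i = 0 := allZ_sound0 c0atn0_1_0
theorem c0atn0_t {G Ω : Type*} [Group G] [MulAction G Ω] {g : ℕ → G} {pt : ℕ → Ω}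
    (M : Md g pt H15.QS.YM22.P 24 10 H15.QS.YM22.B 887040) : TrO (gen (wds g c0ath_W) c0atl5.K) (wds g c0ax_W) (wds g c0ax_W) 1 pt 24 (c0atl5.Pt 0) (memO c0acc5) :=
  node M (c0at_S5 M) (c0ath_act M) (c0ax_act M) (c0ax_act M) c0atn0 ((c0ace_act M).mono (by decide)) (fun _ _ => trivial) c0atn0_0 c0atn0_1 (List.forall_mem_nil _)
theorem c0acc3_e : ∀ i < 5, (dent c0acc3 c0ace_P (nat_lit 24)) i = 0 := allZ_sound0 c0acc3_e_0
theorem c0acc3_ok : DOK c0acc3 c0ace_P 24 := ⟨c0acc3_h, c0acc3_e⟩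
theorem c0atn1_1 : ∀ i < 20, (c0atn1.ent H15.QS.YM22.P c0ath_P c0ax_P c0ax_P c0ace_P (nat_lit 10) (nat_lit 1) H15.QS.YM22.B c0atl3 [c0atl4, c0atl5] (memO c0acc3)) i = 0 := allZ_sound0 c0atn1_1_0
theorem c0atn1_t {G Ω : Type*} [Group G] [MulAction G Ω] {g : ℕ → G} {pt : ℕ → Ω}
    (M : Md g pt H15.QS.YM22.P 24 10 H15.QS.YM22.B 887040) : TrO (gen (wds g c0ath_W) c0atl3.K) (wds g c0ax_W) (wds g c0ax_W) 1 pt 24 (c0atl3.Pt 0) (memO c0acc3) :=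
  node M (c0at_S3 M) (c0ath_act M) (c0ax_act M) (c0ax_act M) c0atn1 ((c0ace_act M).mono (by decide)) (fun _ _ => trivial) c0atn1_0 c0atn1_1 (List.forall_mem_nil _)
theorem c0acc1_e : ∀ i < 15, (dent c0acc1 c0ace_P (nat_lit 24)) i = 0 := allZ_sound0 c0acc1_e_0
theorem c0acc1_ok : DOK c0acc1 c0ace_P 24 := ⟨c0acc1_h, c0acc1_e⟩
theorem c0atn2_1 : ∀ i < 22, (c0atn2.ent H15.QS.YM22.P c0ath_P c0ax_P c0ax_P c0ace_P (nat_lit 10) (nat_lit 1) H15.QS.YM22.B c0atl1 [c0atl2, c0atl3, c0atl4, c0atl5] (memO c0acc1)) i = 0 := allZ_sound0 c0atn2_1_0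
theorem c0atn2_t {G Ω : Type*} [Group G] [MulAction G Ω] {g : ℕ → G} {pt : ℕ → Ω}
    (M : Md g pt H15.QS.YM22.P 24 10 H15.QS.YM22.B 887040) : TrO (gen (wds g c0ath_W) c0atl1.K) (wds g c0ax_W) (wds g c0ax_W) 1 pt 24 (c0atl1.Pt 0) (memO c0acc1) :=
  node M (c0at_S1 M) (c0ath_act M) (c0ax_act M) (c0ax_act M) c0atn2 ((c0ace_act M).mono (by decide)) (fun _ _ => trivial) c0atn2_0 c0atn2_1 (List.forall_mem_nil _)
theorem c0acc0_e : ∀ i < 1, (dent c0acc0 c0ace_P (nat_lit 24)) i = 0 := allZ_sound0 c0acc0_e_0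
theorem c0acc0_ok : DOK c0acc0 c0ace_P 24 := ⟨c0acc0_h, c0acc0_e⟩
theorem c0atn3_1 : ∀ i < 2, (c0atn3.ent H15.QS.YM22.P c0ath_P c0ax_P c0ax_P c0ace_P (nat_lit 10) (nat_lit 1) H15.QS.YM22.B c0atl0 [c0atl1, c0atl2, c0atl3, c0atl4, c0atl5] (memO c0acc0)) i = 0 := allZ_sound0 c0atn3_1_0
theorem c0atn3_t {G Ω : Type*} [Group G] [MulAction G Ω] {g : ℕ → G} {pt : ℕ → Ω}
    (M : Md g pt H15.QS.YM22.P 24 10 H15.QS.YM22.B 887040) : TrO (gen (wds g c0ath_W) c0atl0.K) (wds g c0ax_W) (wds g c0ax_W) 1 pt 24 (c0atl0.Pt 0) (memO c0acc0) :=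
  node M (c0at_S0 M) (c0ath_act M) (c0ax_act M) (c0ax_act M) c0atn3 ((c0ace_act M).mono (by decide)) (fun _ _ => trivial) c0atn3_0 c0atn3_1 (List.forall_mem_nil _)
theorem c0ac {G Ω : Type*} [Group G] [MulAction G Ω] {g : ℕ → G} {pt : ℕ → Ω}
    (M : Md g pt H15.QS.YM22.P 24 10 H15.QS.YM22.B 887040) : Cen ⊤ (wds g c0ax_W) 1 (wds g c0ace_W) pt 24 [c0acc0, c0acc1, c0acc3, c0acc5] :=
  (c0at_S0 M).top ▸ Cen.lev M (c0at_S0 M) (Cen.lev M (c0at_S1 M) (Cen.triv (c0at_S2 M) (Cen.lev M (c0at_S3 M) (Cen.triv (c0at_S4 M) (Cen.lev M (c0at_S5 M) (Cen.bot) (c0atn0_t M) (c0ax_act M) (c0ace_act M) (fun _ _ => trivial) c0acc5_ok c0ac_f5) (forced (c0at_S4 M) (c0ath_act M) (c0ax_act M) _ _ c0ac_f4)) (c0atn1_t M) (c0ax_act M) (c0ace_act M) (fun _ _ => trivial) c0acc3_ok c0ac_f3) (forced (c0at_S2 M) (c0ath_act M) (c0ax_act M) _ _ c0ac_f2)) (c0atn2_t M) (c0ax_act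 M) (c0ace_act M) (fun _ _ => trivial) c0acc1_ok c0ac_f1) (c0atn3_t M) (c0ax_act M) (c0ace_act M) (fun _ _ => trivial) c0acc0_ok c0ac_f0
theorem c0ac_card {G Ω : Type*} [Group G] [MulAction G Ω] {g : ℕ → G} {pt : ℕ → Ω}
    (M : Md g pt H15.QS.YM22.P 24 10 H15.QS.YM22.B 887040) : Nat.card (Subgroup.centralizer {(wds g c0ax_W) 0}) = 768 :=
  (c0ac M).card_cent1 M.inj c0ac_c.1
theorem c0ac_eq {G Ω : Type*} [Group G] [MulAction G Ω] {g : ℕ → G} {pt : ℕ → Ω}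
    (M : Md g pt H15.QS.YM22.P 24 10 H15.QS.YM22.B 887040) : Subgroup.centralizer (gen (wds g c0ax_W) 1) = gen (wds g c0ace_W) 7 ∧ Nat.card (gen (wds g c0ace_W) 7) = 768 :=
  c0ac_c.1 ▸ c0ac_c.2 ▸ ⟨(c0ac M).cent, (c0ac M).card M.inj⟩
theorem c0a_z {G Ω : Type*} [Group G] [MulAction G Ω] {g : ℕ → G} {pt : ℕ → Ω}
    (M : Md g pt H15.QS.YM22.P 24 10 H15.QS.YM22.B 887040) : Subgroup.centralizer {(wds g c0ax_W) 0} = (gen (wds g c0ace_W) 7) :=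
  c0ac_c.2 ▸ (c0ac M).cent1
theorem c0 {G Ω : Type*} [Group G] [MulAction G Ω] {g : ℕ → G} {pt : ℕ → Ω}
    (M : Md g pt H15.QS.YM22.P 24 10 H15.QS.YM22.B 887040) : NC ((wds g covr_W) 0) (gen g 9) :=
  have := M.fin
  nc1 (q := 3) (c0ac_card M) (by norm_num)
theorem c1ax_act {G Ω : Type*} [Group G] [MulAction G Ω] {g : ℕ → G} {pt : ℕ → Ω}
    (M : Md g pt H15.QS.YM22.P 24 10 H15.QS.YM22.B 887040) : Act (wds g c1ax_W) pt c1ax_P 24 1 :=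
  M.wact c1ax_lt
theorem c1ath_act {G Ω : Type*} [Group G] [MulAction G Ω] {g : ℕ → G} {pt : ℕ → Ω}
    (M : Md g pt H15.QS.YM22.P 24 10 H15.QS.YM22.B 887040) : Act (wds g c1ath_W) pt c1ath_P 24 16 :=
  M.wact c1ath_lt
theorem c1atl0_e : ∀ i < 1, (dent c1atl0 c1ath_P (nat_lit 24)) i = 0 := allZ_sound0 c1atl0_e_0
theorem c1atl0_ok : DOK c1atl0 c1ath_P 24 := ⟨c1atl0_h, c1atl0_e⟩
theorem c1atl1_e : ∀ i < 21, (dent c1atl1 c1ath_P (nat_lit 24)) i = 0 := allZ_sound0 c1atl1_e_0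
theorem c1atl1_ok : DOK c1atl1 c1ath_P 24 := ⟨c1atl1_h, c1atl1_e⟩
theorem c1atl2_e : ∀ i < 20, (dent c1atl2 c1ath_P (nat_lit 24)) i = 0 := allZ_sound0 c1atl2_e_0
theorem c1atl2_ok : DOK c1atl2 c1ath_P 24 := ⟨c1atl2_h, c1atl2_e⟩
theorem c1atl3_e : ∀ i < 19, (dent c1atl3 c1ath_P (nat_lit 24)) i = 0 := allZ_sound0 c1atl3_e_0
theorem c1atl3_ok : DOK c1atl3 c1ath_P 24 := ⟨c1atl3_h, c1atl3_e⟩
theorem c1atl4_e : ∀ i < 2, (dent c1atl4 c1ath_P (nat_lit 24)) i = 0 := allZ_sound0 c1atl4_e_0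
theorem c1atl4_ok : DOK c1atl4 c1ath_P 24 := ⟨c1atl4_h, c1atl4_e⟩
theorem c1atl5_e : ∀ i < 15, (dent c1atl5 c1ath_P (nat_lit 24)) i = 0 := allZ_sound0 c1atl5_e_0
theorem c1atl5_ok : DOK c1atl5 c1ath_P 24 := ⟨c1atl5_h, c1atl5_e⟩
theorem c1at_low {G Ω : Type*} [Group G] [MulAction G Ω] {g : ℕ → G} {pt : ℕ → Ω}
    (M : Md g pt H15.QS.YM22.P 24 10 H15.QS.YM22.B 887040) : SLow (gi (wds g c1ath_W)) pt 24 [c1atl0, c1atl1, c1atl2, c1atl3, c1atl4, c1atl5] :=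
  ((((((SLow.nil).cons c1atl5_ok (c1ath_act M) c1at_f5).cons c1atl4_ok (c1ath_act M) c1at_f4).cons c1atl3_ok (c1ath_act M) c1at_f3).cons c1atl2_ok (c1ath_act M) c1at_f2).cons c1atl1_ok (c1ath_act M) c1at_f1).cons c1atl0_ok (c1ath_act M) c1at_f0
theorem c1at_S0 {G Ω : Type*} [Group G] [MulAction G Ω] {g : ℕ → G} {pt : ℕ → Ω}
    (M : Md g pt H15.QS.YM22.P 24 10 H15.QS.YM22.B 887040) : Stage ⊤ (wds g c1ath_W) pt 24 [c1atl0, c1atl1, c1atl2, c1atl3, c1atl4, c1atl5] [] :=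
  M.stage (c1at_low M) c1at_c
theorem c1at_S1 {G Ω : Type*} [Group G] [MulAction G Ω] {g : ℕ → G} {pt : ℕ → Ω}
    (M : Md g pt H15.QS.YM22.P 24 10 H15.QS.YM22.B 887040) : Stage ⊤ (wds g c1ath_W) pt 24 [c1atl1, c1atl2, c1atl3, c1atl4, c1atl5] [c1atl0.Pt 0] :=
  (c1at_S0 M).next
theorem c1at_S2 {G Ω : Type*} [Group G] [MulAction G Ω] {g : ℕ → G} {pt : ℕ → Ω}
    (M : Md g pt H15.QS.YM22.P 24 10 H15.QS.YM22.B 887040) : Stage ⊤ (wds g c1ath_W) pt 24 [c1atl2, c1atl3, c1atl4, c1atl5] [c1atl1.Pt 0, c1atl0.Pt 0] :=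
  (c1at_S1 M).next
theorem c1at_S3 {G Ω : Type*} [Group G] [MulAction G Ω] {g : ℕ → G} {pt : ℕ → Ω}
    (M : Md g pt H15.QS.YM22.P 24 10 H15.QS.YM22.B 887040) : Stage ⊤ (wds g c1ath_W) pt 24 [c1atl3, c1atl4, c1atl5] [c1atl2.Pt 0, c1atl1.Pt 0, c1atl0.Pt 0] :=
  (c1at_S2 M).next
theorem c1at_S4 {G Ω : Type*} [Group G] [MulAction G Ω] {g : ℕ → G} {pt : ℕ → Ω}
    (M : Md g pt H15.QS.YM22.P 24 10 H15.QS.YM22.B 887040) : Stage ⊤ (wds g c1ath_W) pt 24 [c1atl4, c1atl5] [c1atl3.Pt 0, c1atl2.Pt 0, c1atl1.Pt 0, c1atl0.Pt 0] :=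
  (c1at_S3 M).next
theorem c1at_S5 {G Ω : Type*} [Group G] [MulAction G Ω] {g : ℕ → G} {pt : ℕ → Ω}
    (M : Md g pt H15.QS.YM22.P 24 10 H15.QS.YM22.B 887040) : Stage ⊤ (wds g c1ath_W) pt 24 [c1atl5] [c1atl4.Pt 0, c1atl3.Pt 0, c1atl2.Pt 0, c1atl1.Pt 0, c1atl0.Pt 0] :=
  (c1at_S4 M).next
theorem c1at_S6 {G Ω : Type*} [Group G] [MulAction G Ω] {g : ℕ → G} {pt : ℕ → Ω}
    (M : Md g pt H15.QS.YM22.P 24 10 H15.QS.YM22.B 887040) : Stage ⊤ (wds g c1ath_W) pt 24 [] [c1atl5.Pt 0, c1atl4.Pt 0, c1atl3.Pt 0, c1atl2.Pt 0, c1atl1.Pt 0, c1atl0.Pt 0] :=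
  (c1at_S5 M).next
theorem c1ace_act {G Ω : Type*} [Group G] [MulAction G Ω] {g : ℕ → G} {pt : ℕ → Ω}
    (M : Md g pt H15.QS.YM22.P 24 10 H15.QS.YM22.B 887040) : Act (wds g c1ace_W) pt c1ace_P 24 7 :=
  M.wact c1ace_lt
theorem c1acc5_e : ∀ i < 7, (dent c1acc5 c1ace_P (nat_lit 24)) i = 0 := allZ_sound0 c1acc5_e_0
theorem c1acc5_ok : DOK c1acc5 c1ace_P 24 := ⟨c1acc5_h, c1acc5_e⟩
theorem c1atn0_1 : ∀ i < 16, (c1atn0.ent H15.QS.YM22.P c1ath_P c1ax_P c1ax_P c1ace_P (nat_lit 10) (nat_lit 1) H15.QS.YM22.B c1atl5 [] (memO c1acc5)) i = 0 := allZ_sound0 c1atn0_1_0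
theorem c1atn0_t {G Ω : Type*} [Group G] [MulAction G Ω] {g : ℕ → G} {pt : ℕ → Ω}
    (M : Md g pt H15.QS.YM22.P 24 10 H15.QS.YM22.B 887040) : TrO (gen (wds g c1ath_W) c1atl5.K) (wds g c1ax_W) (wds g c1ax_W) 1 pt 24 (c1atl5.Pt 0) (memO c1acc5) :=
  node M (c1at_S5 M) (c1ath_act M) (c1ax_act M) (c1ax_act M) c1atn0 ((c1ace_act M).mono (by decide)) (fun _ _ => trivial) c1atn0_0 c1atn0_1 (List.forall_mem_nil _)
theorem c1acc3_e : ∀ i < 11, (dent c1acc3 c1ace_P (nat_lit 24)) i = 0 := allZ_sound0 c1acc3_e_0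
theorem c1acc3_ok : DOK c1acc3 c1ace_P 24 := ⟨c1acc3_h, c1acc3_e⟩
theorem c1atn1_1 : ∀ i < 20, (c1atn1.ent H15.QS.YM22.P c1ath_P c1ax_P c1ax_P c1ace_P (nat_lit 10) (nat_lit 1) H15.QS.YM22.B c1atl3 [c1atl4, c1atl5] (memO c1acc3)) i = 0 := allZ_sound0 c1atn1_1_0
theorem c1atn1_t {G Ω : Type*} [Group G] [MulAction G Ω] {g : ℕ → G} {pt : ℕ → Ω}
    (M : Md g pt H15.QS.YM22.P 24 10 H15.QS.YM22.B 887040) : TrO (gen (wds g c1ath_W) c1atl3.K) (wds g c1ax_W) (wds g c1ax_W) 1 pt 24 (c1atl3.Pt 0) (memO c1acc3) :=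
  node M (c1at_S3 M) (c1ath_act M) (c1ax_act M) (c1ax_act M) c1atn1 ((c1ace_act M).mono (by decide)) (fun _ _ => trivial) c1atn1_0 c1atn1_1 (List.forall_mem_nil _)
theorem c1acc1_e : ∀ i < 13, (dent c1acc1 c1ace_P (nat_lit 24)) i = 0 := allZ_sound0 c1acc1_e_0
theorem c1acc1_ok : DOK c1acc1 c1ace_P 24 := ⟨c1acc1_h, c1acc1_e⟩
theorem c1atn2_1 : ∀ i < 22, (c1atn2.ent H15.QS.YM22.P c1ath_P c1ax_P c1ax_P c1ace_P (nat_lit 10) (nat_lit 1) H15.QS.YM22.B c1atl1 [c1atl2, c1atl3, c1atl4, c1atl5] (memO c1acc1)) i = 0 := allZ_sound0 c1atn2_1_0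
theorem c1atn2_t {G Ω : Type*} [Group G] [MulAction G Ω] {g : ℕ → G} {pt : ℕ → Ω}
    (M : Md g pt H15.QS.YM22.P 24 10 H15.QS.YM22.B 887040) : TrO (gen (wds g c1ath_W) c1atl1.K) (wds g c1ax_W) (wds g c1ax_W) 1 pt 24 (c1atl1.Pt 0) (memO c1acc1) :=
  node M (c1at_S1 M) (c1ath_act M) (c1ax_act M) (c1ax_act M) c1atn2 ((c1ace_act M).mono (by decide)) (fun _ _ => trivial) c1atn2_0 c1atn2_1 (List.forall_mem_nil _)
theorem c1acc0_e : ∀ i < 1, (dent c1acc0 c1ace_P (nat_lit 24)) i = 0 := allZ_sound0 c1acc0_e_0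
theorem c1acc0_ok : DOK c1acc0 c1ace_P 24 := ⟨c1acc0_h, c1acc0_e⟩
theorem c1atn3_1 : ∀ i < 2, (c1atn3.ent H15.QS.YM22.P c1ath_P c1ax_P c1ax_P c1ace_P (nat_lit 10) (nat_lit 1) H15.QS.YM22.B c1atl0 [c1atl1, c1atl2, c1atl3, c1atl4, c1atl5] (memO c1acc0)) i = 0 := allZ_sound0 c1atn3_1_0
theorem c1atn3_t {G Ω : Type*} [Group G] [MulAction G Ω] {g : ℕ → G} {pt : ℕ → Ω}
    (M : Md g pt H15.QS.YM22.P 24 10 H15.QS.YM22.B 887040) : TrO (gen (wds g c1ath_W) c1atl0.K) (wds g c1ax_W) (wds g c1ax_W) 1 pt 24 (c1atl0.Pt 0) (memO c1acc0) :=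
  node M (c1at_S0 M) (c1ath_act M) (c1ax_act M) (c1ax_act M) c1atn3 ((c1ace_act M).mono (by decide)) (fun _ _ => trivial) c1atn3_0 c1atn3_1 (List.forall_mem_nil _)
theorem c1ac {G Ω : Type*} [Group G] [MulAction G Ω] {g : ℕ → G} {pt : ℕ → Ω}
    (M : Md g pt H15.QS.YM22.P 24 10 H15.QS.YM22.B 887040) : Cen ⊤ (wds g c1ax_W) 1 (wds g c1ace_W) pt 24 [c1acc0, c1acc1, c1acc3, c1acc5] :=
  (c1at_S0 M).top ▸ Cen.lev M (c1at_S0 M) (Cen.lev M (c1at_S1 M) (Cen.triv (c1at_S2 M) (Cen.lev M (c1at_S3 M) (Cen.triv (c1at_S4 M) (Cen.lev M (c1at_S5 M) (Cen.bot) (c1atn0_t M) (c1ax_act M) (c1ace_act M) (fun _ _ => trivial) c1acc5_ok c1ac_f5) (forced (c1at_S4 M) (c1ath_act M) (c1ax_act M) _ _ c1ac_f4)) (c1atn1_t M) (c1ax_act M) (c1ace_act M) (fun _ _ => trivial) c1acc3_ok c1ac_f3) (forced (c1at_S2 M) (c1ath_act M) (c1ax_act M) _ _ c1ac_f2)) (c1atn2_t M) (c1ax_act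 M) (c1ace_act M) (fun _ _ => trivial) c1acc1_ok c1ac_f1) (c1atn3_t M) (c1ax_act M) (c1ace_act M) (fun _ _ => trivial) c1acc0_ok c1ac_f0
theorem c1ac_card {G Ω : Type*} [Group G] [MulAction G Ω] {g : ℕ → G} {pt : ℕ → Ω}
    (M : Md g pt H15.QS.YM22.P 24 10 H15.QS.YM22.B 887040) : Nat.card (Subgroup.centralizer {(wds g c1ax_W) 0}) = 2688 :=
  (c1ac M).card_cent1 M.inj c1ac_c.1
theorem c1ac_eq {G Ω : Type*} [Group G] [MulAction G Ω] {g : ℕ → G} {pt : ℕ → Ω}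
    (M : Md g pt H15.QS.YM22.P 24 10 H15.QS.YM22.B 887040) : Subgroup.centralizer (gen (wds g c1ax_W) 1) = gen (wds g c1ace_W) 7 ∧ Nat.card (gen (wds g c1ace_W) 7) = 2688 :=
  c1ac_c.1 ▸ c1ac_c.2 ▸ ⟨(c1ac M).cent, (c1ac M).card M.inj⟩
theorem c1a_z {G Ω : Type*} [Group G] [MulAction G Ω] {g : ℕ → G} {pt : ℕ → Ω}
    (M : Md g pt H15.QS.YM22.P 24 10 H15.QS.YM22.B 887040) : Subgroup.centralizer {(wds g c1ax_W) 0} = (gen (wds g c1ace_W) 7) :=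
  c1ac_c.2 ▸ (c1ac M).cent1
theorem c1v_act {G Ω : Type*} [Group G] [MulAction G Ω] {g : ℕ → G} {pt : ℕ → Ω}
    (M : Md g pt H15.QS.YM22.P 24 10 H15.QS.YM22.B 887040) : Act (wds g c1v_W) pt c1v_P 24 3 :=
  M.wact c1v_lt
theorem c1cth_act {G Ω : Type*} [Group G] [MulAction G Ω] {g : ℕ → G} {pt : ℕ → Ω}
    (M : Md g pt H15.QS.YM22.P 24 10 H15.QS.YM22.B 887040) : Act (wds g c1cth_W) pt c1cth_P 24 15 :=
  M.wact c1cth_lt
theorem c1ctl0_e : ∀ i < 21, (dent c1ctl0 c1cth_P (nat_lit 24)) i = 0 := allZ_sound0 c1ctl0_e_0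
theorem c1ctl0_ok : DOK c1ctl0 c1cth_P 24 := ⟨c1ctl0_h, c1ctl0_e⟩
theorem c1ctl1_e : ∀ i < 20, (dent c1ctl1 c1cth_P (nat_lit 24)) i = 0 := allZ_sound0 c1ctl1_e_0
theorem c1ctl1_ok : DOK c1ctl1 c1cth_P 24 := ⟨c1ctl1_h, c1ctl1_e⟩
theorem c1ctl2_e : ∀ i < 19, (dent c1ctl2 c1cth_P (nat_lit 24)) i = 0 := allZ_sound0 c1ctl2_e_0
theorem c1ctl2_ok : DOK c1ctl2 c1cth_P 24 := ⟨c1ctl2_h, c1ctl2_e⟩
theorem c1ctl3_e : ∀ i < 15, (dent c1ctl3 c1cth_P (nat_lit 24)) i = 0 := allZ_sound0 c1ctl3_e_0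
theorem c1ctl3_ok : DOK c1ctl3 c1cth_P 24 := ⟨c1ctl3_h, c1ctl3_e⟩
theorem c1ctl4_e : ∀ i < 2, (dent c1ctl4 c1cth_P (nat_lit 24)) i = 0 := allZ_sound0 c1ctl4_e_0
theorem c1ctl4_ok : DOK c1ctl4 c1cth_P 24 := ⟨c1ctl4_h, c1ctl4_e⟩
theorem c1ctl5_e : ∀ i < 1, (dent c1ctl5 c1cth_P (nat_lit 24)) i = 0 := allZ_sound0 c1ctl5_e_0
theorem c1ctl5_ok : DOK c1ctl5 c1cth_P 24 := ⟨c1ctl5_h, c1ctl5_e⟩
theorem c1ct_low {G Ω : Type*} [Group G] [MulAction G Ω] {g : ℕ → G} {pt : ℕ → Ω}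
    (M : Md g pt H15.QS.YM22.P 24 10 H15.QS.YM22.B 887040) : SLow (gi (wds g c1cth_W)) pt 24 [c1ctl0, c1ctl1, c1ctl2, c1ctl3, c1ctl4, c1ctl5] :=
  ((((((SLow.nil).cons c1ctl5_ok (c1cth_act M) c1ct_f5).cons c1ctl4_ok (c1cth_act M) c1ct_f4).cons c1ctl3_ok (c1cth_act M) c1ct_f3).cons c1ctl2_ok (c1cth_act M) c1ct_f2).cons c1ctl1_ok (c1cth_act M) c1ct_f1).cons c1ctl0_ok (c1cth_act M) c1ct_f0
theorem c1ct_S0 {G Ω : Type*} [Group G] [MulAction G Ω] {g : ℕ → G} {pt : ℕ → Ω}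
    (M : Md g pt H15.QS.YM22.P 24 10 H15.QS.YM22.B 887040) : Stage ⊤ (wds g c1cth_W) pt 24 [c1ctl0, c1ctl1, c1ctl2, c1ctl3, c1ctl4, c1ctl5] [] :=
  M.stage (c1ct_low M) c1ct_c
theorem c1ct_S1 {G Ω : Type*} [Group G] [MulAction G Ω] {g : ℕ → G} {pt : ℕ → Ω}
    (M : Md g pt H15.QS.YM22.P 24 10 H15.QS.YM22.B 887040) : Stage ⊤ (wds g c1cth_W) pt 24 [c1ctl1, c1ctl2, c1ctl3, c1ctl4, c1ctl5] [c1ctl0.Pt 0] :=
  (c1ct_S0 M).next
theorem c1ct_S2 {G Ω : Type*} [Group G] [MulAction G Ω] {g : ℕ → G} {pt : ℕ → Ω}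
    (M : Md g pt H15.QS.YM22.P 24 10 H15.QS.YM22.B 887040) : Stage ⊤ (wds g c1cth_W) pt 24 [c1ctl2, c1ctl3, c1ctl4, c1ctl5] [c1ctl1.Pt 0, c1ctl0.Pt 0] :=
  (c1ct_S1 M).next
theorem c1ct_S3 {G Ω : Type*} [Group G] [MulAction G Ω] {g : ℕ → G} {pt : ℕ → Ω}
    (M : Md g pt H15.QS.YM22.P 24 10 H15.QS.YM22.B 887040) : Stage ⊤ (wds g c1cth_W) pt 24 [c1ctl3, c1ctl4, c1ctl5] [c1ctl2.Pt 0, c1ctl1.Pt 0, c1ctl0.Pt 0] :=
  (c1ct_S2 M).next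
theorem c1ct_S4 {G Ω : Type*} [Group G] [MulAction G Ω] {g : ℕ → G} {pt : ℕ → Ω}
    (M : Md g pt H15.QS.YM22.P 24 10 H15.QS.YM22.B 887040) : Stage ⊤ (wds g c1cth_W) pt 24 [c1ctl4, c1ctl5] [c1ctl3.Pt 0, c1ctl2.Pt 0, c1ctl1.Pt 0, c1ctl0.Pt 0] :=
  (c1ct_S3 M).next
theorem c1ct_S5 {G Ω : Type*} [Group G] [MulAction G Ω] {g : ℕ → G} {pt : ℕ → Ω}
    (M : Md g pt H15.QS.YM22.P 24 10 H15.QS.YM22.B 887040) : Stage ⊤ (wds g c1cth_W) pt 24 [c1ctl5] [c1ctl4.Pt 0, c1ctl3.Pt 0, c1ctl2.Pt 0, c1ctl1.Pt 0, c1ctl0.Pt 0] :=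
  (c1ct_S4 M).next
theorem c1ct_S6 {G Ω : Type*} [Group G] [MulAction G Ω] {g : ℕ → G} {pt : ℕ → Ω}
    (M : Md g pt H15.QS.YM22.P 24 10 H15.QS.YM22.B 887040) : Stage ⊤ (wds g c1cth_W) pt 24 [] [c1ctl5.Pt 0, c1ctl4.Pt 0, c1ctl3.Pt 0, c1ctl2.Pt 0, c1ctl1.Pt 0, c1ctl0.Pt 0] :=
  (c1ct_S5 M).next
theorem c1ce_act {G Ω : Type*} [Group G] [MulAction G Ω] {g : ℕ → G} {pt : ℕ → Ω}
    (M : Md g pt H15.QS.YM22.P 24 10 H15.QS.YM22.B 887040) : Act (wds g c1ce_W) pt c1ce_P 24 4 :=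
  M.wact c1ce_lt
theorem c1cc5_e : ∀ i < 1, (dent c1cc5 c1ce_P (nat_lit 24)) i = 0 := allZ_sound0 c1cc5_e_0
theorem c1cc5_ok : DOK c1cc5 c1ce_P 24 := ⟨c1cc5_h, c1cc5_e⟩
theorem c1ctn0_1 : ∀ i < 2, (c1ctn0.ent H15.QS.YM22.P c1cth_P c1v_P c1v_P c1ce_P (nat_lit 10) (nat_lit 3) H15.QS.YM22.B c1ctl5 [] (memO c1cc5)) i = 0 := allZ_sound0 c1ctn0_1_0
theorem c1ctn0_t {G Ω : Type*} [Group G] [MulAction G Ω] {g : ℕ → G} {pt : ℕ → Ω}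
    (M : Md g pt H15.QS.YM22.P 24 10 H15.QS.YM22.B 887040) : TrO (gen (wds g c1cth_W) c1ctl5.K) (wds g c1v_W) (wds g c1v_W) 3 pt 24 (c1ctl5.Pt 0) (memO c1cc5) :=
  node M (c1ct_S5 M) (c1cth_act M) (c1v_act M) (c1v_act M) c1ctn0 ((c1ce_act M).mono (by decide)) (fun _ _ => trivial) c1ctn0_0 c1ctn0_1 (List.forall_mem_nil _)
theorem c1cc0_e : ∀ i < 7, (dent c1cc0 c1ce_P (nat_lit 24)) i = 0 := allZ_sound0 c1cc0_e_0
theorem c1cc0_ok : DOK c1cc0 c1ce_P 24 := ⟨c1cc0_h, c1cc0_e⟩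
theorem c1ctn1_1 : ∀ i < 22, (c1ctn1.ent H15.QS.YM22.P c1cth_P c1v_P c1v_P c1ce_P (nat_lit 10) (nat_lit 3) H15.QS.YM22.B c1ctl0 [c1ctl1, c1ctl2, c1ctl3, c1ctl4, c1ctl5] (memO c1cc0)) i = 0 := allZ_sound0 c1ctn1_1_0
theorem c1ctn1_t {G Ω : Type*} [Group G] [MulAction G Ω] {g : ℕ → G} {pt : ℕ → Ω}
    (M : Md g pt H15.QS.YM22.P 24 10 H15.QS.YM22.B 887040) : TrO (gen (wds g c1cth_W) c1ctl0.K) (wds g c1v_W) (wds g c1v_W) 3 pt 24 (c1ctl0.Pt 0) (memO c1cc0) :=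
  node M (c1ct_S0 M) (c1cth_act M) (c1v_act M) (c1v_act M) c1ctn1 ((c1ce_act M).mono (by decide)) (fun _ _ => trivial) c1ctn1_0 c1ctn1_1 (List.forall_mem_nil _)
theorem c1c {G Ω : Type*} [Group G] [MulAction G Ω] {g : ℕ → G} {pt : ℕ → Ω}
    (M : Md g pt H15.QS.YM22.P 24 10 H15.QS.YM22.B 887040) : Cen ⊤ (wds g c1v_W) 3 (wds g c1ce_W) pt 24 [c1cc0, c1cc5] :=
  (c1ct_S0 M).top ▸ Cen.lev M (c1ct_S0 M) (Cen.triv (c1ct_S1 M) (Cen.triv (c1ct_S2 M) (Cen.triv (c1ct_S3 M) (Cen.triv (c1ct_S4 M) (Cen.lev M (c1ct_S5 M) (Cen.bot) (c1ctn0_t M) (c1v_act M) (c1ce_act M) (fun _ _ => trivial) c1cc5_ok c1c_f5) (forced (c1ct_S4 M) (c1cth_act M) (c1v_act M) _ _ c1c_f4)) (forced (c1ct_S3 M) (c1cth_act M) (c1v_act M) _ _ c1c_f3)) (forced (c1ct_S2 M) (c1cth_act M) (c1v_act M) _ _ c1c_f2)) (forced (c1ct_S1 M) (c1cth_act M) (c1v_act M) _ _ c1c_f1)) (c1ctn1_t M) (c1v_act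 M) (c1ce_act M) (fun _ _ => trivial) c1cc0_ok c1c_f0
theorem c1c_eq {G Ω : Type*} [Group G] [MulAction G Ω] {g : ℕ → G} {pt : ℕ → Ω}
    (M : Md g pt H15.QS.YM22.P 24 10 H15.QS.YM22.B 887040) : Subgroup.centralizer (gen (wds g c1v_W) 3) = gen (wds g c1ce_W) 4 ∧ Nat.card (gen (wds g c1ce_W) 4) = 16 :=
  c1c_c.1 ▸ c1c_c.2 ▸ ⟨(c1c M).cent, (c1c M).card M.inj⟩
theorem c1z_k : ∀ i < 3, (cmEnt c1v_P covr_P (nat_lit 3) H15.QS.YM22.B (nat_lit 1)) i = 0 := allZ_sound0 c1z_k_0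
theorem c1z {G Ω : Type*} [Group G] [MulAction G Ω] {g : ℕ → G} {pt : ℕ → Ω}
    (M : Md g pt H15.QS.YM22.P 24 10 H15.QS.YM22.B 887040) : (wds g covr_W) 1 ∈ Subgroup.centralizer ((gen (wds g c1v_W) 3) : Set G) :=
  cms M (c1v_act M) (covr_act M) (by decide) c1z_k
theorem c1n_k : ∀ k < 7, ∀ i < 3, (nrmEnt c1v_P c1ace_P (nat_lit 3) H15.QS.YM22.B c1nW) k i = 0 := allZ2_sound c1n_k_a
theorem c1n {G Ω : Type*} [Group G] [MulAction G Ω] {g : ℕ → G} {pt : ℕ → Ω}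
    (M : Md g pt H15.QS.YM22.P 24 10 H15.QS.YM22.B 887040) : (gen (wds g c1ace_W) 7) ≤ Subgroup.normalizer ((gen (wds g c1v_W) 3) : Set G) :=
  norms M (c1v_act M) (c1ace_act M) c1n_k
theorem c1m0_k : ∀ i < 3, (cmEnt c1v_P c1v_P (nat_lit 3) H15.QS.YM22.B (nat_lit 0)) i = 0 := allZ_sound0 c1m0_k_0
theorem c1m0 {G Ω : Type*} [Group G] [MulAction G Ω] {g : ℕ → G} {pt : ℕ → Ω}
    (M : Md g pt H15.QS.YM22.P 24 10 H15.QS.YM22.B 887040) : (wds g c1v_W) 0 ∈ Subgroup.centralizer ((gen (wds g c1v_W) 3) : Set G) :=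
  cms M (c1v_act M) (c1v_act M) (by decide) c1m0_k
theorem c1m1_k : ∀ i < 3, (cmEnt c1v_P c1v_P (nat_lit 3) H15.QS.YM22.B (nat_lit 1)) i = 0 := allZ_sound0 c1m1_k_0
theorem c1m1 {G Ω : Type*} [Group G] [MulAction G Ω] {g : ℕ → G} {pt : ℕ → Ω}
    (M : Md g pt H15.QS.YM22.P 24 10 H15.QS.YM22.B 887040) : (wds g c1v_W) 1 ∈ Subgroup.centralizer ((gen (wds g c1v_W) 3) : Set G) :=
  cms M (c1v_act M) (c1v_act M) (by decide) c1m1_k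
theorem c1m2_k : ∀ i < 3, (cmEnt c1v_P c1v_P (nat_lit 3) H15.QS.YM22.B (nat_lit 2)) i = 0 := allZ_sound0 c1m2_k_0
theorem c1m2 {G Ω : Type*} [Group G] [MulAction G Ω] {g : ℕ → G} {pt : ℕ → Ω}
    (M : Md g pt H15.QS.YM22.P 24 10 H15.QS.YM22.B 887040) : (wds g c1v_W) 2 ∈ Subgroup.centralizer ((gen (wds g c1v_W) 3) : Set G) :=
  cms M (c1v_act M) (c1v_act M) (by decide) c1m2_k
theorem c1s {G Ω : Type*} [Group G] [MulAction G Ω] {g : ℕ → G} {pt : ℕ → Ω}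
    (M : Md g pt H15.QS.YM22.P 24 10 H15.QS.YM22.B 887040) : Nat.card (gen (wds g c1v_W) 3) ∣ 16 :=
  have := M.fin
  ((congrArg (fun H : Subgroup G => Nat.card H) (c1c_eq M).1).trans (c1c_eq M).2) ▸ Subgroup.card_dvd_of_le (gen_le.2 fun k hk => match k, hk with | 0, _ => c1m0 M | 1, _ => c1m1 M | 2, _ => c1m2 M)
theorem c1 {G Ω : Type*} [Group G] [MulAction G Ω] {g : ℕ → G} {pt : ℕ → Ω}
    (M : Md g pt H15.QS.YM22.P 24 10 H15.QS.YM22.B 887040) : NC ((wds g covr_W) 1) (gen g 9) :=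
  have := M.fin
  nc2 (a := 16) (b := 16) (gen_wds_le (by decide +kernel) _) (c1z M) ((c1a_z M).le.trans (c1n M)) (c1s M) ((congrArg (fun H : Subgroup G => Nat.card H) (c1c_eq M).1).trans (c1c_eq M).2) (by norm_num)
theorem c2ax_act {G Ω : Type*} [Group G] [MulAction G Ω] {g : ℕ → G} {pt : ℕ → Ω}
    (M : Md g pt H15.QS.YM22.P 24 10 H15.QS.YM22.B 887040) : Act (wds g c2ax_W) pt c2ax_P 24 1 :=
  M.wact c2ax_lt
theorem c2ath_act {G Ω : Type*} [Group G] [MulAction G Ω] {g : ℕ → G} {pt : ℕ → Ω}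
    (M : Md g pt H15.QS.YM22.P 24 10 H15.QS.YM22.B 887040) : Act (wds g c2ath_W) pt c2ath_P 24 13 :=
  M.wact c2ath_lt
theorem c2atl0_e : ∀ i < 1, (dent c2atl0 c2ath_P (nat_lit 24)) i = 0 := allZ_sound0 c2atl0_e_0
theorem c2atl0_ok : DOK c2atl0 c2ath_P 24 := ⟨c2atl0_h, c2atl0_e⟩
theorem c2atl1_e : ∀ i < 21, (dent c2atl1 c2ath_P (nat_lit 24)) i = 0 := allZ_sound0 c2atl1_e_0
theorem c2atl1_ok : DOK c2atl1 c2ath_P 24 := ⟨c2atl1_h, c2atl1_e⟩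
theorem c2atl2_e : ∀ i < 20, (dent c2atl2 c2ath_P (nat_lit 24)) i = 0 := allZ_sound0 c2atl2_e_0
theorem c2atl2_ok : DOK c2atl2 c2ath_P 24 := ⟨c2atl2_h, c2atl2_e⟩
theorem c2atl3_e : ∀ i < 19, (dent c2atl3 c2ath_P (nat_lit 24)) i = 0 := allZ_sound0 c2atl3_e_0
theorem c2atl3_ok : DOK c2atl3 c2ath_P 24 := ⟨c2atl3_h, c2atl3_e⟩
theorem c2atl4_e : ∀ i < 15, (dent c2atl4 c2ath_P (nat_lit 24)) i = 0 := allZ_sound0 c2atl4_e_0
theorem c2atl4_ok : DOK c2atl4 c2ath_P 24 := ⟨c2atl4_h, c2atl4_e⟩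
theorem c2atl5_e : ∀ i < 2, (dent c2atl5 c2ath_P (nat_lit 24)) i = 0 := allZ_sound0 c2atl5_e_0
theorem c2atl5_ok : DOK c2atl5 c2ath_P 24 := ⟨c2atl5_h, c2atl5_e⟩
theorem c2at_low {G Ω : Type*} [Group G] [MulAction G Ω] {g : ℕ → G} {pt : ℕ → Ω}
    (M : Md g pt H15.QS.YM22.P 24 10 H15.QS.YM22.B 887040) : SLow (gi (wds g c2ath_W)) pt 24 [c2atl0, c2atl1, c2atl2, c2atl3, c2atl4, c2atl5] :=
  ((((((SLow.nil).cons c2atl5_ok (c2ath_act M) c2at_f5).cons c2atl4_ok (c2ath_act M) c2at_f4).cons c2atl3_ok (c2ath_act M) c2at_f3).cons c2atl2_ok (c2ath_act M) c2at_f2).cons c2atl1_ok (c2ath_act M) c2at_f1).cons c2atl0_ok (c2ath_act M) c2at_f0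
theorem c2at_S0 {G Ω : Type*} [Group G] [MulAction G Ω] {g : ℕ → G} {pt : ℕ → Ω}
    (M : Md g pt H15.QS.YM22.P 24 10 H15.QS.YM22.B 887040) : Stage ⊤ (wds g c2ath_W) pt 24 [c2atl0, c2atl1, c2atl2, c2atl3, c2atl4, c2atl5] [] :=
  M.stage (c2at_low M) c2at_c
theorem c2at_S1 {G Ω : Type*} [Group G] [MulAction G Ω] {g : ℕ → G} {pt : ℕ → Ω}
    (M : Md g pt H15.QS.YM22.P 24 10 H15.QS.YM22.B 887040) : Stage ⊤ (wds g c2ath_W) pt 24 [c2atl1, c2atl2, c2atl3, c2atl4, c2atl5] [c2atl0.Pt 0] :=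
  (c2at_S0 M).next
theorem c2at_S2 {G Ω : Type*} [Group G] [MulAction G Ω] {g : ℕ → G} {pt : ℕ → Ω}
    (M : Md g pt H15.QS.YM22.P 24 10 H15.QS.YM22.B 887040) : Stage ⊤ (wds g c2ath_W) pt 24 [c2atl2, c2atl3, c2atl4, c2atl5] [c2atl1.Pt 0, c2atl0.Pt 0] :=
  (c2at_S1 M).next
theorem c2at_S3 {G Ω : Type*} [Group G] [MulAction G Ω] {g : ℕ → G} {pt : ℕ → Ω}
    (M : Md g pt H15.QS.YM22.P 24 10 H15.QS.YM22.B 887040) : Stage ⊤ (wds g c2ath_W) pt 24 [c2atl3, c2atl4, c2atl5] [c2atl2.Pt 0, c2atl1.Pt 0, c2atl0.Pt 0] :=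
  (c2at_S2 M).next
theorem c2at_S4 {G Ω : Type*} [Group G] [MulAction G Ω] {g : ℕ → G} {pt : ℕ → Ω}
    (M : Md g pt H15.QS.YM22.P 24 10 H15.QS.YM22.B 887040) : Stage ⊤ (wds g c2ath_W) pt 24 [c2atl4, c2atl5] [c2atl3.Pt 0, c2atl2.Pt 0, c2atl1.Pt 0, c2atl0.Pt 0] :=
  (c2at_S3 M).next
theorem c2at_S5 {G Ω : Type*} [Group G] [MulAction G Ω] {g : ℕ → G} {pt : ℕ → Ω}
    (M : Md g pt H15.QS.YM22.P 24 10 H15.QS.YM22.B 887040) : Stage ⊤ (wds g c2ath_W) pt 24 [c2atl5] [c2atl4.Pt 0, c2atl3.Pt 0, c2atl2.Pt 0, c2atl1.Pt 0, c2atl0.Pt 0] :=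
  (c2at_S4 M).next
theorem c2at_S6 {G Ω : Type*} [Group G] [MulAction G Ω] {g : ℕ → G} {pt : ℕ → Ω}
    (M : Md g pt H15.QS.YM22.P 24 10 H15.QS.YM22.B 887040) : Stage ⊤ (wds g c2ath_W) pt 24 [] [c2atl5.Pt 0, c2atl4.Pt 0, c2atl3.Pt 0, c2atl2.Pt 0, c2atl1.Pt 0, c2atl0.Pt 0] :=
  (c2at_S5 M).next
theorem c2ace_act {G Ω : Type*} [Group G] [MulAction G Ω] {g : ℕ → G} {pt : ℕ → Ω}
    (M : Md g pt H15.QS.YM22.P 24 10 H15.QS.YM22.B 887040) : Act (wds g c2ace_W) pt c2ace_P 24 4 :=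
  M.wact c2ace_lt
theorem c2atn0_1 : ∀ i < 3, (c2atn0.ent H15.QS.YM22.P c2ath_P c2ax_P c2ax_P c2ace_P (nat_lit 10) (nat_lit 1) H15.QS.YM22.B c2atl5 [] (fun w => Nat.xor w (c2atl5.Pt (nat_lit 0)))) i = 0 := allZ_sound0 c2atn0_1_0
theorem c2atn0_t {G Ω : Type*} [Group G] [MulAction G Ω] {g : ℕ → G} {pt : ℕ → Ω}
    (M : Md g pt H15.QS.YM22.P 24 10 H15.QS.YM22.B 887040) : TrO (gen (wds g c2ath_W) c2atl5.K) (wds g c2ax_W) (wds g c2ax_W) 1 pt 24 (c2atl5.Pt 0) (fun w => Nat.xor w (c2atl5.Pt (nat_lit 0))) :=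
  node M (c2at_S5 M) (c2ath_act M) (c2ax_act M) (c2ax_act M) c2atn0 ((c2ace_act M).mono (by decide)) (fun _ _ => trivial) c2atn0_0 c2atn0_1 (List.forall_mem_nil _)
theorem c2acc3_e : ∀ i < 15, (dent c2acc3 c2ace_P (nat_lit 24)) i = 0 := allZ_sound0 c2acc3_e_0
theorem c2acc3_ok : DOK c2acc3 c2ace_P 24 := ⟨c2acc3_h, c2acc3_e⟩
theorem c2atn1_1 : ∀ i < 20, (c2atn1.ent H15.QS.YM22.P c2ath_P c2ax_P c2ax_P c2ace_P (nat_lit 10) (nat_lit 1) H15.QS.YM22.B c2atl3 [c2atl4, c2atl5] (memO c2acc3)) i = 0 := allZ_sound0 c2atn1_1_0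
theorem c2atn1_t {G Ω : Type*} [Group G] [MulAction G Ω] {g : ℕ → G} {pt : ℕ → Ω}
    (M : Md g pt H15.QS.YM22.P 24 10 H15.QS.YM22.B 887040) : TrO (gen (wds g c2ath_W) c2atl3.K) (wds g c2ax_W) (wds g c2ax_W) 1 pt 24 (c2atl3.Pt 0) (memO c2acc3) :=
  node M (c2at_S3 M) (c2ath_act M) (c2ax_act M) (c2ax_act M) c2atn1 ((c2ace_act M).mono (by decide)) (fun _ _ => trivial) c2atn1_0 c2atn1_1 (List.forall_mem_nil _)
theorem c2acc1_e : ∀ i < 19, (dent c2acc1 c2ace_P (nat_lit 24)) i = 0 := allZ_sound0 c2acc1_e_0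
theorem c2acc1_ok : DOK c2acc1 c2ace_P 24 := ⟨c2acc1_h, c2acc1_e⟩
theorem c2atn2y4_act {G Ω : Type*} [Group G] [MulAction G Ω] {g : ℕ → G} {pt : ℕ → Ω}
    (M : Md g pt H15.QS.YM22.P 24 10 H15.QS.YM22.B 887040) : Act (wds g c2atn2y4_W) pt c2atn2y4_P 24 1 :=
  M.wact c2atn2y4_lt
theorem c2atr3k_act {G Ω : Type*} [Group G] [MulAction G Ω] {g : ℕ → G} {pt : ℕ → Ω}
    (M : Md g pt H15.QS.YM22.P 24 10 H15.QS.YM22.B 887040) : Act (wds g c2atr3k_W) pt c2atr3k_P 24 3 :=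
  M.wact c2atr3k_lt
theorem c2atn3_1 : ∀ i < 20, (c2atn3.ent H15.QS.YM22.P c2ath_P c2ax_P c2atn2y4_P c2atr3k_P (nat_lit 10) (nat_lit 1) H15.QS.YM22.B c2atl3 [c2atl4, c2atl5] (fun _ => nat_lit 1)) i = 0 := allZ_sound0 c2atn3_1_0
theorem c2atn3_t {G Ω : Type*} [Group G] [MulAction G Ω] {g : ℕ → G} {pt : ℕ → Ω}
    (M : Md g pt H15.QS.YM22.P 24 10 H15.QS.YM22.B 887040) : TrO (gen (wds g c2ath_W) c2atl3.K) (wds g c2ax_W) (wds g c2atn2y4_W) 1 pt 24 (c2atl3.Pt 0) (fun _ => nat_lit 1) :=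
  node M (c2at_S3 M) (c2ath_act M) (c2ax_act M) (c2atn2y4_act M) c2atn3 ((c2atr3k_act M).mono (by decide)) (fun _ _ => trivial) c2atn3_0 c2atn3_1 (List.forall_mem_nil _)
theorem c2atr3 {G Ω : Type*} [Group G] [MulAction G Ω] {g : ℕ → G} {pt : ℕ → Ω}
    (M : Md g pt H15.QS.YM22.P 24 10 H15.QS.YM22.B 887040) : Ref (gen (wds g c2ath_W) (topK [c2atl3, c2atl4, c2atl5])) (wds g c2ax_W) (wds g c2atn2y4_W) 1 :=
  (c2atn3_t M).ref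
theorem c2atn2_1 : ∀ i < 22, (c2atn2.ent H15.QS.YM22.P c2ath_P c2ax_P c2ax_P c2ace_P (nat_lit 10) (nat_lit 1) H15.QS.YM22.B c2atl1 [c2atl2, c2atl3, c2atl4, c2atl5] (memO c2acc1)) i = 0 := allZ_sound0 c2atn2_1_0
theorem c2atn2_t {G Ω : Type*} [Group G] [MulAction G Ω] {g : ℕ → G} {pt : ℕ → Ω}
    (M : Md g pt H15.QS.YM22.P 24 10 H15.QS.YM22.B 887040) : TrO (gen (wds g c2ath_W) c2atl1.K) (wds g c2ax_W) (wds g c2ax_W) 1 pt 24 (c2atl1.Pt 0) (memO c2acc1) :=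
  node M (c2at_S1 M) (c2ath_act M) (c2ax_act M) (c2ax_act M) c2atn2 ((c2ace_act M).mono (by decide)) (fun _ _ => trivial) c2atn2_0 c2atn2_1 (List.forall_mem_cons.2 ⟨c2atr3 M, List.forall_mem_nil _⟩)
theorem c2acc0_e : ∀ i < 1, (dent c2acc0 c2ace_P (nat_lit 24)) i = 0 := allZ_sound0 c2acc0_e_0
theorem c2acc0_ok : DOK c2acc0 c2ace_P 24 := ⟨c2acc0_h, c2acc0_e⟩
theorem c2atn4_1 : ∀ i < 2, (c2atn4.ent H15.QS.YM22.P c2ath_P c2ax_P c2ax_P c2ace_P (nat_lit 10) (nat_lit 1) H15.QS.YM22.B c2atl0 [c2atl1, c2atl2, c2atl3, c2atl4, c2atl5] (memO c2acc0)) i = 0 := allZ_sound0 c2atn4_1_0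
theorem c2atn4_t {G Ω : Type*} [Group G] [MulAction G Ω] {g : ℕ → G} {pt : ℕ → Ω}
    (M : Md g pt H15.QS.YM22.P 24 10 H15.QS.YM22.B 887040) : TrO (gen (wds g c2ath_W) c2atl0.K) (wds g c2ax_W) (wds g c2ax_W) 1 pt 24 (c2atl0.Pt 0) (memO c2acc0) :=
  node M (c2at_S0 M) (c2ath_act M) (c2ax_act M) (c2ax_act M) c2atn4 ((c2ace_act M).mono (by decide)) (fun _ _ => trivial) c2atn4_0 c2atn4_1 (List.forall_mem_nil _)
theorem c2ac {G Ω : Type*} [Group G] [MulAction G Ω] {g : ℕ → G} {pt : ℕ → Ω}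
    (M : Md g pt H15.QS.YM22.P 24 10 H15.QS.YM22.B 887040) : Cen ⊤ (wds g c2ax_W) 1 (wds g c2ace_W) pt 24 [c2acc0, c2acc1, c2acc3] :=
  (c2at_S0 M).top ▸ Cen.lev M (c2at_S0 M) (Cen.lev M (c2at_S1 M) (Cen.triv (c2at_S2 M) (Cen.lev M (c2at_S3 M) (Cen.triv (c2at_S4 M) (Cen.triv (c2at_S5 M) (Cen.bot) (c2atn0_t M)) (forced (c2at_S4 M) (c2ath_act M) (c2ax_act M) _ _ c2ac_f4)) (c2atn1_t M) (c2ax_act M) (c2ace_act M) (fun _ _ => trivial) c2acc3_ok c2ac_f3) (forced (c2at_S2 M) (c2ath_act M) (c2ax_act M) _ _ c2ac_f2)) (c2atn2_t M) (c2ax_act M) (c2ace_act M) (fun _ _ => trivial) c2acc1_ok c2ac_f1) (c2atn4_t M) (c2ax_act M) (c2ace_act M) (fun _ _ => trivial) c2acc0_ok c2ac_f0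
theorem c2ac_card {G Ω : Type*} [Group G] [MulAction G Ω] {g : ℕ → G} {pt : ℕ → Ω}
    (M : Md g pt H15.QS.YM22.P 24 10 H15.QS.YM22.B 887040) : Nat.card (Subgroup.centralizer {(wds g c2ax_W) 0}) = 640 :=
  (c2ac M).card_cent1 M.inj c2ac_c.1
theorem c2ac_eq {G Ω : Type*} [Group G] [MulAction G Ω] {g : ℕ → G} {pt : ℕ → Ω}
    (M : Md g pt H15.QS.YM22.P 24 10 H15.QS.YM22.B 887040) : Subgroup.centralizer (gen (wds g c2ax_W) 1) = gen (wds g c2ace_W) 4 ∧ Nat.card (gen (wds g c2ace_W) 4) = 640 :=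
  c2ac_c.1 ▸ c2ac_c.2 ▸ ⟨(c2ac M).cent, (c2ac M).card M.inj⟩
theorem c2a_z {G Ω : Type*} [Group G] [MulAction G Ω] {g : ℕ → G} {pt : ℕ → Ω}
    (M : Md g pt H15.QS.YM22.P 24 10 H15.QS.YM22.B 887040) : Subgroup.centralizer {(wds g c2ax_W) 0} = (gen (wds g c2ace_W) 4) :=
  c2ac_c.2 ▸ (c2ac M).cent1
theorem c2 {G Ω : Type*} [Group G] [MulAction G Ω] {g : ℕ → G} {pt : ℕ → Ω}
    (M : Md g pt H15.QS.YM22.P 24 10 H15.QS.YM22.B 887040) : NC ((wds g covr_W) 2) (gen g 9) :=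
  have := M.fin
  nc1 (q := 5) (c2ac_card M) (by norm_num)
theorem all {G Ω : Type*} [Group G] [MulAction G Ω] {g : ℕ → G} {pt : ℕ → Ω}
    (M : Md g pt H15.QS.YM22.P 24 10 H15.QS.YM22.B 887040) (i : (gen g 9).index = 2) : NPa (gen g 9) :=
  have := Subgroup.normal_of_index_eq_two i
  npa_reps (wds g covr_W) 3 (fun _ hy => cov M (e := 1) hy hy) fun k hk => match k, hk with
    | 0, _ => c0 M
    | 1, _ => c1 M
    | 2, _ => c2 M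

theorem np : NP Cfsg.Spor.M22 := by
  obtain ⟨_, g, M, h⟩ := md (MulEquiv.subgroupCongr H15.MM22.gen_eq)
  obtain ⟨Y, _, _, γ, M', i, φ, hφ⟩ := ymd M
  have := M.fin
  have := M'.fin
  have := Subgroup.normal_of_index_eq_two i
  exact (all M' i).model φ (cbot0 M') (by rw [M'.card, M.card, Cfsg.Agent.S2062.result])

end H15.QS.YM22
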