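import Cfsg.Agent.H15.QS2
import Cfsg.Agent.H15.M.M11
import Cfsg.Agent.H15.Mathieu
import Cfsg.Agent.S2060

/-! Generated by tools/h15/qs/qs.py (kit tools/h0/tr). -/

set_option maxRecDepth 100000
set_option maxHeartbeats 0

namespace H15.QS.YM11
open H16 H0.TR
open H4.QG
open scoped commutatorElement Pointwise

universe u

noncomputable def p2t_W : List (List ℕ) := [[nat_lit 0, nat_lit 4, nat_lit 5, nat_lit 1, nat_lit 3, nat_lit 4, nat_lit 5],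
  [nat_lit 5, nat_lit 4, nat_lit 2, nat_lit 5],
  [nat_lit 0, nat_lit 5, nat_lit 3, nat_lit 4, nat_lit 2],
  [nat_lit 4, nat_lit 5, nat_lit 1, nat_lit 2]]
noncomputable def p2t_P : ℕ → ℕ → ℕ := wdsP H15.MM11.P p2t_W
noncomputable def p2Pd : List ℕ := [nat_lit 0xa9784365120,
  nat_lit 0xa9468172530,
  nat_lit 0xa9531728640,
  nat_lit 0x9a125837640]
noncomputable def p2P (k u : ℕ) : ℕ := Nat.land (Nat.shiftRight (nth (nat_lit 0) p2Pd k) (Nat.mul u (nat_lit 4))) (nat_lit 15)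
noncomputable def p2Ed : ℕ := nat_lit 0x30928352830c41
noncomputable def p2E (u : ℕ) : ℕ := Nat.land (Nat.shiftRight p2Ed (Nat.mul u (nat_lit 5))) (nat_lit 31)
noncomputable def p2Id : ℕ := nat_lit 0x807006a005403092100
noncomputable def p2I (u : ℕ) : ℕ := Nat.land (Nat.shiftRight p2Id (Nat.mul u (nat_lit 4))) (nat_lit 15)
noncomputable def p2B : List ℕ := [nat_lit 0, nat_lit 1, nat_lit 2, nat_lit 9]
noncomputable def p2C : List (List (List ℕ)) := [[[],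
  [],
  [],
  []], [[],
  [nat_lit 0],
  [nat_lit 0],
  []], [[],
  [],
  [nat_lit 0],
  [nat_lit 0, nat_lit 1]], [[],
  [],
  [],
  [nat_lit 1]]]
noncomputable def p2e : List (List ℕ) := [[],
  [],
  [],
  [],
  [],
  [],
  [],
  [],
  [],
  [],
  [nat_lit 1, nat_lit 2, nat_lit 3],
  [nat_lit 3]]
noncomputable def p2l0Dd : ℕ := nat_lit 0x8eed7a22c5c580
noncomputable def p2l0D (u : ℕ) : ℕ := Nat.land (Nat.shiftRight p2l0Dd (Nat.mul u (nat_lit 7))) (nat_lit 127)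
noncomputable def p2l0Pd : ℕ := nat_lit 0x74236581
noncomputable def p2l0P (u : ℕ) : ℕ := Nat.land (Nat.shiftRight p2l0Pd (Nat.mul u (nat_lit 4))) (nat_lit 15)
noncomputable def p2l0Qd : ℕ := nat_lit 0x1ed6940
noncomputable def p2l0Q (u : ℕ) : ℕ := Nat.land (Nat.shiftRight p2l0Qd (Nat.mul u (nat_lit 3))) (nat_lit 7)
noncomputable def p2l0 : H16.Lev := ⟨8, 12, p2l0D, p2l0P, p2l0Q⟩
noncomputable def p2l1Dd : ℕ := nat_lit 0xa0
noncomputable def p2l1D (u : ℕ) : ℕ := Nat.land (Nat.shiftRight p2l1Dd (Nat.mul u (nat_lit 4))) (nat_lit 15)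
noncomputable def p2l1Pd : ℕ := nat_lit 0x2b
noncomputable def p2l1P (u : ℕ) : ℕ := Nat.land (Nat.shiftRight p2l1Pd (Nat.mul u (nat_lit 3))) (nat_lit 7)
noncomputable def p2l1Qd : ℕ := nat_lit 0x20
noncomputable def p2l1Q (u : ℕ) : ℕ := Nat.land (Nat.shiftRight p2l1Qd (Nat.mul u (nat_lit 1))) (nat_lit 1)
noncomputable def p2l1 : H16.Lev := ⟨2, 11, p2l1D, p2l1P, p2l1Q⟩
noncomputable def covr_W : List (List ℕ) := [[nat_lit 5, nat_lit 4, nat_lit 2, nat_lit 4, nat_lit 2, nat_lit 5]]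
noncomputable def covr_P : ℕ → ℕ → ℕ := wdsP H15.MM11.P covr_W
noncomputable def covT0 : H0.TR.CT := (.split (.more (.split (.more (.split (.more (.split (.more .one (.more (.leaf (nat_lit 0) []) .one))) (.more (.fuse [nat_lit 2] [] (.prune (nat_lit 0) (nat_lit 1) [])) .one))) (.more (.fuse [nat_lit 3] [] (.fuse [nat_lit 1] [] (.prune (nat_lit 0) (nat_lit 1) []))) .one))) (.more (.split (.more (.fuse [nat_lit 2] [] (.prune (nat_lit 1) (nat_lit 1) [])) (.more (.fuse [nat_lit 2] [nat_lit 0] (.fuse [nat_lit 1] [] (.leaf (nat_lit 0) [nat_lit 2, nat_lit 5, nat_lit 3]))) .one))) .one)))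
noncomputable def c0ax_W : List (List ℕ) := [[nat_lit 5, nat_lit 4, nat_lit 2, nat_lit 4, nat_lit 2, nat_lit 5]]
noncomputable def c0ax_P : ℕ → ℕ → ℕ := wdsP H15.MM11.P c0ax_W
noncomputable def c0ath_W : List (List ℕ) := [[nat_lit 1, nat_lit 6, nat_lit 0],
  [nat_lit 3, nat_lit 6],
  [nat_lit 1, nat_lit 3, nat_lit 6, nat_lit 3],
  [nat_lit 0],
  [nat_lit 1],
  [nat_lit 2],
  [nat_lit 3],
  [nat_lit 6],
  [nat_lit 4],
  [nat_lit 5]]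
noncomputable def c0ath_P : ℕ → ℕ → ℕ := wdsP H15.MM11.P c0ath_W
noncomputable def c0atl0Dd : ℕ := nat_lit 0x30f0c40f38a34b240
noncomputable def c0atl0D (u : ℕ) : ℕ := Nat.land (Nat.shiftRight c0atl0Dd (Nat.mul u (nat_lit 6))) (nat_lit 63)
noncomputable def c0atl0Pd : ℕ := nat_lit 0xc283265069182
noncomputable def c0atl0P (u : ℕ) : ℕ := Nat.land (Nat.shiftRight c0atl0Pd (Nat.mul u (nat_lit 5))) (nat_lit 31)
noncomputable def c0atl0Qd : ℕ := nat_lit 0x504003100680702a090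
noncomputable def c0atl0Q (u : ℕ) : ℕ := Nat.land (Nat.shiftRight c0atl0Qd (Nat.mul u (nat_lit 4))) (nat_lit 15)
noncomputable def c0atl0 : H16.Lev := ⟨11, 10, c0atl0D, c0atl0P, c0atl0Q⟩
noncomputable def c0atl1Dd : ℕ := nat_lit 0x37cab9a962900
noncomputable def c0atl1D (u : ℕ) : ℕ := Nat.land (Nat.shiftRight c0atl1Dd (Nat.mul u (nat_lit 5))) (nat_lit 31)
noncomputable def c0atl1Pd : ℕ := nat_lit 0x28248cc4b603
noncomputable def c0atl1P (u : ℕ) : ℕ := Nat.land (Nat.shiftRight c0atl1Pd (Nat.mul u (nat_lit 5))) (nat_lit 31)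
noncomputable def c0atl1Qd : ℕ := nat_lit 0x6010024003805070090
noncomputable def c0atl1Q (u : ℕ) : ℕ := Nat.land (Nat.shiftRight c0atl1Qd (Nat.mul u (nat_lit 4))) (nat_lit 15)
noncomputable def c0atl1 : H16.Lev := ⟨10, 9, c0atl1D, c0atl1P, c0atl1Q⟩
noncomputable def c0atl2Dd : ℕ := nat_lit 0x108ad2629060
noncomputable def c0atl2D (u : ℕ) : ℕ := Nat.land (Nat.shiftRight c0atl2Dd (Nat.mul u (nat_lit 5))) (nat_lit 31)
noncomputable def c0atl2Pd : ℕ := nat_lit 0x120a5a462206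
noncomputable def c0atl2P (u : ℕ) : ℕ := Nat.land (Nat.shiftRight c0atl2Pd (Nat.mul u (nat_lit 5))) (nat_lit 31)
noncomputable def c0atl2Qd : ℕ := nat_lit 0x8010053006200040070
noncomputable def c0atl2Q (u : ℕ) : ℕ := Nat.land (Nat.shiftRight c0atl2Qd (Nat.mul u (nat_lit 4))) (nat_lit 15)
noncomputable def c0atl2 : H16.Lev := ⟨9, 8, c0atl2D, c0atl2P, c0atl2Q⟩
noncomputable def c0atl3Dd : ℕ := nat_lit 0x8a532010
noncomputable def c0atl3D (u : ℕ) : ℕ := Nat.land (Nat.shiftRight c0atl3Dd (Nat.mul u (nat_lit 4))) (nat_lit 15)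
noncomputable def c0atl3Pd : ℕ := nat_lit 0x2321268509
noncomputable def c0atl3P (u : ℕ) : ℕ := Nat.land (Nat.shiftRight c0atl3Pd (Nat.mul u (nat_lit 5))) (nat_lit 31)
noncomputable def c0atl3Qd : ℕ := nat_lit 0x10501e001007010
noncomputable def c0atl3Q (u : ℕ) : ℕ := Nat.land (Nat.shiftRight c0atl3Qd (Nat.mul u (nat_lit 3))) (nat_lit 7)
noncomputable def c0atl3 : H16.Lev := ⟨8, 3, c0atl3D, c0atl3P, c0atl3Q⟩
noncomputable def c0ace_W : List (List ℕ) := [[nat_lit 1, nat_lit 1],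
  [nat_lit 6, nat_lit 0, nat_lit 6, nat_lit 1],
  [nat_lit 4, nat_lit 5, nat_lit 6, nat_lit 1, nat_lit 2]]
noncomputable def c0ace_P : ℕ → ℕ → ℕ := wdsP H15.MM11.P c0ace_W
noncomputable def c0acc2Dd : ℕ := nat_lit 0x2c640
noncomputable def c0acc2D (u : ℕ) : ℕ := Nat.land (Nat.shiftRight c0acc2Dd (Nat.mul u (nat_lit 3))) (nat_lit 7)
noncomputable def c0acc2Pd : ℕ := nat_lit 0x2506a126
noncomputable def c0acc2P (u : ℕ) : ℕ := Nat.land (Nat.shiftRight c0acc2Pd (Nat.mul u (nat_lit 5))) (nat_lit 31)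
noncomputable def c0acc2Qd : ℕ := nat_lit 0x14401800a000000
noncomputable def c0acc2Q (u : ℕ) : ℕ := Nat.land (Nat.shiftRight c0acc2Qd (Nat.mul u (nat_lit 3))) (nat_lit 7)
noncomputable def c0acc2 : H16.Lev := ⟨6, 2, c0acc2D, c0acc2P, c0acc2Q⟩
noncomputable def c0atn0Fd : ℕ := nat_lit 0xa02200
noncomputable def c0atn0F (u : ℕ) : ℕ := Nat.land (Nat.shiftRight c0atn0Fd (Nat.mul u (nat_lit 3))) (nat_lit 7)
noncomputable def c0atn0 : Nd := ⟨c0atn0F, (nat_lit 2), (nat_lit 2), [[nat_lit 0]], [((nat_lit 0), [])], []⟩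
noncomputable def c0acc0Dd : ℕ := nat_lit 0xa292720c40
noncomputable def c0acc0D (u : ℕ) : ℕ := Nat.land (Nat.shiftRight c0acc0Dd (Nat.mul u (nat_lit 5))) (nat_lit 31)
noncomputable def c0acc0Pd : ℕ := nat_lit 0x1a13033642
noncomputable def c0acc0P (u : ℕ) : ℕ := Nat.land (Nat.shiftRight c0acc0Pd (Nat.mul u (nat_lit 5))) (nat_lit 31)
noncomputable def c0acc0Qd : ℕ := nat_lit 0x4401002e0c0e00
noncomputable def c0acc0Q (u : ℕ) : ℕ := Nat.land (Nat.shiftRight c0acc0Qd (Nat.mul u (nat_lit 3))) (nat_lit 7)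
noncomputable def c0acc0 : H16.Lev := ⟨8, 3, c0acc0D, c0acc0P, c0acc0Q⟩
noncomputable def c0atn1Fd : ℕ := nat_lit 0x380000c8
noncomputable def c0atn1F (u : ℕ) : ℕ := Nat.land (Nat.shiftRight c0atn1Fd (Nat.mul u (nat_lit 3))) (nat_lit 7)
noncomputable def c0atn1 : Nd := ⟨c0atn1F, (nat_lit 3), (nat_lit 3), [[nat_lit 0]], [((nat_lit 0), [])], []⟩

theorem md_b : ltAll 24 H15.MM11.B = 0 ∧ 7920 ≠ 0 := by decide +kernel
theorem p2t_lt : H16.allL (ltAll 7) p2t_W = true := by decide +kernel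
theorem p2_r_a : allZ2 (resEnt p2t_P p2P p2E p2I (nat_lit 24) (nat_lit 11)) (nat_lit 4) (nat_lit 11) = true := by decide +kernel
theorem p2_b : neL H15.MM11.B (p2B.map p2E) = 0 ∧ ltAll 11 p2B = 0 := by decide +kernel
theorem p2_p : allZ2 (pcEnt p2P (nat_lit 2) p2B p2C) 4 4 = true := by decide +kernel
theorem p2_e : H16.allL (ltAll 4) p2e = true := by decide +kernel
theorem p2l0_e_0 : allZ (dent p2l0 (wdsP p2P p2e) (nat_lit 11)) (nat_lit 0) (nat_lit 7) = true := by decide +kernel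
theorem p2l0_h : 0 < p2l0.n ∧ 0 < p2l0.K ∧ p2l0.Pt 0 < 11 ∧ p2l0.Q (p2l0.Pt 0) = 0 := by decide +kernel
theorem p2l1_e_0 : allZ (dent p2l1 (wdsP p2P p2e) (nat_lit 11)) (nat_lit 0) (nat_lit 1) = true := by decide +kernel
theorem p2l1_h : 0 < p2l1.n ∧ 0 < p2l1.K ∧ p2l1.Pt 0 < 11 ∧ p2l1.Q (p2l1.Pt 0) = 0 := by decide +kernel
theorem p2_f1 : (Nat.ble p2l1.K 12 && Nat.ble (topK []) p2l1.K && fixLetters (wdsP p2P p2e) (topK []) (p2l1.Pt 0)) = true := by decide +kernel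
theorem p2_f0 : (Nat.ble p2l0.K 12 && Nat.ble (topK [p2l1]) p2l0.K && fixLetters (wdsP p2P p2e) (topK [p2l1]) (p2l0.Pt 0)) = true := by decide +kernel
theorem p2_c : chainCard [p2l0, p2l1] = 2 ^ 4 ∧ ¬ 2 ^ (4 + 1) ∣ 7920 := by decide +kernel
theorem covr_lt : H16.allL (ltAll 7) covr_W = true := by decide +kernel
theorem cov_c0 : (Nat.ble 4 4 && Nat.beq (ltAll 4 []) 0 && Nat.beq (covT0.chk H15.MM11.P p2P covr_P p2E 7 4 2 2 1 p2B 4 [] 0) 0) = true := by decide +kernel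
theorem c0ax_lt : H16.allL (ltAll 7) c0ax_W = true := by decide +kernel
theorem c0ath_lt : H16.allL (ltAll 7) c0ath_W = true := by decide +kernel
theorem c0atl0_e_0 : allZ (dent c0atl0 c0ath_P (nat_lit 24)) (nat_lit 0) (nat_lit 10) = true := by decide +kernel
theorem c0atl0_h : 0 < c0atl0.n ∧ 0 < c0atl0.K ∧ c0atl0.Pt 0 < 24 ∧ c0atl0.Q (c0atl0.Pt 0) = 0 := by decide +kernel
theorem c0atl1_e_0 : allZ (dent c0atl1 c0ath_P (nat_lit 24)) (nat_lit 0) (nat_lit 9) = true := by decide +kernel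
theorem c0atl1_h : 0 < c0atl1.n ∧ 0 < c0atl1.K ∧ c0atl1.Pt 0 < 24 ∧ c0atl1.Q (c0atl1.Pt 0) = 0 := by decide +kernel
theorem c0atl2_e_0 : allZ (dent c0atl2 c0ath_P (nat_lit 24)) (nat_lit 0) (nat_lit 8) = true := by decide +kernel
theorem c0atl2_h : 0 < c0atl2.n ∧ 0 < c0atl2.K ∧ c0atl2.Pt 0 < 24 ∧ c0atl2.Q (c0atl2.Pt 0) = 0 := by decide +kernel
theorem c0atl3_e_0 : allZ (dent c0atl3 c0ath_P (nat_lit 24)) (nat_lit 0) (nat_lit 7) = true := by decide +kernel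
theorem c0atl3_h : 0 < c0atl3.n ∧ 0 < c0atl3.K ∧ c0atl3.Pt 0 < 24 ∧ c0atl3.Q (c0atl3.Pt 0) = 0 := by decide +kernel
theorem c0at_f3 : (Nat.ble c0atl3.K 10 && Nat.ble (topK []) c0atl3.K && fixLetters c0ath_P (topK []) (c0atl3.Pt 0)) = true := by decide +kernel
theorem c0at_f2 : (Nat.ble c0atl2.K 10 && Nat.ble (topK [c0atl3]) c0atl2.K && fixLetters c0ath_P (topK [c0atl3]) (c0atl2.Pt 0)) = true := by decide +kernel
theorem c0at_f1 : (Nat.ble c0atl1.K 10 && Nat.ble (topK [c0atl2, c0atl3]) c0atl1.K && fixLetters c0ath_P (topK [c0atl2, c0atl3]) (c0atl1.Pt 0)) = true := by decide +kernel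
theorem c0at_f0 : (Nat.ble c0atl0.K 10 && Nat.ble (topK [c0atl1, c0atl2, c0atl3]) c0atl0.K && fixLetters c0ath_P (topK [c0atl1, c0atl2, c0atl3]) (c0atl0.Pt 0)) = true := by decide +kernel
theorem c0at_c : chainCard [c0atl0, c0atl1, c0atl2, c0atl3] = 7920 := by decide +kernel
theorem c0ace_lt : H16.allL (ltAll 7) c0ace_W = true := by decide +kernel
theorem c0ac_f3 : (Nat.ble c0atl3.K 10 && Nat.blt (nat_lit 6) 24 && fixLetters c0ath_P c0atl3.K (nat_lit 6) && Nat.beq (ltAll 1 [nat_lit 0]) 0 && Nat.beq (apW c0ax_P [nat_lit 0] (nat_lit 6)) (c0atl3.Pt 0)) = true := by decide +kernel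
theorem c0acc2_e_0 : allZ (dent c0acc2 c0ace_P (nat_lit 24)) (nat_lit 0) (nat_lit 5) = true := by decide +kernel
theorem c0acc2_h : 0 < c0acc2.n ∧ 0 < c0acc2.K ∧ c0acc2.Pt 0 < 24 ∧ c0acc2.Q (c0acc2.Pt 0) = 0 := by decide +kernel
theorem c0atn0_0 : (Nat.ble c0atl2.K 10 && Nat.beq (ltAll 24 [c0atl1.Pt 0, c0atl0.Pt 0]) 0 && kChk c0ace_P c0ax_P c0atn0.Kn 1 H15.MM11.B [c0atl1.Pt 0, c0atl0.Pt 0] && H16.allL (ltAll 1) c0atn0.pre && planOK c0ath_P c0ax_P 1 (c0atl2.Pt 0) c0atn0.plan [c0atl2, c0atl3]) = true := by decide +kernel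
theorem c0atn0_1_0 : allZ (c0atn0.ent H15.MM11.P c0ath_P c0ax_P c0ax_P c0ace_P (nat_lit 7) (nat_lit 1) H15.MM11.B c0atl2 [c0atl3] (memO c0acc2)) (nat_lit 0) (nat_lit 9) = true := by decide +kernel
theorem c0ac_f2 : (Nat.ble c0acc2.K 3 && Nat.ble (topK []) c0acc2.K && Nat.beq (c0acc2.Pt 0) (c0atl2.Pt 0) && Nat.beq (ltAll 24 [c0atl1.Pt 0, c0atl0.Pt 0]) 0 && kChk c0ace_P c0ax_P c0acc2.K 1 H15.MM11.B [c0atl1.Pt 0, c0atl0.Pt 0]) = true := by decide +kernel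
theorem c0ac_f1 : (Nat.ble c0atl1.K 10 && Nat.blt (nat_lit 2) 24 && fixLetters c0ath_P c0atl1.K (nat_lit 2) && Nat.beq (ltAll 1 [nat_lit 0]) 0 && Nat.beq (apW c0ax_P [nat_lit 0] (nat_lit 2)) (c0atl1.Pt 0)) = true := by decide +kernel
theorem c0acc0_e_0 : allZ (dent c0acc0 c0ace_P (nat_lit 24)) (nat_lit 0) (nat_lit 7) = true := by decide +kernel
theorem c0acc0_h : 0 < c0acc0.n ∧ 0 < c0acc0.K ∧ c0acc0.Pt 0 < 24 ∧ c0acc0.Q (c0acc0.Pt 0) = 0 := by decide +kernel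
theorem c0atn1_0 : (Nat.ble c0atl0.K 10 && Nat.beq (ltAll 24 []) 0 && kChk c0ace_P c0ax_P c0atn1.Kn 1 H15.MM11.B [] && H16.allL (ltAll 1) c0atn1.pre && planOK c0ath_P c0ax_P 1 (c0atl0.Pt 0) c0atn1.plan [c0atl0, c0atl1, c0atl2, c0atl3]) = true := by decide +kernel
theorem c0atn1_1_0 : allZ (c0atn1.ent H15.MM11.P c0ath_P c0ax_P c0ax_P c0ace_P (nat_lit 7) (nat_lit 1) H15.MM11.B c0atl0 [c0atl1, c0atl2, c0atl3] (memO c0acc0)) (nat_lit 0) (nat_lit 11) = true := by decide +kernel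
theorem c0ac_f0 : (Nat.ble c0acc0.K 3 && Nat.ble (topK [c0acc2]) c0acc0.K && Nat.beq (c0acc0.Pt 0) (c0atl0.Pt 0) && Nat.beq (ltAll 24 []) 0 && kChk c0ace_P c0ax_P c0acc0.K 1 H15.MM11.B []) = true := by decide +kernel
theorem c0ac_c : chainCard [c0acc0, c0acc2] = 48 ∧ topK [c0acc0, c0acc2] = 3 := by decide +kernel

theorem md {G : Type*} [Group G] (e : gen H15.MM11.g 7 ≃* G) :
    ∃ (_ : MulAction G (Cfsg.GolayPt)) (g : ℕ → G), Md g H15.pt H15.MM11.P 24 7 H15.MM11.B 7920 ∧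
      ∀ k < 7, (e.symm (g k)).1 = H15.MM11.g k :=
  exists_md H15.MM11.act H15.MM11.inj H15.MM11.card H15.MM11.isBase md_b e
theorem p2t_act {G Ω : Type*} [Group G] [MulAction G Ω] {g : ℕ → G} {pt : ℕ → Ω}
    (M : Md g pt H15.MM11.P 24 7 H15.MM11.B 7920) : Act (wds g p2t_W) pt p2t_P 24 4 :=
  M.wact p2t_lt
theorem p2_r : ∀ k < 4, ∀ i < 11, (resEnt p2t_P p2P p2E p2I (nat_lit 24) (nat_lit 11)) k i = 0 := allZ2_sound p2_r_a
theorem p2_sm {G Ω : Type*} [Group G] [MulAction G Ω] {g : ℕ → G} {pt : ℕ → Ω}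
    (M : Md g pt H15.MM11.P 24 7 H15.MM11.B 7920) : Sm (wds g p2t_W) (fun i => pt (p2E i)) p2P 11 4 p2B ∧ ∀ i < 11, p2E i < 24 :=
  M.res (p2t_act M) (by decide) p2_r p2_b
theorem p2l0_e : ∀ i < 7, (dent p2l0 (wdsP p2P p2e) (nat_lit 11)) i = 0 := allZ_sound0 p2l0_e_0
theorem p2l0_ok : DOK p2l0 (wdsP p2P p2e) 11 := ⟨p2l0_h, p2l0_e⟩
theorem p2l1_e : ∀ i < 1, (dent p2l1 (wdsP p2P p2e) (nat_lit 11)) i = 0 := allZ_sound0 p2l1_e_0
theorem p2l1_ok : DOK p2l1 (wdsP p2P p2e) 11 := ⟨p2l1_h, p2l1_e⟩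
theorem p2_low {G Ω : Type*} [Group G] [MulAction G Ω] {g : ℕ → G} {pt : ℕ → Ω}
    (M : Md g pt H15.MM11.P 24 7 H15.MM11.B 7920) : SLow (gi (wds (wds g p2t_W) p2e)) (fun i => pt (p2E i)) 11 [p2l0, p2l1] :=
  ((SLow.nil).cons p2l1_ok ((p2_sm M).1.act.wds p2_e 12) p2_f1).cons p2l0_ok ((p2_sm M).1.act.wds p2_e 12) p2_f0
theorem p2_pc {G Ω : Type*} [Group G] [MulAction G Ω] {g : ℕ → G} {pt : ℕ → Ω}
    (M : Md g pt H15.MM11.P 24 7 H15.MM11.B 7920) : PC (wds g p2t_W) 4 2 :=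
  have := M.fin
  ((p2_sm M).1.pc0 (by decide) p2_p).pc (p2_low M) (p2_sm M).1.inj
    (fun k => evA_mem_gen _ (nth_lt p2_e k)) M.card ⟨by decide, p2_c⟩
theorem covr_act {G Ω : Type*} [Group G] [MulAction G Ω] {g : ℕ → G} {pt : ℕ → Ω}
    (M : Md g pt H15.MM11.P 24 7 H15.MM11.B 7920) : Act (wds g covr_W) pt covr_P 24 1 :=
  M.wact covr_lt
theorem cov_0 {G Ω : Type*} [Group G] [MulAction G Ω] {g : ℕ → G} {pt : ℕ → Ω}
    (M : Md g pt H15.MM11.P 24 7 H15.MM11.B 7920) : H0.TR.Cov (wds g p2t_W) (wds g covr_W) 2 1 4 (evA (wds g p2t_W) []) :=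
  have := M.fin
  covT0.cov M (p2_sm M).1 (p2_sm M).2 (covr_act M) (p2_pc M) _ _ cov_c0
theorem cov {G Ω : Type*} [Group G] [MulAction G Ω] {g : ℕ → G} {pt : ℕ → Ω}
    (M : Md g pt H15.MM11.P 24 7 H15.MM11.B 7920) {y : G} {e : ℕ} (hy : y ^ 2 ^ e = 1) (hq : y ^ 2 = 1) : Good (wds g covr_W) 1 y :=
  have := M.fin
  H0.TR.Cov.all (p2_pc M) (cov_0 M) hy hq
theorem c0ax_act {G Ω : Type*} [Group G] [MulAction G Ω] {g : ℕ → G} {pt : ℕ → Ω}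
    (M : Md g pt H15.MM11.P 24 7 H15.MM11.B 7920) : Act (wds g c0ax_W) pt c0ax_P 24 1 :=
  M.wact c0ax_lt
theorem c0ath_act {G Ω : Type*} [Group G] [MulAction G Ω] {g : ℕ → G} {pt : ℕ → Ω}
    (M : Md g pt H15.MM11.P 24 7 H15.MM11.B 7920) : Act (wds g c0ath_W) pt c0ath_P 24 10 :=
  M.wact c0ath_lt
theorem c0atl0_e : ∀ i < 10, (dent c0atl0 c0ath_P (nat_lit 24)) i = 0 := allZ_sound0 c0atl0_e_0
theorem c0atl0_ok : DOK c0atl0 c0ath_P 24 := ⟨c0atl0_h, c0atl0_e⟩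
theorem c0atl1_e : ∀ i < 9, (dent c0atl1 c0ath_P (nat_lit 24)) i = 0 := allZ_sound0 c0atl1_e_0
theorem c0atl1_ok : DOK c0atl1 c0ath_P 24 := ⟨c0atl1_h, c0atl1_e⟩
theorem c0atl2_e : ∀ i < 8, (dent c0atl2 c0ath_P (nat_lit 24)) i = 0 := allZ_sound0 c0atl2_e_0
theorem c0atl2_ok : DOK c0atl2 c0ath_P 24 := ⟨c0atl2_h, c0atl2_e⟩
theorem c0atl3_e : ∀ i < 7, (dent c0atl3 c0ath_P (nat_lit 24)) i = 0 := allZ_sound0 c0atl3_e_0
theorem c0atl3_ok : DOK c0atl3 c0ath_P 24 := ⟨c0atl3_h, c0atl3_e⟩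
theorem c0at_low {G Ω : Type*} [Group G] [MulAction G Ω] {g : ℕ → G} {pt : ℕ → Ω}
    (M : Md g pt H15.MM11.P 24 7 H15.MM11.B 7920) : SLow (gi (wds g c0ath_W)) pt 24 [c0atl0, c0atl1, c0atl2, c0atl3] :=
  ((((SLow.nil).cons c0atl3_ok (c0ath_act M) c0at_f3).cons c0atl2_ok (c0ath_act M) c0at_f2).cons c0atl1_ok (c0ath_act M) c0at_f1).cons c0atl0_ok (c0ath_act M) c0at_f0
theorem c0at_S0 {G Ω : Type*} [Group G] [MulAction G Ω] {g : ℕ → G} {pt : ℕ → Ω}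
    (M : Md g pt H15.MM11.P 24 7 H15.MM11.B 7920) : Stage ⊤ (wds g c0ath_W) pt 24 [c0atl0, c0atl1, c0atl2, c0atl3] [] :=
  M.stage (c0at_low M) c0at_c
theorem c0at_S1 {G Ω : Type*} [Group G] [MulAction G Ω] {g : ℕ → G} {pt : ℕ → Ω}
    (M : Md g pt H15.MM11.P 24 7 H15.MM11.B 7920) : Stage ⊤ (wds g c0ath_W) pt 24 [c0atl1, c0atl2, c0atl3] [c0atl0.Pt 0] :=
  (c0at_S0 M).next
theorem c0at_S2 {G Ω : Type*} [Group G] [MulAction G Ω] {g : ℕ → G} {pt : ℕ → Ω}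
    (M : Md g pt H15.MM11.P 24 7 H15.MM11.B 7920) : Stage ⊤ (wds g c0ath_W) pt 24 [c0atl2, c0atl3] [c0atl1.Pt 0, c0atl0.Pt 0] :=
  (c0at_S1 M).next
theorem c0at_S3 {G Ω : Type*} [Group G] [MulAction G Ω] {g : ℕ → G} {pt : ℕ → Ω}
    (M : Md g pt H15.MM11.P 24 7 H15.MM11.B 7920) : Stage ⊤ (wds g c0ath_W) pt 24 [c0atl3] [c0atl2.Pt 0, c0atl1.Pt 0, c0atl0.Pt 0] :=
  (c0at_S2 M).next
theorem c0at_S4 {G Ω : Type*} [Group G] [MulAction G Ω] {g : ℕ → G} {pt : ℕ → Ω}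
    (M : Md g pt H15.MM11.P 24 7 H15.MM11.B 7920) : Stage ⊤ (wds g c0ath_W) pt 24 [] [c0atl3.Pt 0, c0atl2.Pt 0, c0atl1.Pt 0, c0atl0.Pt 0] :=
  (c0at_S3 M).next
theorem c0ace_act {G Ω : Type*} [Group G] [MulAction G Ω] {g : ℕ → G} {pt : ℕ → Ω}
    (M : Md g pt H15.MM11.P 24 7 H15.MM11.B 7920) : Act (wds g c0ace_W) pt c0ace_P 24 3 :=
  M.wact c0ace_lt
theorem c0acc2_e : ∀ i < 5, (dent c0acc2 c0ace_P (nat_lit 24)) i = 0 := allZ_sound0 c0acc2_e_0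
theorem c0acc2_ok : DOK c0acc2 c0ace_P 24 := ⟨c0acc2_h, c0acc2_e⟩
theorem c0atn0_1 : ∀ i < 9, (c0atn0.ent H15.MM11.P c0ath_P c0ax_P c0ax_P c0ace_P (nat_lit 7) (nat_lit 1) H15.MM11.B c0atl2 [c0atl3] (memO c0acc2)) i = 0 := allZ_sound0 c0atn0_1_0
theorem c0atn0_t {G Ω : Type*} [Group G] [MulAction G Ω] {g : ℕ → G} {pt : ℕ → Ω}
    (M : Md g pt H15.MM11.P 24 7 H15.MM11.B 7920) : TrO (gen (wds g c0ath_W) c0atl2.K) (wds g c0ax_W) (wds g c0ax_W) 1 pt 24 (c0atl2.Pt 0) (memO c0acc2) :=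
  node M (c0at_S2 M) (c0ath_act M) (c0ax_act M) (c0ax_act M) c0atn0 ((c0ace_act M).mono (by decide)) (fun _ _ => trivial) c0atn0_0 c0atn0_1 (List.forall_mem_nil _)
theorem c0acc0_e : ∀ i < 7, (dent c0acc0 c0ace_P (nat_lit 24)) i = 0 := allZ_sound0 c0acc0_e_0
theorem c0acc0_ok : DOK c0acc0 c0ace_P 24 := ⟨c0acc0_h, c0acc0_e⟩
theorem c0atn1_1 : ∀ i < 11, (c0atn1.ent H15.MM11.P c0ath_P c0ax_P c0ax_P c0ace_P (nat_lit 7) (nat_lit 1) H15.MM11.B c0atl0 [c0atl1, c0atl2, c0atl3] (memO c0acc0)) i = 0 := allZ_sound0 c0atn1_1_0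
theorem c0atn1_t {G Ω : Type*} [Group G] [MulAction G Ω] {g : ℕ → G} {pt : ℕ → Ω}
    (M : Md g pt H15.MM11.P 24 7 H15.MM11.B 7920) : TrO (gen (wds g c0ath_W) c0atl0.K) (wds g c0ax_W) (wds g c0ax_W) 1 pt 24 (c0atl0.Pt 0) (memO c0acc0) :=
  node M (c0at_S0 M) (c0ath_act M) (c0ax_act M) (c0ax_act M) c0atn1 ((c0ace_act M).mono (by decide)) (fun _ _ => trivial) c0atn1_0 c0atn1_1 (List.forall_mem_nil _)
theorem c0ac {G Ω : Type*} [Group G] [MulAction G Ω] {g : ℕ → G} {pt : ℕ → Ω}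
    (M : Md g pt H15.MM11.P 24 7 H15.MM11.B 7920) : Cen ⊤ (wds g c0ax_W) 1 (wds g c0ace_W) pt 24 [c0acc0, c0acc2] :=
  (c0at_S0 M).top ▸ Cen.lev M (c0at_S0 M) (Cen.triv (c0at_S1 M) (Cen.lev M (c0at_S2 M) (Cen.triv (c0at_S3 M) (Cen.bot) (forced (c0at_S3 M) (c0ath_act M) (c0ax_act M) _ _ c0ac_f3)) (c0atn0_t M) (c0ax_act M) (c0ace_act M) (fun _ _ => trivial) c0acc2_ok c0ac_f2) (forced (c0at_S1 M) (c0ath_act M) (c0ax_act M) _ _ c0ac_f1)) (c0atn1_t M) (c0ax_act M) (c0ace_act M) (fun _ _ => trivial) c0acc0_ok c0ac_f0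
theorem c0ac_card {G Ω : Type*} [Group G] [MulAction G Ω] {g : ℕ → G} {pt : ℕ → Ω}
    (M : Md g pt H15.MM11.P 24 7 H15.MM11.B 7920) : Nat.card (Subgroup.centralizer {(wds g c0ax_W) 0}) = 48 :=
  (c0ac M).card_cent1 M.inj c0ac_c.1
theorem c0ac_eq {G Ω : Type*} [Group G] [MulAction G Ω] {g : ℕ → G} {pt : ℕ → Ω}
    (M : Md g pt H15.MM11.P 24 7 H15.MM11.B 7920) : Subgroup.centralizer (gen (wds g c0ax_W) 1) = gen (wds g c0ace_W) 3 ∧ Nat.card (gen (wds g c0ace_W) 3) = 48 :=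
  c0ac_c.1 ▸ c0ac_c.2 ▸ ⟨(c0ac M).cent, (c0ac M).card M.inj⟩
theorem c0a_z {G Ω : Type*} [Group G] [MulAction G Ω] {g : ℕ → G} {pt : ℕ → Ω}
    (M : Md g pt H15.MM11.P 24 7 H15.MM11.B 7920) : Subgroup.centralizer {(wds g c0ax_W) 0} = (gen (wds g c0ace_W) 3) :=
  c0ac_c.2 ▸ (c0ac M).cent1
theorem c0 {G Ω : Type*} [Group G] [MulAction G Ω] {g : ℕ → G} {pt : ℕ → Ω}
    (M : Md g pt H15.MM11.P 24 7 H15.MM11.B 7920) : NC ((wds g covr_W) 0) (⊤ : Subgroup G) :=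
  have := M.fin
  nc1 (q := 3) (c0ac_card M) (by norm_num)
theorem all {G Ω : Type*} [Group G] [MulAction G Ω] {g : ℕ → G} {pt : ℕ → Ω}
    (M : Md g pt H15.MM11.P 24 7 H15.MM11.B 7920) : NPa (⊤ : Subgroup G) :=
  npa_reps (wds g covr_W) 1 (fun _ hy => cov M (e := 1) hy hy) fun k hk => match k, hk with
    | 0, _ => c0 M

theorem np : NP Cfsg.Spor.M11 := by
  obtain ⟨_, g, M, -⟩ := md (MulEquiv.subgroupCongr H15.MM11.gen_eq)
  have := M.fin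
  have := H15.simple_M11
  exact np_top (by rw [M.card]; norm_num) Cfsg.Agent.S2060.result (all M)

end H15.QS.YM11
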