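import Cfsg.Agent.H15.QS2
import Cfsg.Agent.H15.M.M24
import Cfsg.Agent.H15.Mathieu
import Cfsg.Agent.S2064

/-! Generated by tools/h15/qs/qs.py (kit tools/h0/tr). -/

set_option maxRecDepth 100000
set_option maxHeartbeats 0

namespace H15.QS.YM24
open H16 H0.TR
open H4.QG
open scoped commutatorElement Pointwise

universe u

noncomputable def p2t_W : List (List ℕ) := [[nat_lit 10, nat_lit 0, nat_lit 2, nat_lit 6, nat_lit 5, nat_lit 1, nat_lit 7, nat_lit 6, nat_lit 0, nat_lit 8, nat_lit 0, nat_lit 9, nat_lit 8, nat_lit 1, nat_lit 3, nat_lit 10, nat_lit 9, nat_lit 8],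
  [nat_lit 9, nat_lit 0, nat_lit 4, nat_lit 6, nat_lit 3, nat_lit 8, nat_lit 1, nat_lit 3, nat_lit 9, nat_lit 8, nat_lit 10, nat_lit 9, nat_lit 8, nat_lit 0, nat_lit 6],
  [nat_lit 4, nat_lit 6, nat_lit 1, nat_lit 2, nat_lit 7, nat_lit 6, nat_lit 5, nat_lit 8, nat_lit 0, nat_lit 9, nat_lit 8, nat_lit 2, nat_lit 10, nat_lit 9, nat_lit 8, nat_lit 1, nat_lit 2, nat_lit 6, nat_lit 1, nat_lit 4],
  [nat_lit 4, nat_lit 6, nat_lit 0, nat_lit 7, nat_lit 6, nat_lit 2, nat_lit 8, nat_lit 3, nat_lit 9, nat_lit 8, nat_lit 0, nat_lit 3, nat_lit 10, nat_lit 9, nat_lit 8, nat_lit 0, nat_lit 5],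
  [nat_lit 0, nat_lit 1, nat_lit 2, nat_lit 6, nat_lit 1, nat_lit 7, nat_lit 6, nat_lit 0, nat_lit 8, nat_lit 2, nat_lit 9, nat_lit 8, nat_lit 1, nat_lit 3, nat_lit 10, nat_lit 9, nat_lit 8, nat_lit 3],
  [nat_lit 3, nat_lit 1, nat_lit 6, nat_lit 2, nat_lit 6, nat_lit 4, nat_lit 7, nat_lit 6, nat_lit 1, nat_lit 4, nat_lit 8, nat_lit 2, nat_lit 4, nat_lit 9, nat_lit 8, nat_lit 2, nat_lit 10, nat_lit 9, nat_lit 8, nat_lit 1, nat_lit 6, nat_lit 4],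
  [nat_lit 1, nat_lit 2, nat_lit 6, nat_lit 0, nat_lit 3, nat_lit 7, nat_lit 6, nat_lit 5, nat_lit 8, nat_lit 2, nat_lit 3, nat_lit 9, nat_lit 8, nat_lit 10, nat_lit 3, nat_lit 7],
  [nat_lit 1, nat_lit 2, nat_lit 5, nat_lit 6, nat_lit 2, nat_lit 7, nat_lit 6, nat_lit 3, nat_lit 8, nat_lit 1, nat_lit 10],
  [nat_lit 8, nat_lit 0, nat_lit 1, nat_lit 3, nat_lit 6, nat_lit 3, nat_lit 7, nat_lit 6, nat_lit 1, nat_lit 8, nat_lit 1, nat_lit 2, nat_lit 9, nat_lit 8, nat_lit 10, nat_lit 9, nat_lit 8, nat_lit 0],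
  [nat_lit 4, nat_lit 9, nat_lit 4, nat_lit 6, nat_lit 1, nat_lit 4, nat_lit 7, nat_lit 8, nat_lit 1, nat_lit 9, nat_lit 8, nat_lit 3, nat_lit 10, nat_lit 9, nat_lit 8, nat_lit 0]]
noncomputable def p2t_P : ℕ → ℕ → ℕ := wdsP H15.MM24.P p2t_W
noncomputable def p2Pd : List ℕ := [nat_lit 0xef75ab01d3c26489,
  nat_lit 0xef7cba08d3546219,
  nat_lit 0x3602187a9e45fcbd,
  nat_lit 0x6302817b9f45ecad,
  nat_lit 0x6395abd10fc2e487,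
  nat_lit 0xd7f8426ce91b0a53,
  nat_lit 0x9f8c532ed1a7b46,
  nat_lit 0x93218ea6745dcbf,
  nat_lit 0x42b67d80ac3f5e91,
  nat_lit 0x42be9017a5f6c3d8]
noncomputable def p2P (k u : ℕ) : ℕ := Nat.land (Nat.shiftRight (nth (nat_lit 0) p2Pd k) (Nat.mul u (nat_lit 4))) (nat_lit 15)
noncomputable def p2Ed : ℕ := nat_lit 0xbce307b98a41ca418820
noncomputable def p2E (u : ℕ) : ℕ := Nat.land (Nat.shiftRight p2Ed (Nat.mul u (nat_lit 5))) (nat_lit 31)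
noncomputable def p2Id : ℕ := nat_lit 0xf000e0dcba09080760543210
noncomputable def p2I (u : ℕ) : ℕ := Nat.land (Nat.shiftRight p2Id (Nat.mul u (nat_lit 4))) (nat_lit 15)
noncomputable def p2B : List ℕ := [nat_lit 15, nat_lit 0, nat_lit 1, nat_lit 2, nat_lit 3, nat_lit 5, nat_lit 4]
noncomputable def p2C : List (List (List ℕ)) := [[[],
  [],
  [],
  [],
  [],
  [],
  [],
  [],
  [],
  []], [[],
  [],
  [],
  [],
  [],
  [],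
  [],
  [],
  [nat_lit 0],
  [nat_lit 0]], [[],
  [],
  [],
  [],
  [],
  [],
  [nat_lit 0],
  [],
  [],
  [nat_lit 0]], [[],
  [],
  [],
  [],
  [],
  [nat_lit 0],
  [],
  [nat_lit 1],
  [nat_lit 0],
  []], [[],
  [],
  [],
  [],
  [],
  [],
  [nat_lit 1],
  [],
  [nat_lit 2],
  [nat_lit 0, nat_lit 1, nat_lit 2]], [[],
  [],
  [],
  [],
  [],
  [],
  [nat_lit 2],
  [],
  [nat_lit 1],
  []], [[],
  [],
  [],
  [],
  [],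
  [],
  [nat_lit 3],
  [nat_lit 4],
  [nat_lit 0, nat_lit 1, nat_lit 2],
  [nat_lit 0, nat_lit 1, nat_lit 3]], [[],
  [],
  [],
  [],
  [],
  [],
  [],
  [],
  [nat_lit 5],
  [nat_lit 0, nat_lit 5]], [[],
  [],
  [],
  [],
  [],
  [],
  [],
  [],
  [nat_lit 1, nat_lit 2, nat_lit 3],
  [nat_lit 0, nat_lit 1, nat_lit 3]], [[],
  [],
  [],
  [],
  [],
  [],
  [],
  [],
  [],
  [nat_lit 1, nat_lit 2]]]
noncomputable def p2e : List (List ℕ) := [[],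
  [],
  [],
  [nat_lit 2, nat_lit 3, nat_lit 4, nat_lit 8, nat_lit 9],
  [nat_lit 0, nat_lit 4, nat_lit 5, nat_lit 6],
  [nat_lit 2, nat_lit 6, nat_lit 7],
  [nat_lit 1, nat_lit 3, nat_lit 5],
  [nat_lit 4],
  [nat_lit 3, nat_lit 9]]
noncomputable def p2l0Dd : ℕ := nat_lit 0xa0cd52140acc171e38c910c20380
noncomputable def p2l0D (u : ℕ) : ℕ := Nat.land (Nat.shiftRight p2l0Dd (Nat.mul u (nat_lit 7))) (nat_lit 127)
noncomputable def p2l0Pd : ℕ := nat_lit 0xe2593a4c6d8bf170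
noncomputable def p2l0P (u : ℕ) : ℕ := Nat.land (Nat.shiftRight p2l0Pd (Nat.mul u (nat_lit 4))) (nat_lit 15)
noncomputable def p2l0Qd : ℕ := nat_lit 0x3f684ac517d9be20
noncomputable def p2l0Q (u : ℕ) : ℕ := Nat.land (Nat.shiftRight p2l0Qd (Nat.mul u (nat_lit 4))) (nat_lit 15)
noncomputable def p2l0 : H16.Lev := ⟨16, 9, p2l0D, p2l0P, p2l0Q⟩
noncomputable def p2l1Dd : ℕ := nat_lit 0xb5e1152ca0
noncomputable def p2l1D (u : ℕ) : ℕ := Nat.land (Nat.shiftRight p2l1Dd (Nat.mul u (nat_lit 5))) (nat_lit 31)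
noncomputable def p2l1Pd : ℕ := nat_lit 0x58b24ac1
noncomputable def p2l1P (u : ℕ) : ℕ := Nat.land (Nat.shiftRight p2l1Pd (Nat.mul u (nat_lit 4))) (nat_lit 15)
noncomputable def p2l1Qd : ℕ := nat_lit 0x1a8603b100
noncomputable def p2l1Q (u : ℕ) : ℕ := Nat.land (Nat.shiftRight p2l1Qd (Nat.mul u (nat_lit 3))) (nat_lit 7)
noncomputable def p2l1 : H16.Lev := ⟨8, 6, p2l1D, p2l1P, p2l1Q⟩
noncomputable def p2l2Dd : ℕ := nat_lit 0x8940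
noncomputable def p2l2D (u : ℕ) : ℕ := Nat.land (Nat.shiftRight p2l2Dd (Nat.mul u (nat_lit 4))) (nat_lit 15)
noncomputable def p2l2Pd : ℕ := nat_lit 0x4c25
noncomputable def p2l2P (u : ℕ) : ℕ := Nat.land (Nat.shiftRight p2l2Pd (Nat.mul u (nat_lit 4))) (nat_lit 15)
noncomputable def p2l2Qd : ℕ := nat_lit 0x2000310
noncomputable def p2l2Q (u : ℕ) : ℕ := Nat.land (Nat.shiftRight p2l2Qd (Nat.mul u (nat_lit 2))) (nat_lit 3)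
noncomputable def p2l2 : H16.Lev := ⟨4, 5, p2l2D, p2l2P, p2l2Q⟩
noncomputable def p2l3Dd : ℕ := nat_lit 0xc
noncomputable def p2l3D (u : ℕ) : ℕ := Nat.land (Nat.shiftRight p2l3Dd (Nat.mul u (nat_lit 2))) (nat_lit 3)
noncomputable def p2l3Pd : ℕ := nat_lit 0x22
noncomputable def p2l3P (u : ℕ) : ℕ := Nat.land (Nat.shiftRight p2l3Pd (Nat.mul u (nat_lit 3))) (nat_lit 7)
noncomputable def p2l3Qd : ℕ := nat_lit 0x10
noncomputable def p2l3Q (u : ℕ) : ℕ := Nat.land (Nat.shiftRight p2l3Qd (Nat.mul u (nat_lit 1))) (nat_lit 1)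
noncomputable def p2l3 : H16.Lev := ⟨2, 4, p2l3D, p2l3P, p2l3Q⟩
noncomputable def covr_W : List (List ℕ) := [[nat_lit 8, nat_lit 9, nat_lit 10, nat_lit 1, nat_lit 5, nat_lit 6, nat_lit 5, nat_lit 1, nat_lit 7, nat_lit 6, nat_lit 1, nat_lit 4, nat_lit 8, nat_lit 3, nat_lit 9, nat_lit 8, nat_lit 0, nat_lit 10],
  [nat_lit 2, nat_lit 3, nat_lit 6, nat_lit 3, nat_lit 4, nat_lit 7, nat_lit 6, nat_lit 0, nat_lit 8, nat_lit 1, nat_lit 6, nat_lit 9, nat_lit 8, nat_lit 2, nat_lit 4, nat_lit 10, nat_lit 9, nat_lit 8, nat_lit 1, nat_lit 2, nat_lit 6]]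
noncomputable def covr_P : ℕ → ℕ → ℕ := wdsP H15.MM24.P covr_W
noncomputable def covT0 : H0.TR.CT := (.split (.more (.split (.more (.split (.more (.split (.more (.split (.more (.split (.more (.split (.more (.split (.more (.split (.more (.split (.more .one (.more (.leaf (nat_lit 0) []) .one))) (.more (.fuse [nat_lit 8] [] (.leaf (nat_lit 0) [nat_lit 0, nat_lit 5, nat_lit 6, nat_lit 7, nat_lit 6, nat_lit 3, nat_lit 4, nat_lit 8, nat_lit 2, nat_lit 3, nat_lit 1])) .one))) (.more (.split (.more (.fuse [nat_lit 6] [] (.leaf (nat_lit 1) [])) (.more (.fuse [nat_lit 6] [] (.leaf (nat_lit 0) [nat_lit 5, nat_lit 7, nat_lit 1])) .one))) .one))) (.more (.split (.more (.fuse [nat_lit 7] [] (.fuse [nat_lit 5] [] (.leaf (nat_lit 1) [nat_lit 0, nat_lit 2, nat_lit 6, nat_lit 7, nat_lit 6, nat_lit 3, nat_lit 8, nat_lit 9, nat_lit 10, nat_lit 9, nat_lit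 8, nat_lit 1, nat_lit 6, nat_lit 5]))) (.more (.fuse [nat_lit 7] [] (.fuse [nat_lit 5] [] (.leaf (nat_lit 0) [nat_lit 6, nat_lit 2, nat_lit 7, nat_lit 6, nat_lit 4, nat_lit 8, nat_lit 9, nat_lit 8, nat_lit 1, nat_lit 10, nat_lit 9, nat_lit 8, nat_lit 1, nat_lit 3]))) .one))) .one))) (.more (.split (.more (.fuse [nat_lit 8] [] (.fuse [nat_lit 6] [] (.split (.more (.leaf (nat_lit 1) [nat_lit 0, nat_lit 6, nat_lit 0, nat_lit 7, nat_lit 6, nat_lit 0, nat_lit 3, nat_lit 8, nat_lit 0, nat_lit 9, nat_lit 8, nat_lit 1, nat_lit 10, nat_lit 9]) (.more (.leaf (nat_lit 0) [nat_lit 0, nat_lit 1, nat_lit 5, nat_lit 6, nat_lit 7, nat_lit 6, nat_lit 8, nat_lit 1, nat_lit 4, nat_lit 9, nat_lit 10, nat_lit 9, nat_lit 8, nat_lit 3]) .one))))) (.more (.fuse [nat_lit 8] [nat_lit 0] (.fuse [nat_lit 6] [] (.fuse [nat_lit 5] [] (.leaf (nat_lit 0) [nat_lit 1,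 nat_lit 3, nat_lit 6, nat_lit 3, nat_lit 8, nat_lit 9, nat_lit 10, nat_lit 9, nat_lit 8, nat_lit 2])))) .one))) .one))) (.more (.split (.more (.split (.more (.fuse [nat_lit 6] [] (.fuse [nat_lit 8] [] (.fuse [nat_lit 3] [] (.leaf (nat_lit 1) [nat_lit 4, nat_lit 6, nat_lit 0, nat_lit 7, nat_lit 6, nat_lit 5, nat_lit 1, nat_lit 8, nat_lit 9, nat_lit 10, nat_lit 9, nat_lit 8, nat_lit 2, nat_lit 4])))) (.more (.fuse [nat_lit 6] [] (.fuse [nat_lit 7] [] (.fuse [nat_lit 3] [] (.prune (nat_lit 0) (nat_lit 1) [])))) .one))) (.more (.split (.more (.fuse [nat_lit 6] [nat_lit 1] (.split (.more (.fuse [nat_lit 3] [] (.leaf (nat_lit 0) [nat_lit 0, nat_lit 1])) (.more (.fuse [nat_lit 3] [] (.leaf (nat_lit 1) [nat_lit 3, nat_lit 4, nat_lit 6, nat_lit 5, nat_lit 7, nat_lit 8, nat_lit 1, nat_lit 6, nat_lit 9, nat_lit 8, nat_lit 10, nat_lit 9, nat_lit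 8, nat_lit 1])) .one)))) (.more (.fuse [nat_lit 6] [nat_lit 1] (.fuse [nat_lit 7] [] (.fuse [nat_lit 3] [] (.prune (nat_lit 0) (nat_lit 1) [])))) .one))) .one))) .one))) (.more (.split (.more (.fuse [nat_lit 7] [nat_lit 1] (.fuse [nat_lit 9] [nat_lit 0, nat_lit 1] (.prune (nat_lit 3) (nat_lit 1) []))) (.more (.fuse [nat_lit 7] [nat_lit 1] (.fuse [nat_lit 9] [nat_lit 1] (.prune (nat_lit 3) (nat_lit 1) [nat_lit 0, nat_lit 2]))) .one))) .one))) (.more (.split (.more (.fuse [nat_lit 8] [] (.fuse [nat_lit 6] [] (.split (.more (.split (.more (.fuse [nat_lit 3] [] (.fuse [nat_lit 8, nat_lit 9] [] (.leaf (nat_lit 1) [nat_lit 3, nat_lit 6, nat_lit 0, nat_lit 2, nat_lit 8, nat_lit 0, nat_lit 9, nat_lit 10, nat_lit 9, nat_lit 8, nat_lit 0, nat_lit 3, nat_lit 6]))) (.more (.fuse [nat_lit 3] [] (.split (.more (.leaf (nat_lit 0) [nat_lit 0, nat_lit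 4, nat_lit 6, nat_lit 4, nat_lit 7, nat_lit 6, nat_lit 1, nat_lit 4, nat_lit 8, nat_lit 2, nat_lit 5, nat_lit 9, nat_lit 8, nat_lit 1, nat_lit 3, nat_lit 8]) (.more (.leaf (nat_lit 1) [nat_lit 3, nat_lit 6, nat_lit 3, nat_lit 4, nat_lit 8, nat_lit 0, nat_lit 9, nat_lit 10, nat_lit 9, nat_lit 8, nat_lit 3, nat_lit 5]) .one)))) .one))) (.more (.split (.more (.fuse [nat_lit 3] [] (.prune (nat_lit 1) (nat_lit 1) [])) (.more (.fuse [nat_lit 3] [] (.prune (nat_lit 1) (nat_lit 1) [])) .one))) .one))))) (.more (.fuse [nat_lit 8] [nat_lit 0, nat_lit 1] (.fuse [nat_lit 6] [nat_lit 1] (.prune (nat_lit 4) (nat_lit 1) [nat_lit 3]))) .one))) .one))) (.more (.split (.more (.split (.more (.fuse [nat_lit 7] [nat_lit 0, nat_lit 1] (.split (.more (.fuse [nat_lit 9] [nat_lit 0, nat_lit 1] (.prune (nat_lit 3) (nat_lit 1) [nat_lit 1, nat_lit 2])) (.more (.fuse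 [nat_lit 9] [nat_lit 2] (.prune (nat_lit 3) (nat_lit 1) [nat_lit 1])) .one)))) (.more (.fuse [nat_lit 7] [nat_lit 2, nat_lit 4] (.split (.more (.split (.more (.fuse [nat_lit 4] [nat_lit 0, nat_lit 1] (.split (.more (.fuse [nat_lit 1] [] (.leaf (nat_lit 1) [nat_lit 8, nat_lit 1, nat_lit 2, nat_lit 6, nat_lit 0, nat_lit 1, nat_lit 8])) (.more (.fuse [nat_lit 1] [] (.prune (nat_lit 0) (nat_lit 1) [])) .one)))) (.more (.fuse [nat_lit 4] [nat_lit 0, nat_lit 1] (.split (.more (.fuse [nat_lit 1] [] (.prune (nat_lit 0) (nat_lit 1) [])) (.more (.fuse [nat_lit 1] [] (.leaf (nat_lit 0) [nat_lit 1, nat_lit 10, nat_lit 6, nat_lit 8, nat_lit 1, nat_lit 2, nat_lit 6, nat_lit 9, nat_lit 8, nat_lit 3, nat_lit 10, nat_lit 9, nat_lit 8, nat_lit 0, nat_lit 9])) .one)))) .one))) (.more (.split (.more (.fuse [nat_lit 4] [nat_lit 0, nat_lit 1] (.prune (nat_lit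 2) (nat_lit 1) [nat_lit 0, nat_lit 1])) (.more (.fuse [nat_lit 4] [nat_lit 0, nat_lit 1] (.prune (nat_lit 2) (nat_lit 1) [nat_lit 1])) .one))) .one)))) .one))) (.more (.split (.more (.fuse [nat_lit 7] [nat_lit 0, nat_lit 1] (.prune (nat_lit 5) (nat_lit 1) [nat_lit 2, nat_lit 3])) (.more (.fuse [nat_lit 7] [nat_lit 2, nat_lit 4] (.prune (nat_lit 5) (nat_lit 1) [nat_lit 1, nat_lit 4])) .one))) .one))) .one))) (.more (.split (.more (.split (.more (.split (.more (.fuse [nat_lit 7] [nat_lit 0] (.split (.more (.fuse [nat_lit 6] [nat_lit 1] (.fuse [nat_lit 4] [nat_lit 0, nat_lit 1] (.prune (nat_lit 2) (nat_lit 1) [nat_lit 1]))) (.more (.fuse [nat_lit 6] [] (.fuse [nat_lit 4] [nat_lit 0, nat_lit 1] (.split (.more (.fuse [nat_lit 1] [] (.prune (nat_lit 0) (nat_lit 1) [])) (.more (.fuse [nat_lit 1] [] (.leaf (nat_lit 1) [nat_lit 6, nat_lit 1, nat_lit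 2, nat_lit 4, nat_lit 7, nat_lit 6, nat_lit 3, nat_lit 8, nat_lit 1, nat_lit 6, nat_lit 5, nat_lit 9, nat_lit 10, nat_lit 9, nat_lit 8, nat_lit 2])) .one))))) .one)))) (.more (.fuse [nat_lit 7] [nat_lit 1, nat_lit 2, nat_lit 4] (.split (.more (.fuse [nat_lit 6] [nat_lit 1] (.fuse [nat_lit 4] [] (.prune (nat_lit 2) (nat_lit 1) []))) (.more (.fuse [nat_lit 6] [] (.fuse [nat_lit 4] [] (.split (.more (.fuse [nat_lit 1] [] (.leaf (nat_lit 1) [nat_lit 0, nat_lit 2, nat_lit 5, nat_lit 6, nat_lit 7, nat_lit 8, nat_lit 0, nat_lit 10, nat_lit 9, nat_lit 8, nat_lit 2, nat_lit 9, nat_lit 3])) (.more (.fuse [nat_lit 1] [] (.prune (nat_lit 0) (nat_lit 1) [])) .one))))) .one)))) .one))) (.more (.split (.more (.fuse [nat_lit 7] [nat_lit 0] (.prune (nat_lit 5) (nat_lit 1) [nat_lit 0, nat_lit 1, nat_lit 2])) (.more (.fuse [nat_lit 7] [nat_lit 1, nat_lit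 2, nat_lit 4] (.prune (nat_lit 5) (nat_lit 1) [nat_lit 0, nat_lit 1, nat_lit 2, nat_lit 4])) .one))) .one))) (.more (.split (.more (.split (.more (.split (.more (.split (.more (.fuse [nat_lit 6] [nat_lit 2] (.fuse [nat_lit 6, nat_lit 8] [nat_lit 0, nat_lit 1] (.fuse [nat_lit 4] [] (.prune (nat_lit 1) (nat_lit 1) [])))) (.more (.fuse [nat_lit 6] [nat_lit 1, nat_lit 2] (.split (.more (.fuse [nat_lit 4] [] (.fuse [nat_lit 2] [] (.leaf (nat_lit 0) [nat_lit 9, nat_lit 2, nat_lit 3, nat_lit 5, nat_lit 8, nat_lit 1, nat_lit 2, nat_lit 6, nat_lit 9, nat_lit 8, nat_lit 10, nat_lit 9, nat_lit 8, nat_lit 1, nat_lit 2, nat_lit 6, nat_lit 1]))) (.more (.fuse [nat_lit 4] [] (.fuse [nat_lit 2] [] (.prune (nat_lit 0) (nat_lit 1) []))) .one)))) .one))) (.more (.split (.more (.fuse [nat_lit 6] [nat_lit 0] (.split (.more (.fuse [nat_lit 4] [] (.fuse [nat_lit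 2] [] (.prune (nat_lit 0) (nat_lit 1) []))) (.more (.fuse [nat_lit 4] [] (.fuse [nat_lit 2] [] (.leaf (nat_lit 1) [nat_lit 0, nat_lit 2, nat_lit 3, nat_lit 6, nat_lit 5, nat_lit 7, nat_lit 6, nat_lit 0, nat_lit 8, nat_lit 0, nat_lit 1, nat_lit 4, nat_lit 9, nat_lit 10, nat_lit 9, nat_lit 8, nat_lit 0]))) .one)))) (.more (.fuse [nat_lit 6] [nat_lit 0, nat_lit 1] (.fuse [nat_lit 6, nat_lit 8] [nat_lit 1] (.fuse [nat_lit 4] [] (.prune (nat_lit 1) (nat_lit 1) [nat_lit 0])))) .one))) .one))) (.more (.split (.more (.fuse [nat_lit 7] [nat_lit 0, nat_lit 1] (.fuse [nat_lit 6] [nat_lit 0, nat_lit 2] (.fuse [nat_lit 5] [nat_lit 1] (.prune (nat_lit 2) (nat_lit 1) [nat_lit 1])))) (.more (.fuse [nat_lit 7] [nat_lit 0, nat_lit 1] (.fuse [nat_lit 6] [] (.fuse [nat_lit 5] [nat_lit 1] (.split (.more (.split (.more (.leaf (nat_lit 0) [nat_lit 0, nat_lit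 3, nat_lit 6, nat_lit 0, nat_lit 1, nat_lit 7, nat_lit 8, nat_lit 1, nat_lit 6, nat_lit 5, nat_lit 9, nat_lit 8, nat_lit 1, nat_lit 10, nat_lit 9, nat_lit 8, nat_lit 10]) (.more (.leaf (nat_lit 1) [nat_lit 5, nat_lit 6, nat_lit 0, nat_lit 3, nat_lit 7, nat_lit 8, nat_lit 10, nat_lit 9, nat_lit 8, nat_lit 3, nat_lit 10]) .one))) (.more (.fuse [nat_lit 5, nat_lit 6, nat_lit 8] [] (.leaf (nat_lit 0) [nat_lit 6, nat_lit 8, nat_lit 0, nat_lit 3, nat_lit 6, nat_lit 10, nat_lit 9, nat_lit 8, nat_lit 1, nat_lit 6, nat_lit 9, nat_lit 8, nat_lit 10])) .one)))))) .one))) .one))) (.more (.split (.more (.fuse [nat_lit 8] [nat_lit 0, nat_lit 3] (.fuse [nat_lit 6] [nat_lit 1, nat_lit 2, nat_lit 3] (.split (.more (.split (.more (.fuse [nat_lit 3] [nat_lit 0] (.prune (nat_lit 1) (nat_lit 1) [nat_lit 0])) (.more (.fuse [nat_lit 3] [nat_lit 0] (.prune (nat_lit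 1) (nat_lit 1) [])) .one))) (.more (.split (.more (.fuse [nat_lit 3] [nat_lit 0] (.fuse [nat_lit 2] [] (.leaf (nat_lit 0) [nat_lit 0, nat_lit 2, nat_lit 3, nat_lit 6, nat_lit 0, nat_lit 1, nat_lit 7, nat_lit 6, nat_lit 4, nat_lit 8, nat_lit 0, nat_lit 9, nat_lit 10, nat_lit 9, nat_lit 8]))) (.more (.fuse [nat_lit 3] [nat_lit 0] (.fuse [nat_lit 2] [] (.prune (nat_lit 0) (nat_lit 1) []))) .one))) .one))))) (.more (.fuse [nat_lit 8] [nat_lit 1, nat_lit 3] (.fuse [nat_lit 6] [nat_lit 0, nat_lit 2, nat_lit 3] (.prune (nat_lit 4) (nat_lit 1) [nat_lit 0, nat_lit 2]))) .one))) .one))) .one))) .one)))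
noncomputable def c0ax_W : List (List ℕ) := [[nat_lit 8, nat_lit 9, nat_lit 10, nat_lit 1, nat_lit 5, nat_lit 6, nat_lit 5, nat_lit 1, nat_lit 7, nat_lit 6, nat_lit 1, nat_lit 4, nat_lit 8, nat_lit 3, nat_lit 9, nat_lit 8, nat_lit 0, nat_lit 10]]
noncomputable def c0ax_P : ℕ → ℕ → ℕ := wdsP H15.MM24.P c0ax_W
noncomputable def c0ath_W : List (List ℕ) := [[nat_lit 2, nat_lit 8, nat_lit 9, nat_lit 10, nat_lit 9, nat_lit 8, nat_lit 2],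
  [nat_lit 1, nat_lit 2, nat_lit 5, nat_lit 8, nat_lit 9, nat_lit 10, nat_lit 9, nat_lit 8, nat_lit 1, nat_lit 2],
  [nat_lit 0, nat_lit 2, nat_lit 8, nat_lit 9, nat_lit 10, nat_lit 9, nat_lit 8, nat_lit 0, nat_lit 2],
  [nat_lit 10, nat_lit 3, nat_lit 8, nat_lit 9, nat_lit 8, nat_lit 0, nat_lit 10, nat_lit 4],
  [nat_lit 10, nat_lit 3, nat_lit 6, nat_lit 5, nat_lit 9, nat_lit 8, nat_lit 1, nat_lit 6, nat_lit 9, nat_lit 10],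
  [nat_lit 3, nat_lit 6, nat_lit 3, nat_lit 7, nat_lit 6, nat_lit 0],
  [nat_lit 4],
  [nat_lit 5],
  [nat_lit 6],
  [nat_lit 7],
  [nat_lit 6, nat_lit 4, nat_lit 7, nat_lit 6, nat_lit 0, nat_lit 1, nat_lit 2, nat_lit 8, nat_lit 0, nat_lit 9, nat_lit 10, nat_lit 9, nat_lit 8, nat_lit 2],
  [nat_lit 0],
  [nat_lit 1],
  [nat_lit 2],
  [nat_lit 3],
  [nat_lit 8],
  [nat_lit 9],
  [nat_lit 10]]
noncomputable def c0ath_P : ℕ → ℕ → ℕ := wdsP H15.MM24.P c0ath_W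
noncomputable def c0atl0Dd : ℕ := nat_lit 0x9dbc95c5b298e10c3b42a10c272300fc7a3c128984e21120442000
noncomputable def c0atl0D (u : ℕ) : ℕ := Nat.land (Nat.shiftRight c0atl0Dd (Nat.mul u (nat_lit 9))) (nat_lit 511)
noncomputable def c0atl0Pd : ℕ := nat_lit 0x1154e24467341359bd12a59ac5dc20
noncomputable def c0atl0P (u : ℕ) : ℕ := Nat.land (Nat.shiftRight c0atl0Pd (Nat.mul u (nat_lit 5))) (nat_lit 31)
noncomputable def c0atl0Qd : ℕ := nat_lit 0x119875a24e550a41d5a983ed38dc20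
noncomputable def c0atl0Q (u : ℕ) : ℕ := Nat.land (Nat.shiftRight c0atl0Qd (Nat.mul u (nat_lit 5))) (nat_lit 31)
noncomputable def c0atl0 : H16.Lev := ⟨24, 18, c0atl0D, c0atl0P, c0atl0Q⟩
noncomputable def c0atl1Dd : ℕ := nat_lit 0x9544b6323e2e2d153020372836271826170f0e0d0c0b00
noncomputable def c0atl1D (u : ℕ) : ℕ := Nat.land (Nat.shiftRight c0atl1Dd (Nat.mul u (nat_lit 8))) (nat_lit 255)
noncomputable def c0atl1Pd : ℕ := nat_lit 0x86589a144dda874ab3b28275bc8c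
noncomputable def c0atl1P (u : ℕ) : ℕ := Nat.land (Nat.shiftRight c0atl1Pd (Nat.mul u (nat_lit 5))) (nat_lit 31)
noncomputable def c0atl1Qd : ℕ := nat_lit 0x71d3042a7112da0199ec24a81ad8a0
noncomputable def c0atl1Q (u : ℕ) : ℕ := Nat.land (Nat.shiftRight c0atl1Qd (Nat.mul u (nat_lit 5))) (nat_lit 31)
noncomputable def c0atl1 : H16.Lev := ⟨23, 16, c0atl1D, c0atl1P, c0atl1Q⟩
noncomputable def c0atl2Dd : ℕ := nat_lit 0x68478a6b553717532c34160f321f0d0e101412110a00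
noncomputable def c0atl2D (u : ℕ) : ℕ := Nat.land (Nat.shiftRight c0atl2Dd (Nat.mul u (nat_lit 8))) (nat_lit 255)
noncomputable def c0atl2Pd : ℕ := nat_lit 0x44534699c227b96afa19d692d01
noncomputable def c0atl2P (u : ℕ) : ℕ := Nat.land (Nat.shiftRight c0atl2Pd (Nat.mul u (nat_lit 5))) (nat_lit 31)
noncomputable def c0atl2Qd : ℕ := nat_lit 0x5912778dae4164014e01619548d400
noncomputable def c0atl2Q (u : ℕ) : ℕ := Nat.land (Nat.shiftRight c0atl2Qd (Nat.mul u (nat_lit 5))) (nat_lit 31)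
noncomputable def c0atl2 : H16.Lev := ⟨22, 11, c0atl2D, c0atl2P, c0atl2Q⟩
noncomputable def c0atl3Dd : ℕ := nat_lit 0x952d46452822183a2f1f20210f251c241208070600
noncomputable def c0atl3D (u : ℕ) : ℕ := Nat.land (Nat.shiftRight c0atl3Dd (Nat.mul u (nat_lit 8))) (nat_lit 255)
noncomputable def c0atl3Pd : ℕ := nat_lit 0x281914b8ded92ea92d9d389c8a
noncomputable def c0atl3P (u : ℕ) : ℕ := Nat.land (Nat.shiftRight c0atl3Pd (Nat.mul u (nat_lit 5))) (nat_lit 31)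
noncomputable def c0atl3Qd : ℕ := nat_lit 0x7993022c736958050111148e175000
noncomputable def c0atl3Q (u : ℕ) : ℕ := Nat.land (Nat.shiftRight c0atl3Qd (Nat.mul u (nat_lit 5))) (nat_lit 31)
noncomputable def c0atl3 : H16.Lev := ⟨21, 10, c0atl3D, c0atl3P, c0atl3Q⟩
noncomputable def c0atl4Dd : ℕ := nat_lit 0xbf65dab3e655104634791141c4091618280
noncomputable def c0atl4D (u : ℕ) : ℕ := Nat.land (Nat.shiftRight c0atl4Dd (Nat.mul u (nat_lit 7))) (nat_lit 127)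
noncomputable def c0atl4Pd : ℕ := nat_lit 0x20cf2352d32a5688ba17abda2
noncomputable def c0atl4P (u : ℕ) : ℕ := Nat.land (Nat.shiftRight c0atl4Pd (Nat.mul u (nat_lit 5))) (nat_lit 31)
noncomputable def c0atl4Qd : ℕ := nat_lit 0x2346e640e511820481488bd7390000
noncomputable def c0atl4Q (u : ℕ) : ℕ := Nat.land (Nat.shiftRight c0atl4Qd (Nat.mul u (nat_lit 5))) (nat_lit 31)
noncomputable def c0atl4 : H16.Lev := ⟨20, 6, c0atl4D, c0atl4P, c0atl4Q⟩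
noncomputable def c0atl5Dd : ℕ := nat_lit 0x940
noncomputable def c0atl5D (u : ℕ) : ℕ := Nat.land (Nat.shiftRight c0atl5Dd (Nat.mul u (nat_lit 4))) (nat_lit 15)
noncomputable def c0atl5Pd : ℕ := nat_lit 0xfc
noncomputable def c0atl5P (u : ℕ) : ℕ := Nat.land (Nat.shiftRight c0atl5Pd (Nat.mul u (nat_lit 3))) (nat_lit 7)
noncomputable def c0atl5Qd : ℕ := nat_lit 0x4080
noncomputable def c0atl5Q (u : ℕ) : ℕ := Nat.land (Nat.shiftRight c0atl5Qd (Nat.mul u (nat_lit 2))) (nat_lit 3)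
noncomputable def c0atl5 : H16.Lev := ⟨3, 5, c0atl5D, c0atl5P, c0atl5Q⟩
noncomputable def c0atl6Dd : ℕ := nat_lit 0xb6165558d24a1461c1083000
noncomputable def c0atl6D (u : ℕ) : ℕ := Nat.land (Nat.shiftRight c0atl6Dd (Nat.mul u (nat_lit 6))) (nat_lit 63)
noncomputable def c0atl6Pd : ℕ := nat_lit 0xbadb6a3e33839154c8c5
noncomputable def c0atl6P (u : ℕ) : ℕ := Nat.land (Nat.shiftRight c0atl6Pd (Nat.mul u (nat_lit 5))) (nat_lit 31)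
noncomputable def c0atl6Qd : ℕ := nat_lit 0xfc4b8297a6d0e03501000000
noncomputable def c0atl6Q (u : ℕ) : ℕ := Nat.land (Nat.shiftRight c0atl6Qd (Nat.mul u (nat_lit 4))) (nat_lit 15)
noncomputable def c0atl6 : H16.Lev := ⟨16, 4, c0atl6D, c0atl6P, c0atl6Q⟩
noncomputable def c0ace_W : List (List ℕ) := [[nat_lit 1, nat_lit 4, nat_lit 8, nat_lit 9, nat_lit 10, nat_lit 9, nat_lit 8, nat_lit 1],
  [nat_lit 10, nat_lit 0, nat_lit 5, nat_lit 8, nat_lit 9, nat_lit 8, nat_lit 0, nat_lit 10],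
  [nat_lit 1, nat_lit 3, nat_lit 4, nat_lit 8, nat_lit 9, nat_lit 10, nat_lit 9, nat_lit 8, nat_lit 1, nat_lit 3],
  [nat_lit 2, nat_lit 3, nat_lit 6, nat_lit 0, nat_lit 3, nat_lit 7, nat_lit 6, nat_lit 8, nat_lit 9, nat_lit 10, nat_lit 9, nat_lit 8, nat_lit 3],
  [nat_lit 2, nat_lit 5, nat_lit 6, nat_lit 5, nat_lit 1, nat_lit 8, nat_lit 0, nat_lit 7],
  [nat_lit 0, nat_lit 2, nat_lit 7, nat_lit 6, nat_lit 1, nat_lit 4, nat_lit 8, nat_lit 1, nat_lit 9, nat_lit 10, nat_lit 9, nat_lit 8, nat_lit 0, nat_lit 5],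
  [nat_lit 0, nat_lit 3, nat_lit 4, nat_lit 6, nat_lit 1, nat_lit 8, nat_lit 0, nat_lit 1, nat_lit 5, nat_lit 9, nat_lit 8, nat_lit 10, nat_lit 9, nat_lit 8, nat_lit 3]]
noncomputable def c0ace_P : ℕ → ℕ → ℕ := wdsP H15.MM24.P c0ace_W
noncomputable def c0acc6Dd : ℕ := nat_lit 0xe8542100
noncomputable def c0acc6D (u : ℕ) : ℕ := Nat.land (Nat.shiftRight c0acc6Dd (Nat.mul u (nat_lit 4))) (nat_lit 15)
noncomputable def c0acc6Pd : ℕ := nat_lit 0x7ddd19c105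
noncomputable def c0acc6P (u : ℕ) : ℕ := Nat.land (Nat.shiftRight c0acc6Pd (Nat.mul u (nat_lit 5))) (nat_lit 31)
noncomputable def c0acc6Qd : ℕ := nat_lit 0xc00622f40001000000
noncomputable def c0acc6Q (u : ℕ) : ℕ := Nat.land (Nat.shiftRight c0acc6Qd (Nat.mul u (nat_lit 3))) (nat_lit 7)
noncomputable def c0acc6 : H16.Lev := ⟨8, 3, c0acc6D, c0acc6P, c0acc6Q⟩
noncomputable def c0atn0Fd : ℕ := nat_lit 0x8b7500000048310
noncomputable def c0atn0F (u : ℕ) : ℕ := Nat.land (Nat.shiftRight c0atn0Fd (Nat.mul u (nat_lit 4))) (nat_lit 15)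
noncomputable def c0atn0 : Nd := ⟨c0atn0F, (nat_lit 3), (nat_lit 3), [[nat_lit 0]], [((nat_lit 0), [])], []⟩
noncomputable def c0acc4Dd : ℕ := nat_lit 0x9db3cb3891c61440c0
noncomputable def c0acc4D (u : ℕ) : ℕ := Nat.land (Nat.shiftRight c0acc4Dd (Nat.mul u (nat_lit 6))) (nat_lit 63)
noncomputable def c0acc4Pd : ℕ := nat_lit 0x20dc79a1f72c602
noncomputable def c0acc4P (u : ℕ) : ℕ := Nat.land (Nat.shiftRight c0acc4Pd (Nat.mul u (nat_lit 5))) (nat_lit 31)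
noncomputable def c0acc4Qd : ℕ := nat_lit 0x4000702159000006803ba000
noncomputable def c0acc4Q (u : ℕ) : ℕ := Nat.land (Nat.shiftRight c0acc4Qd (Nat.mul u (nat_lit 4))) (nat_lit 15)
noncomputable def c0acc4 : H16.Lev := ⟨12, 4, c0acc4D, c0acc4P, c0acc4Q⟩
noncomputable def c0atn1Fd : ℕ := nat_lit 0xae96005400000a010
noncomputable def c0atn1F (u : ℕ) : ℕ := Nat.land (Nat.shiftRight c0atn1Fd (Nat.mul u (nat_lit 4))) (nat_lit 15)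
noncomputable def c0atn1 : Nd := ⟨c0atn1F, (nat_lit 4), (nat_lit 4), [[nat_lit 0]], [((nat_lit 0), [])], []⟩
noncomputable def c0acc2Dd : ℕ := nat_lit 0x3bba7a717ba0d61480
noncomputable def c0acc2D (u : ℕ) : ℕ := Nat.land (Nat.shiftRight c0acc2Dd (Nat.mul u (nat_lit 5))) (nat_lit 31)
noncomputable def c0acc2Pd : ℕ := nat_lit 0x879de021b9f12a141
noncomputable def c0acc2P (u : ℕ) : ℕ := Nat.land (Nat.shiftRight c0acc2Pd (Nat.mul u (nat_lit 5))) (nat_lit 31)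
noncomputable def c0acc2Qd : ℕ := nat_lit 0xa000b04956000102c03d7800
noncomputable def c0acc2Q (u : ℕ) : ℕ := Nat.land (Nat.shiftRight c0acc2Qd (Nat.mul u (nat_lit 4))) (nat_lit 15)
noncomputable def c0acc2 : H16.Lev := ⟨14, 6, c0acc2D, c0acc2P, c0acc2Q⟩
noncomputable def c0atn2Fd : ℕ := nat_lit 0x180d00000001003b01050400
noncomputable def c0atn2F (u : ℕ) : ℕ := Nat.land (Nat.shiftRight c0atn2Fd (Nat.mul u (nat_lit 5))) (nat_lit 31)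
noncomputable def c0atn2 : Nd := ⟨c0atn2F, (nat_lit 6), (nat_lit 6), [[nat_lit 0]], [((nat_lit 0), [])], []⟩
noncomputable def c0acc0Dd : ℕ := nat_lit 0xc2a0d9a3e60c8d1e3050b101c300
noncomputable def c0acc0D (u : ℕ) : ℕ := Nat.land (Nat.shiftRight c0acc0Dd (Nat.mul u (nat_lit 7))) (nat_lit 127)
noncomputable def c0acc0Pd : ℕ := nat_lit 0x60d45391019c05175de0
noncomputable def c0acc0P (u : ℕ) : ℕ := Nat.land (Nat.shiftRight c0acc0Pd (Nat.mul u (nat_lit 5))) (nat_lit 31)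
noncomputable def c0acc0Qd : ℕ := nat_lit 0x20007046130f0d09b0cae580
noncomputable def c0acc0Q (u : ℕ) : ℕ := Nat.land (Nat.shiftRight c0acc0Qd (Nat.mul u (nat_lit 4))) (nat_lit 15)
noncomputable def c0acc0 : H16.Lev := ⟨16, 7, c0acc0D, c0acc0P, c0acc0Q⟩
noncomputable def c0atn3Fd : ℕ := nat_lit 0x701e90000b448e008000
noncomputable def c0atn3F (u : ℕ) : ℕ := Nat.land (Nat.shiftRight c0atn3Fd (Nat.mul u (nat_lit 5))) (nat_lit 31)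
noncomputable def c0atn3 : Nd := ⟨c0atn3F, (nat_lit 7), (nat_lit 7), [[nat_lit 0]], [((nat_lit 0), [])], []⟩
noncomputable def c0v_W : List (List ℕ) := [[nat_lit 8, nat_lit 0, nat_lit 9, nat_lit 8],
  [nat_lit 10, nat_lit 0, nat_lit 5, nat_lit 8, nat_lit 9, nat_lit 8, nat_lit 0, nat_lit 10],
  [nat_lit 2, nat_lit 5, nat_lit 6, nat_lit 5, nat_lit 1, nat_lit 8, nat_lit 0, nat_lit 4],
  [nat_lit 0, nat_lit 1, nat_lit 3, nat_lit 4, nat_lit 6, nat_lit 0, nat_lit 7, nat_lit 6, nat_lit 0, nat_lit 1, nat_lit 2]]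
noncomputable def c0v_P : ℕ → ℕ → ℕ := wdsP H15.MM24.P c0v_W
noncomputable def c0cth_W : List (List ℕ) := [[nat_lit 0, nat_lit 2, nat_lit 5, nat_lit 6, nat_lit 2, nat_lit 6, nat_lit 7, nat_lit 6, nat_lit 0, nat_lit 3, nat_lit 9, nat_lit 8, nat_lit 1, nat_lit 6, nat_lit 10, nat_lit 9],
  [nat_lit 8, nat_lit 2, nat_lit 6, nat_lit 5, nat_lit 1, nat_lit 7, nat_lit 6, nat_lit 1, nat_lit 9, nat_lit 8, nat_lit 1, nat_lit 2, nat_lit 10, nat_lit 9, nat_lit 8, nat_lit 4],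
  [nat_lit 7, nat_lit 6, nat_lit 0, nat_lit 3, nat_lit 8, nat_lit 9, nat_lit 8, nat_lit 10, nat_lit 9, nat_lit 8, nat_lit 0, nat_lit 1, nat_lit 5, nat_lit 6],
  [nat_lit 6, nat_lit 7, nat_lit 6, nat_lit 2, nat_lit 6, nat_lit 8, nat_lit 1, nat_lit 2, nat_lit 6, nat_lit 7, nat_lit 9, nat_lit 8, nat_lit 2, nat_lit 10, nat_lit 9, nat_lit 8, nat_lit 1, nat_lit 6, nat_lit 7],
  [nat_lit 10, nat_lit 6, nat_lit 1, nat_lit 4, nat_lit 8, nat_lit 1, nat_lit 3, nat_lit 9, nat_lit 8, nat_lit 1, nat_lit 6],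
  [nat_lit 1, nat_lit 3, nat_lit 4, nat_lit 7, nat_lit 8, nat_lit 9, nat_lit 10, nat_lit 9, nat_lit 8, nat_lit 1, nat_lit 3],
  [nat_lit 0, nat_lit 2, nat_lit 3, nat_lit 5, nat_lit 6, nat_lit 4, nat_lit 7, nat_lit 8, nat_lit 3, nat_lit 9, nat_lit 8, nat_lit 0, nat_lit 3, nat_lit 10],
  [nat_lit 1, nat_lit 2, nat_lit 3, nat_lit 6, nat_lit 4, nat_lit 8, nat_lit 1, nat_lit 2, nat_lit 10, nat_lit 9, nat_lit 8, nat_lit 1],
  [nat_lit 5, nat_lit 8, nat_lit 1, nat_lit 4, nat_lit 6, nat_lit 3, nat_lit 7, nat_lit 8, nat_lit 10, nat_lit 9, nat_lit 8, nat_lit 0, nat_lit 1, nat_lit 5, nat_lit 8],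
  [nat_lit 10, nat_lit 0, nat_lit 7, nat_lit 6, nat_lit 5, nat_lit 8, nat_lit 1, nat_lit 9, nat_lit 8, nat_lit 1, nat_lit 4, nat_lit 10, nat_lit 9, nat_lit 8, nat_lit 1, nat_lit 3],
  [nat_lit 0],
  [nat_lit 1],
  [nat_lit 2],
  [nat_lit 3],
  [nat_lit 4],
  [nat_lit 5],
  [nat_lit 6],
  [nat_lit 7],
  [nat_lit 8],
  [nat_lit 9],
  [nat_lit 10]]
noncomputable def c0cth_P : ℕ → ℕ → ℕ := wdsP H15.MM24.P c0cth_W
noncomputable def c0ctl0Dd : ℕ := nat_lit 0xbb06d0682509ecf24e3aa2098243988842200903c1c0d0602c1400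
noncomputable def c0ctl0D (u : ℕ) : ℕ := Nat.land (Nat.shiftRight c0ctl0Dd (Nat.mul u (nat_lit 9))) (nat_lit 511)
noncomputable def c0ctl0Pd : ℕ := nat_lit 0x102e18b8647a193ad9522c28b3b526
noncomputable def c0ctl0P (u : ℕ) : ℕ := Nat.land (Nat.shiftRight c0ctl0Pd (Nat.mul u (nat_lit 5))) (nat_lit 31)
noncomputable def c0ctl0Qd : ℕ := nat_lit 0xaa965622667c84d2242e180f08de96
noncomputable def c0ctl0Q (u : ℕ) : ℕ := Nat.land (Nat.shiftRight c0ctl0Qd (Nat.mul u (nat_lit 5))) (nat_lit 31)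
noncomputable def c0ctl0 : H16.Lev := ⟨24, 21, c0ctl0D, c0ctl0P, c0ctl0Q⟩
noncomputable def c0ctl1Dd : ℕ := nat_lit 0x1927ce8529c2f6c54dac2c64c131a4058a1838480
noncomputable def c0ctl1D (u : ℕ) : ℕ := Nat.land (Nat.shiftRight c0ctl1Dd (Nat.mul u (nat_lit 7))) (nat_lit 127)
noncomputable def c0ctl1Pd : ℕ := nat_lit 0x9b491d3600dc17c4b524ef05218b
noncomputable def c0ctl1P (u : ℕ) : ℕ := Nat.land (Nat.shiftRight c0ctl1Pd (Nat.mul u (nat_lit 5))) (nat_lit 31)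
noncomputable def c0ctl1Qd : ℕ := nat_lit 0x2c11434d445b6a100e22901277598f
noncomputable def c0ctl1Q (u : ℕ) : ℕ := Nat.land (Nat.shiftRight c0ctl1Qd (Nat.mul u (nat_lit 5))) (nat_lit 31)
noncomputable def c0ctl1 : H16.Lev := ⟨23, 10, c0ctl1D, c0ctl1P, c0ctl1Q⟩
noncomputable def c0ctl2Dd : ℕ := nat_lit 0x8e7b69734e4230273a2531241e152013121611100800
noncomputable def c0ctl2D (u : ℕ) : ℕ := Nat.land (Nat.shiftRight c0ctl2Dd (Nat.mul u (nat_lit 8))) (nat_lit 255)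
noncomputable def c0ctl2Pd : ℕ := nat_lit 0x2c96ca6082af12bc2c13907192b4
noncomputable def c0ctl2P (u : ℕ) : ℕ := Nat.land (Nat.shiftRight c0ctl2Pd (Nat.mul u (nat_lit 5))) (nat_lit 31)
noncomputable def c0ctl2Qd : ℕ := nat_lit 0x6d4208c98f51a6803a852016219d30
noncomputable def c0ctl2Q (u : ℕ) : ℕ := Nat.land (Nat.shiftRight c0ctl2Qd (Nat.mul u (nat_lit 5))) (nat_lit 31)
noncomputable def c0ctl2 : H16.Lev := ⟨22, 9, c0ctl2D, c0ctl2P, c0ctl2Q⟩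
noncomputable def c0ctl3Dd : ℕ := nat_lit 0x6fad1a7d46cacd935a9089c202c7091030380
noncomputable def c0ctl3D (u : ℕ) : ℕ := Nat.land (Nat.shiftRight c0ctl3Dd (Nat.mul u (nat_lit 7))) (nat_lit 127)
noncomputable def c0ctl3Pd : ℕ := nat_lit 0x164b6409860a15e257b06e41c95
noncomputable def c0ctl3P (u : ℕ) : ℕ := Nat.land (Nat.shiftRight c0ctl3Pd (Nat.mul u (nat_lit 5))) (nat_lit 31)
noncomputable def c0ctl3Qd : ℕ := nat_lit 0x550007c52d3924603263101012add0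
noncomputable def c0ctl3Q (u : ℕ) : ℕ := Nat.land (Nat.shiftRight c0ctl3Qd (Nat.mul u (nat_lit 5))) (nat_lit 31)
noncomputable def c0ctl3 : H16.Lev := ⟨21, 8, c0ctl3D, c0ctl3P, c0ctl3Q⟩
noncomputable def c0ctl4Dd : ℕ := nat_lit 0x97294a2389d09b3244a0f1c406921618280
noncomputable def c0ctl4D (u : ℕ) : ℕ := Nat.land (Nat.shiftRight c0ctl4Dd (Nat.mul u (nat_lit 7))) (nat_lit 127)
noncomputable def c0ctl4Pd : ℕ := nat_lit 0x20eef1390191e059b0116a936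
noncomputable def c0ctl4P (u : ℕ) : ℕ := Nat.land (Nat.shiftRight c0ctl4Pd (Nat.mul u (nat_lit 5))) (nat_lit 31)
noncomputable def c0ctl4Qd : ℕ := nat_lit 0x880003ac89838660082d5011393d85
noncomputable def c0ctl4Q (u : ℕ) : ℕ := Nat.land (Nat.shiftRight c0ctl4Qd (Nat.mul u (nat_lit 5))) (nat_lit 31)
noncomputable def c0ctl4 : H16.Lev := ⟨20, 7, c0ctl4D, c0ctl4P, c0ctl4Q⟩
noncomputable def c0ctl5Dd : ℕ := nat_lit 0x940
noncomputable def c0ctl5D (u : ℕ) : ℕ := Nat.land (Nat.shiftRight c0ctl5Dd (Nat.mul u (nat_lit 4))) (nat_lit 15)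
noncomputable def c0ctl5Pd : ℕ := nat_lit 0x49a9
noncomputable def c0ctl5P (u : ℕ) : ℕ := Nat.land (Nat.shiftRight c0ctl5Pd (Nat.mul u (nat_lit 5))) (nat_lit 31)
noncomputable def c0ctl5Qd : ℕ := nat_lit 0x2004000000
noncomputable def c0ctl5Q (u : ℕ) : ℕ := Nat.land (Nat.shiftRight c0ctl5Qd (Nat.mul u (nat_lit 2))) (nat_lit 3)
noncomputable def c0ctl5 : H16.Lev := ⟨3, 5, c0ctl5D, c0ctl5P, c0ctl5Q⟩
noncomputable def c0ctl6Dd : ℕ := nat_lit 0xbdf6d754f2c7245103040080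
noncomputable def c0ctl6D (u : ℕ) : ℕ := Nat.land (Nat.shiftRight c0ctl6Dd (Nat.mul u (nat_lit 6))) (nat_lit 63)
noncomputable def c0ctl6Pd : ℕ := nat_lit 0x21d0e63e23542e299420
noncomputable def c0ctl6P (u : ℕ) : ℕ := Nat.land (Nat.shiftRight c0ctl6Pd (Nat.mul u (nat_lit 5))) (nat_lit 31)
noncomputable def c0ctl6Qd : ℕ := nat_lit 0x50003096ac0b070de02f8410
noncomputable def c0ctl6Q (u : ℕ) : ℕ := Nat.land (Nat.shiftRight c0ctl6Qd (Nat.mul u (nat_lit 4))) (nat_lit 15)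
noncomputable def c0ctl6 : H16.Lev := ⟨16, 4, c0ctl6D, c0ctl6P, c0ctl6Q⟩
noncomputable def c0ce_W : List (List ℕ) := [[nat_lit 10, nat_lit 0, nat_lit 2, nat_lit 6, nat_lit 5, nat_lit 1, nat_lit 7, nat_lit 6, nat_lit 0, nat_lit 8, nat_lit 0, nat_lit 9, nat_lit 8, nat_lit 1, nat_lit 3, nat_lit 10, nat_lit 9, nat_lit 8],
  [nat_lit 0, nat_lit 1, nat_lit 2, nat_lit 6, nat_lit 7, nat_lit 6, nat_lit 5, nat_lit 1, nat_lit 8, nat_lit 9, nat_lit 8],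
  [nat_lit 2, nat_lit 5, nat_lit 6, nat_lit 1, nat_lit 4, nat_lit 1, nat_lit 8, nat_lit 0, nat_lit 3],
  [nat_lit 1, nat_lit 2, nat_lit 3, nat_lit 6, nat_lit 0, nat_lit 1, nat_lit 2, nat_lit 8, nat_lit 9, nat_lit 8]]
noncomputable def c0ce_P : ℕ → ℕ → ℕ := wdsP H15.MM24.P c0ce_W
noncomputable def c0cc6Dd : ℕ := nat_lit 0
noncomputable def c0cc6D (u : ℕ) : ℕ := Nat.land (Nat.shiftRight c0cc6Dd (Nat.mul u (nat_lit 1))) (nat_lit 1)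
noncomputable def c0cc6Pd : ℕ := nat_lit 0xc0
noncomputable def c0cc6P (u : ℕ) : ℕ := Nat.land (Nat.shiftRight c0cc6Pd (Nat.mul u (nat_lit 4))) (nat_lit 15)
noncomputable def c0cc6Qd : ℕ := nat_lit 0x1000
noncomputable def c0cc6Q (u : ℕ) : ℕ := Nat.land (Nat.shiftRight c0cc6Qd (Nat.mul u (nat_lit 1))) (nat_lit 1)
noncomputable def c0cc6 : H16.Lev := ⟨2, 1, c0cc6D, c0cc6P, c0cc6Q⟩
noncomputable def c0ctn0Fd : ℕ := nat_lit 0xaa15a954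
noncomputable def c0ctn0F (u : ℕ) : ℕ := Nat.land (Nat.shiftRight c0ctn0Fd (Nat.mul u (nat_lit 2))) (nat_lit 3)
noncomputable def c0ctn0 : Nd := ⟨c0ctn0F, (nat_lit 2), (nat_lit 1), [[nat_lit 0],
  [nat_lit 1],
  [nat_lit 2]], [((nat_lit 0), [])], []⟩
noncomputable def c0cc0Dd : ℕ := nat_lit 0x9ace518440
noncomputable def c0cc0D (u : ℕ) : ℕ := Nat.land (Nat.shiftRight c0cc0Dd (Nat.mul u (nat_lit 5))) (nat_lit 31)
noncomputable def c0cc0Pd : ℕ := nat_lit 0x6ae954cac6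
noncomputable def c0cc0P (u : ℕ) : ℕ := Nat.land (Nat.shiftRight c0cc0Pd (Nat.mul u (nat_lit 5))) (nat_lit 31)
noncomputable def c0cc0Qd : ℕ := nat_lit 0x65080038c18000000
noncomputable def c0cc0Q (u : ℕ) : ℕ := Nat.land (Nat.shiftRight c0cc0Qd (Nat.mul u (nat_lit 3))) (nat_lit 7)
noncomputable def c0cc0 : H16.Lev := ⟨8, 4, c0cc0D, c0cc0P, c0cc0Q⟩
noncomputable def c0ctn1Fd : ℕ := nat_lit 0xb66df1249008c40200
noncomputable def c0ctn1F (u : ℕ) : ℕ := Nat.land (Nat.shiftRight c0ctn1Fd (Nat.mul u (nat_lit 3))) (nat_lit 7)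
noncomputable def c0ctn1 : Nd := ⟨c0ctn1F, (nat_lit 4), (nat_lit 4), [[nat_lit 0],
  [nat_lit 1, nat_lit 3]], [((nat_lit 0), [])], []⟩
noncomputable def c0nW : List (List (List ℕ)) := [[[nat_lit 0, nat_lit 1],
  [nat_lit 1],
  [nat_lit 2],
  [nat_lit 1, nat_lit 3]], [[nat_lit 0],
  [nat_lit 1],
  [nat_lit 2],
  [nat_lit 3]], [[nat_lit 0],
  [nat_lit 1],
  [nat_lit 1, nat_lit 2],
  [nat_lit 3]], [[nat_lit 0, nat_lit 1],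
  [nat_lit 1, nat_lit 3],
  [nat_lit 1, nat_lit 2, nat_lit 3],
  [nat_lit 1]], [[nat_lit 0],
  [nat_lit 1],
  [nat_lit 2, nat_lit 3],
  [nat_lit 3]], [[nat_lit 0, nat_lit 1],
  [nat_lit 1, nat_lit 2],
  [nat_lit 2, nat_lit 3],
  [nat_lit 1, nat_lit 2, nat_lit 3]], [[nat_lit 0],
  [nat_lit 0, nat_lit 1, nat_lit 2],
  [nat_lit 1],
  [nat_lit 0, nat_lit 2, nat_lit 3]]]
noncomputable def c1ax_W : List (List ℕ) := [[nat_lit 2, nat_lit 3, nat_lit 6, nat_lit 3, nat_lit 4, nat_lit 7, nat_lit 6, nat_lit 0, nat_lit 8, nat_lit 1, nat_lit 6, nat_lit 9, nat_lit 8, nat_lit 2, nat_lit 4, nat_lit 10, nat_lit 9, nat_lit 8, nat_lit 1, nat_lit 2, nat_lit 6]]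
noncomputable def c1ax_P : ℕ → ℕ → ℕ := wdsP H15.MM24.P c1ax_W
noncomputable def c1ath_W : List (List ℕ) := [[nat_lit 0, nat_lit 2, nat_lit 3, nat_lit 6, nat_lit 3, nat_lit 8, nat_lit 9, nat_lit 10, nat_lit 9, nat_lit 8],
  [nat_lit 1, nat_lit 2, nat_lit 6, nat_lit 3, nat_lit 8, nat_lit 10, nat_lit 9, nat_lit 8, nat_lit 3, nat_lit 10],
  [nat_lit 3, nat_lit 4, nat_lit 6, nat_lit 2, nat_lit 6, nat_lit 2],
  [nat_lit 6, nat_lit 0, nat_lit 7, nat_lit 6, nat_lit 2, nat_lit 8, nat_lit 9, nat_lit 10, nat_lit 9, nat_lit 8, nat_lit 3],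
  [nat_lit 0],
  [nat_lit 1],
  [nat_lit 2],
  [nat_lit 3],
  [nat_lit 2, nat_lit 4, nat_lit 6, nat_lit 1, nat_lit 2, nat_lit 7, nat_lit 6, nat_lit 5, nat_lit 9, nat_lit 10, nat_lit 9, nat_lit 8, nat_lit 0, nat_lit 3],
  [nat_lit 4],
  [nat_lit 5],
  [nat_lit 6],
  [nat_lit 7],
  [nat_lit 8],
  [nat_lit 9],
  [nat_lit 10]]
noncomputable def c1ath_P : ℕ → ℕ → ℕ := wdsP H15.MM24.P c1ath_W
noncomputable def c1atl0Dd : ℕ := nat_lit 0xfcbd9b89417652661859575646454436352321201d0f0e00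
noncomputable def c1atl0D (u : ℕ) : ℕ := Nat.land (Nat.shiftRight c1atl0Dd (Nat.mul u (nat_lit 8))) (nat_lit 255)
noncomputable def c1atl0Pd : ℕ := nat_lit 0x11632751b61a5153414b7926765c20
noncomputable def c1atl0P (u : ℕ) : ℕ := Nat.land (Nat.shiftRight c1atl0Pd (Nat.mul u (nat_lit 5))) (nat_lit 31)
noncomputable def c1atl0Qd : ℕ := nat_lit 0x141922d2aa3ce23425cd22ec67dc20
noncomputable def c1atl0Q (u : ℕ) : ℕ := Nat.land (Nat.shiftRight c1atl0Qd (Nat.mul u (nat_lit 5))) (nat_lit 31)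
noncomputable def c1atl0 : H16.Lev := ⟨24, 16, c1atl0D, c1atl0P, c1atl0Q⟩
noncomputable def c1atl1Dd : ℕ := nat_lit 0xd1498aac5d5b5a0f3a412c193e1031302f2e0d0b0a0900
noncomputable def c1atl1D (u : ℕ) : ℕ := Nat.land (Nat.shiftRight c1atl1Dd (Nat.mul u (nat_lit 8))) (nat_lit 255)
noncomputable def c1atl1Pd : ℕ := nat_lit 0x6e2aae72b30d47b4644a0f0515d1
noncomputable def c1atl1P (u : ℕ) : ℕ := Nat.land (Nat.shiftRight c1atl1Pd (Nat.mul u (nat_lit 5))) (nat_lit 31)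
noncomputable def c1atl1Qd : ℕ := nat_lit 0xabe6c8c0045854e90ce62b4484d2c0
noncomputable def c1atl1Q (u : ℕ) : ℕ := Nat.land (Nat.shiftRight c1atl1Qd (Nat.mul u (nat_lit 5))) (nat_lit 31)
noncomputable def c1atl1 : H16.Lev := ⟨23, 14, c1atl1D, c1atl1P, c1atl1Q⟩
noncomputable def c1atl2Dd : ℕ := nat_lit 0x2ee1493899264ad5225284a28407c60a122c400
noncomputable def c1atl2D (u : ℕ) : ℕ := Nat.land (Nat.shiftRight c1atl2Dd (Nat.mul u (nat_lit 7))) (nat_lit 127)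
noncomputable def c1atl2Pd : ℕ := nat_lit 0x55bda8931d737c9c4541ac41461
noncomputable def c1atl2P (u : ℕ) : ℕ := Nat.land (Nat.shiftRight c1atl2Pd (Nat.mul u (nat_lit 5))) (nat_lit 31)
noncomputable def c1atl2Qd : ℕ := nat_lit 0x9ca91628065a4a469e0373c480d400
noncomputable def c1atl2Q (u : ℕ) : ℕ := Nat.land (Nat.shiftRight c1atl2Qd (Nat.mul u (nat_lit 5))) (nat_lit 31)
noncomputable def c1atl2 : H16.Lev := ⟨22, 9, c1atl2D, c1atl2P, c1atl2Q⟩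
noncomputable def c1atl3Dd : ℕ := nat_lit 0x8339471837102f082e1a1f17160f0e0d0706050400
noncomputable def c1atl3D (u : ℕ) : ℕ := Nat.land (Nat.shiftRight c1atl3Dd (Nat.mul u (nat_lit 8))) (nat_lit 255)
noncomputable def c1atl3Pd : ℕ := nat_lit 0x2299d2ba8764b4eb45490a326f
noncomputable def c1atl3P (u : ℕ) : ℕ := Nat.land (Nat.shiftRight c1atl3Pd (Nat.mul u (nat_lit 5))) (nat_lit 31)
noncomputable def c1atl3Qd : ℕ := nat_lit 0x7b0c30c00404542439674ca656d000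
noncomputable def c1atl3Q (u : ℕ) : ℕ := Nat.land (Nat.shiftRight c1atl3Qd (Nat.mul u (nat_lit 5))) (nat_lit 31)
noncomputable def c1atl3 : H16.Lev := ⟨21, 8, c1atl3D, c1atl3P, c1atl3Q⟩
noncomputable def c1atl4Dd : ℕ := nat_lit 0x8ccd5a93a6c896163090e10283850818180
noncomputable def c1atl4D (u : ℕ) : ℕ := Nat.land (Nat.shiftRight c1atl4Dd (Nat.mul u (nat_lit 7))) (nat_lit 127)
noncomputable def c1atl4Pd : ℕ := nat_lit 0x22eb73b0b3834c3b2a4872682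
noncomputable def c1atl4P (u : ℕ) : ℕ := Nat.land (Nat.shiftRight c1atl4Pd (Nat.mul u (nat_lit 5))) (nat_lit 31)
noncomputable def c1atl4Qd : ℕ := nat_lit 0x81e216140b00d4e918447a5b340000
noncomputable def c1atl4Q (u : ℕ) : ℕ := Nat.land (Nat.shiftRight c1atl4Qd (Nat.mul u (nat_lit 5))) (nat_lit 31)
noncomputable def c1atl4 : H16.Lev := ⟨20, 4, c1atl4D, c1atl4P, c1atl4Q⟩
noncomputable def c1atl5Dd : ℕ := nat_lit 0xc56179368a3208328440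
noncomputable def c1atl5D (u : ℕ) : ℕ := Nat.land (Nat.shiftRight c1atl5Dd (Nat.mul u (nat_lit 5))) (nat_lit 31)
noncomputable def c1atl5Pd : ℕ := nat_lit 0x6c8742cd0e5593739990
noncomputable def c1atl5P (u : ℕ) : ℕ := Nat.land (Nat.shiftRight c1atl5Pd (Nat.mul u (nat_lit 5))) (nat_lit 31)
noncomputable def c1atl5Qd : ℕ := nat_lit 0x460cae0008f1075932b0d000
noncomputable def c1atl5Q (u : ℕ) : ℕ := Nat.land (Nat.shiftRight c1atl5Qd (Nat.mul u (nat_lit 4))) (nat_lit 15)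
noncomputable def c1atl5 : H16.Lev := ⟨16, 3, c1atl5D, c1atl5P, c1atl5Q⟩
noncomputable def c1atl6Dd : ℕ := nat_lit 4
noncomputable def c1atl6D (u : ℕ) : ℕ := Nat.land (Nat.shiftRight c1atl6Dd (Nat.mul u (nat_lit 1))) (nat_lit 1)
noncomputable def c1atl6Pd : ℕ := nat_lit 0x4d03
noncomputable def c1atl6P (u : ℕ) : ℕ := Nat.land (Nat.shiftRight c1atl6Pd (Nat.mul u (nat_lit 5))) (nat_lit 31)
noncomputable def c1atl6Qd : ℕ := nat_lit 0x8000010000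
noncomputable def c1atl6Q (u : ℕ) : ℕ := Nat.land (Nat.shiftRight c1atl6Qd (Nat.mul u (nat_lit 2))) (nat_lit 3)
noncomputable def c1atl6 : H16.Lev := ⟨3, 1, c1atl6D, c1atl6P, c1atl6Q⟩
noncomputable def c1ace_W : List (List ℕ) := [[nat_lit 10, nat_lit 2, nat_lit 3, nat_lit 6, nat_lit 7, nat_lit 8, nat_lit 9, nat_lit 8, nat_lit 0, nat_lit 3, nat_lit 10],
  [nat_lit 10, nat_lit 2, nat_lit 5, nat_lit 6, nat_lit 2, nat_lit 7, nat_lit 6, nat_lit 1, nat_lit 8, nat_lit 9, nat_lit 8, nat_lit 0, nat_lit 2, nat_lit 10],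
  [nat_lit 6, nat_lit 0, nat_lit 2, nat_lit 6, nat_lit 8, nat_lit 1, nat_lit 6, nat_lit 9, nat_lit 10, nat_lit 9, nat_lit 8, nat_lit 3],
  [nat_lit 1, nat_lit 2, nat_lit 4, nat_lit 6, nat_lit 1, nat_lit 7, nat_lit 6, nat_lit 3, nat_lit 8, nat_lit 0, nat_lit 1, nat_lit 9, nat_lit 10, nat_lit 9],
  [nat_lit 1, nat_lit 5, nat_lit 6, nat_lit 2, nat_lit 7, nat_lit 6, nat_lit 0, nat_lit 1, nat_lit 2, nat_lit 8, nat_lit 1, nat_lit 10, nat_lit 9, nat_lit 8]]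
noncomputable def c1ace_P : ℕ → ℕ → ℕ := wdsP H15.MM24.P c1ace_W
noncomputable def c1atn0Fd : ℕ := nat_lit 6
noncomputable def c1atn0F (u : ℕ) : ℕ := Nat.land (Nat.shiftRight c1atn0Fd (Nat.mul u (nat_lit 1))) (nat_lit 1)
noncomputable def c1atn0 : Nd := ⟨c1atn0F, (nat_lit 2), (nat_lit 0), [], [((nat_lit 0), []), ((nat_lit 1), [nat_lit 0])], []⟩
noncomputable def c1acc4Dd : ℕ := nat_lit 0xbda307a5073148310400
noncomputable def c1acc4D (u : ℕ) : ℕ := Nat.land (Nat.shiftRight c1acc4Dd (Nat.mul u (nat_lit 5))) (nat_lit 31)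
noncomputable def c1acc4Pd : ℕ := nat_lit 0xa489029e771ad36ab4c2
noncomputable def c1acc4P (u : ℕ) : ℕ := Nat.land (Nat.shiftRight c1acc4Pd (Nat.mul u (nat_lit 5))) (nat_lit 31)
noncomputable def c1acc4Qd : ℕ := nat_lit 0x843f9e0c00206050a1bd7000
noncomputable def c1acc4Q (u : ℕ) : ℕ := Nat.land (Nat.shiftRight c1acc4Qd (Nat.mul u (nat_lit 4))) (nat_lit 15)
noncomputable def c1acc4 : H16.Lev := ⟨16, 2, c1acc4D, c1acc4P, c1acc4Q⟩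
noncomputable def c1atn1Fd : ℕ := nat_lit 0x20002140
noncomputable def c1atn1F (u : ℕ) : ℕ := Nat.land (Nat.shiftRight c1atn1Fd (Nat.mul u (nat_lit 2))) (nat_lit 3)
noncomputable def c1atn1 : Nd := ⟨c1atn1F, (nat_lit 2), (nat_lit 2), [], [((nat_lit 0), []), ((nat_lit 0), [nat_lit 0])], []⟩
noncomputable def c1acc2Dd : ℕ := nat_lit 0xa6886065171260d40c2c9287203080
noncomputable def c1acc2D (u : ℕ) : ℕ := Nat.land (Nat.shiftRight c1acc2Dd (Nat.mul u (nat_lit 6))) (nat_lit 63)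
noncomputable def c1acc2Pd : ℕ := nat_lit 0xb556991553a184d710e385de1
noncomputable def c1acc2P (u : ℕ) : ℕ := Nat.land (Nat.shiftRight c1acc2Pd (Nat.mul u (nat_lit 5))) (nat_lit 31)
noncomputable def c1acc2Qd : ℕ := nat_lit 0x14e4b63c0309d008b6002a9c622400
noncomputable def c1acc2Q (u : ℕ) : ℕ := Nat.land (Nat.shiftRight c1acc2Qd (Nat.mul u (nat_lit 5))) (nat_lit 31)
noncomputable def c1acc2 : H16.Lev := ⟨20, 4, c1acc2D, c1acc2P, c1acc2Q⟩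
noncomputable def c1atn2y8_W : List (List ℕ) := [[nat_lit 7, nat_lit 6, nat_lit 0, nat_lit 7, nat_lit 6, nat_lit 0, nat_lit 3, nat_lit 8, nat_lit 1, nat_lit 6, nat_lit 9, nat_lit 8, nat_lit 0, nat_lit 10, nat_lit 9, nat_lit 8, nat_lit 2, nat_lit 3, nat_lit 5, nat_lit 7, nat_lit 9]]
noncomputable def c1atn2y8_P : ℕ → ℕ → ℕ := wdsP H15.MM24.P c1atn2y8_W
noncomputable def c1atr3k_W : List (List ℕ) := [[nat_lit 4, nat_lit 6, nat_lit 5, nat_lit 7, nat_lit 6, nat_lit 3, nat_lit 8, nat_lit 9, nat_lit 10, nat_lit 9, nat_lit 8, nat_lit 1, nat_lit 2, nat_lit 6, nat_lit 5],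
  [nat_lit 6, nat_lit 2, nat_lit 6, nat_lit 0, nat_lit 7, nat_lit 6, nat_lit 3, nat_lit 8, nat_lit 9, nat_lit 10, nat_lit 9, nat_lit 8, nat_lit 1, nat_lit 3],
  [nat_lit 1, nat_lit 2, nat_lit 5, nat_lit 6, nat_lit 0, nat_lit 7, nat_lit 6, nat_lit 5]]
noncomputable def c1atr3k_P : ℕ → ℕ → ℕ := wdsP H15.MM24.P c1atr3k_W
noncomputable def c1atn3Fd : ℕ := nat_lit 0x734e7539692b4ca52d2924501
noncomputable def c1atn3F (u : ℕ) : ℕ := Nat.land (Nat.shiftRight c1atn3Fd (Nat.mul u (nat_lit 5))) (nat_lit 31)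
noncomputable def c1atn3 : Nd := ⟨c1atn3F, (nat_lit 3), (nat_lit 3), [], [((nat_lit 0), []), ((nat_lit 0), [nat_lit 0])], []⟩
noncomputable def c1atn2Fd : ℕ := nat_lit 0x4200
noncomputable def c1atn2F (u : ℕ) : ℕ := Nat.land (Nat.shiftRight c1atn2Fd (Nat.mul u (nat_lit 3))) (nat_lit 7)
noncomputable def c1atn2 : Nd := ⟨c1atn2F, (nat_lit 4), (nat_lit 4), [], [((nat_lit 0), []), ((nat_lit 0), [nat_lit 0])], [((nat_lit 8), c1atn2y8_W)]⟩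
noncomputable def c1acc0Dd : ℕ := nat_lit 0x952d82b52dd2233a70a9b2478a0b14244060e14200
noncomputable def c1acc0D (u : ℕ) : ℕ := Nat.land (Nat.shiftRight c1acc0Dd (Nat.mul u (nat_lit 7))) (nat_lit 127)
noncomputable def c1acc0Pd : ℕ := nat_lit 0x8cc45aa92bb0cc1721b2a31f0b90e0
noncomputable def c1acc0P (u : ℕ) : ℕ := Nat.land (Nat.shiftRight c1acc0Pd (Nat.mul u (nat_lit 5))) (nat_lit 31)
noncomputable def c1acc0Qd : ℕ := nat_lit 0x1be67b22e42ad2684a2a0b68275580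
noncomputable def c1acc0Q (u : ℕ) : ℕ := Nat.land (Nat.shiftRight c1acc0Qd (Nat.mul u (nat_lit 5))) (nat_lit 31)
noncomputable def c1acc0 : H16.Lev := ⟨24, 5, c1acc0D, c1acc0P, c1acc0Q⟩
noncomputable def c1atn4Fd : ℕ := nat_lit 0
noncomputable def c1atn4F (u : ℕ) : ℕ := Nat.land (Nat.shiftRight c1atn4Fd (Nat.mul u (nat_lit 1))) (nat_lit 1)
noncomputable def c1atn4 : Nd := ⟨c1atn4F, (nat_lit 5), (nat_lit 5), [], [((nat_lit 0), [])], []⟩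
noncomputable def c1v_W : List (List ℕ) := [[nat_lit 8, nat_lit 0, nat_lit 9, nat_lit 8],
  [nat_lit 4, nat_lit 6, nat_lit 7, nat_lit 6, nat_lit 5, nat_lit 1, nat_lit 8, nat_lit 1],
  [nat_lit 1, nat_lit 4, nat_lit 8, nat_lit 3, nat_lit 9, nat_lit 8, nat_lit 2, nat_lit 5, nat_lit 9],
  [nat_lit 1, nat_lit 9, nat_lit 6, nat_lit 7, nat_lit 6, nat_lit 1, nat_lit 4, nat_lit 1, nat_lit 8, nat_lit 9],
  [nat_lit 6, nat_lit 0, nat_lit 2, nat_lit 6, nat_lit 8, nat_lit 1, nat_lit 6, nat_lit 9, nat_lit 10, nat_lit 9, nat_lit 8, nat_lit 3],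
  [nat_lit 1, nat_lit 3, nat_lit 6, nat_lit 1, nat_lit 2, nat_lit 8, nat_lit 2, nat_lit 9, nat_lit 10, nat_lit 9, nat_lit 8, nat_lit 1, nat_lit 2, nat_lit 6]]
noncomputable def c1v_P : ℕ → ℕ → ℕ := wdsP H15.MM24.P c1v_W
noncomputable def c1cth_W : List (List ℕ) := [[nat_lit 1, nat_lit 2, nat_lit 3, nat_lit 6, nat_lit 0, nat_lit 3, nat_lit 7, nat_lit 6, nat_lit 0, nat_lit 8, nat_lit 9, nat_lit 10, nat_lit 9, nat_lit 8, nat_lit 1, nat_lit 3],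
  [nat_lit 6, nat_lit 1, nat_lit 7, nat_lit 6, nat_lit 0, nat_lit 3, nat_lit 8, nat_lit 10, nat_lit 9, nat_lit 8, nat_lit 0, nat_lit 3, nat_lit 10],
  [nat_lit 7, nat_lit 0, nat_lit 5, nat_lit 6, nat_lit 1, nat_lit 8, nat_lit 9, nat_lit 10, nat_lit 9, nat_lit 8, nat_lit 1, nat_lit 6, nat_lit 5],
  [nat_lit 2, nat_lit 3, nat_lit 6, nat_lit 0, nat_lit 3, nat_lit 7, nat_lit 6, nat_lit 0, nat_lit 8, nat_lit 9, nat_lit 10, nat_lit 9, nat_lit 8, nat_lit 3],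
  [nat_lit 1, nat_lit 3, nat_lit 6, nat_lit 3, nat_lit 8, nat_lit 9, nat_lit 10, nat_lit 9, nat_lit 8, nat_lit 2],
  [nat_lit 1, nat_lit 2, nat_lit 3, nat_lit 6, nat_lit 2, nat_lit 6, nat_lit 7, nat_lit 6, nat_lit 0, nat_lit 1, nat_lit 8, nat_lit 1, nat_lit 3],
  [nat_lit 6],
  [nat_lit 5, nat_lit 6, nat_lit 0, nat_lit 7, nat_lit 6, nat_lit 3, nat_lit 4, nat_lit 8, nat_lit 1, nat_lit 7, nat_lit 0],
  [nat_lit 0],
  [nat_lit 1],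
  [nat_lit 2],
  [nat_lit 3],
  [nat_lit 4],
  [nat_lit 5],
  [nat_lit 7],
  [nat_lit 8],
  [nat_lit 9],
  [nat_lit 10]]
noncomputable def c1cth_P : ℕ → ℕ → ℕ := wdsP H15.MM24.P c1cth_W
noncomputable def c1ctl0Dd : ℕ := nat_lit 0x2fd28f0cc5d260c8a829210a0401f8f84e170c8984a28108442000
noncomputable def c1ctl0D (u : ℕ) : ℕ := Nat.land (Nat.shiftRight c1ctl0Dd (Nat.mul u (nat_lit 9))) (nat_lit 511)
noncomputable def c1ctl0Pd : ℕ := nat_lit 0x10e2e9d156419ab790f58153265c20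
noncomputable def c1ctl0P (u : ℕ) : ℕ := Nat.land (Nat.shiftRight c1ctl0Pd (Nat.mul u (nat_lit 5))) (nat_lit 31)
noncomputable def c1ctl0Qd : ℕ := nat_lit 0x14112992a75d1a3644af4b8cab5c20
noncomputable def c1ctl0Q (u : ℕ) : ℕ := Nat.land (Nat.shiftRight c1ctl0Qd (Nat.mul u (nat_lit 5))) (nat_lit 31)
noncomputable def c1ctl0 : H16.Lev := ⟨24, 18, c1ctl0D, c1ctl0P, c1ctl0Q⟩
noncomputable def c1ctl1Dd : ℕ := nat_lit 0x151354e6d6c65a3b1d2a1b1a461926160e0c0b0a090800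
noncomputable def c1ctl1D (u : ℕ) : ℕ := Nat.land (Nat.shiftRight c1ctl1Dd (Nat.mul u (nat_lit 8))) (nat_lit 255)
noncomputable def c1ctl1Pd : ℕ := nat_lit 0x457195ccad12f690f13597392a08
noncomputable def c1ctl1P (u : ℕ) : ℕ := Nat.land (Nat.shiftRight c1ctl1Pd (Nat.mul u (nat_lit 5))) (nat_lit 31)
noncomputable def c1ctl1Qd : ℕ := nat_lit 0xa19ee20d0164570289a049e4a9d6c0
noncomputable def c1ctl1Q (u : ℕ) : ℕ := Nat.land (Nat.shiftRight c1ctl1Qd (Nat.mul u (nat_lit 5))) (nat_lit 31)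
noncomputable def c1ctl1 : H16.Lev := ⟨23, 16, c1ctl1D, c1ctl1P, c1ctl1Q⟩
noncomputable def c1ctl2Dd : ℕ := nat_lit 0x37fe6ab59344e60d9a3271b2e4c54b941a38380
noncomputable def c1ctl2D (u : ℕ) : ℕ := Nat.land (Nat.shiftRight c1ctl2Dd (Nat.mul u (nat_lit 7))) (nat_lit 127)
noncomputable def c1ctl2Pd : ℕ := nat_lit 0x331424721ad41dcad8a6aa5b9ec
noncomputable def c1ctl2P (u : ℕ) : ℕ := Nat.land (Nat.shiftRight c1ctl2Pd (Nat.mul u (nat_lit 5))) (nat_lit 31)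
noncomputable def c1ctl2Qd : ℕ := nat_lit 0x534aca44f208900190c08392f5cea0
noncomputable def c1ctl2Q (u : ℕ) : ℕ := Nat.land (Nat.shiftRight c1ctl2Qd (Nat.mul u (nat_lit 5))) (nat_lit 31)
noncomputable def c1ctl2 : H16.Lev := ⟨22, 8, c1ctl2D, c1ctl2P, c1ctl2Q⟩
noncomputable def c1ctl3Dd : ℕ := nat_lit 0x832a332b3553232624211a151719131b140c0b0600
noncomputable def c1ctl3D (u : ℕ) : ℕ := Nat.land (Nat.shiftRight c1ctl3Dd (Nat.mul u (nat_lit 8))) (nat_lit 255)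
noncomputable def c1ctl3Pd : ℕ := nat_lit 0x13407428af54924d9aceeb3d51
noncomputable def c1ctl3P (u : ℕ) : ℕ := Nat.land (Nat.shiftRight c1ctl3Pd (Nat.mul u (nat_lit 5))) (nat_lit 31)
noncomputable def c1ctl3Qd : ℕ := nat_lit 0x68d903a41211100305602cdea8ba80
noncomputable def c1ctl3Q (u : ℕ) : ℕ := Nat.land (Nat.shiftRight c1ctl3Qd (Nat.mul u (nat_lit 5))) (nat_lit 31)
noncomputable def c1ctl3 : H16.Lev := ⟨21, 7, c1ctl3D, c1ctl3P, c1ctl3Q⟩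
noncomputable def c1ctl4Dd : ℕ := nat_lit 0xcb1e0c6365540f2838b0d16184880e28280
noncomputable def c1ctl4D (u : ℕ) : ℕ := Nat.land (Nat.shiftRight c1ctl4Dd (Nat.mul u (nat_lit 7))) (nat_lit 127)
noncomputable def c1ctl4Pd : ℕ := nat_lit 0x7a9c595ed3209ab8512638ea1
noncomputable def c1ctl4P (u : ℕ) : ℕ := Nat.land (Nat.shiftRight c1ctl4Pd (Nat.mul u (nat_lit 5))) (nat_lit 31)
noncomputable def c1ctl4Qd : ℕ := nat_lit 0x7342663c079c520448a01920b12800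
noncomputable def c1ctl4Q (u : ℕ) : ℕ := Nat.land (Nat.shiftRight c1ctl4Qd (Nat.mul u (nat_lit 5))) (nat_lit 31)
noncomputable def c1ctl4 : H16.Lev := ⟨20, 6, c1ctl4D, c1ctl4P, c1ctl4Q⟩
noncomputable def c1ctl5Dd : ℕ := nat_lit 0x940
noncomputable def c1ctl5D (u : ℕ) : ℕ := Nat.land (Nat.shiftRight c1ctl5Dd (Nat.mul u (nat_lit 4))) (nat_lit 15)
noncomputable def c1ctl5Pd : ℕ := nat_lit 0xefa
noncomputable def c1ctl5P (u : ℕ) : ℕ := Nat.land (Nat.shiftRight c1ctl5Pd (Nat.mul u (nat_lit 4))) (nat_lit 15)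
noncomputable def c1ctl5Qd : ℕ := nat_lit 0x60000000
noncomputable def c1ctl5Q (u : ℕ) : ℕ := Nat.land (Nat.shiftRight c1ctl5Qd (Nat.mul u (nat_lit 2))) (nat_lit 3)
noncomputable def c1ctl5 : H16.Lev := ⟨3, 5, c1ctl5D, c1ctl5P, c1ctl5Q⟩
noncomputable def c1ctl6Dd : ℕ := nat_lit 0xb206145cc20b1071800c2040
noncomputable def c1ctl6D (u : ℕ) : ℕ := Nat.land (Nat.shiftRight c1ctl6Dd (Nat.mul u (nat_lit 6))) (nat_lit 63)
noncomputable def c1ctl6Pd : ℕ := nat_lit 0x91526b5c93ab56780e82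
noncomputable def c1ctl6P (u : ℕ) : ℕ := Nat.land (Nat.shiftRight c1ctl6Pd (Nat.mul u (nat_lit 5))) (nat_lit 31)
noncomputable def c1ctl6Qd : ℕ := nat_lit 0xab718f03006050d04ce92000
noncomputable def c1ctl6Q (u : ℕ) : ℕ := Nat.land (Nat.shiftRight c1ctl6Qd (Nat.mul u (nat_lit 4))) (nat_lit 15)
noncomputable def c1ctl6 : H16.Lev := ⟨16, 4, c1ctl6D, c1ctl6P, c1ctl6Q⟩
noncomputable def c1ce_W : List (List ℕ) := [[nat_lit 2, nat_lit 3, nat_lit 6, nat_lit 0, nat_lit 3, nat_lit 7, nat_lit 6, nat_lit 0, nat_lit 8, nat_lit 9, nat_lit 10, nat_lit 9, nat_lit 8, nat_lit 3],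
  [nat_lit 0, nat_lit 1, nat_lit 2, nat_lit 6, nat_lit 0, nat_lit 3, nat_lit 7, nat_lit 6, nat_lit 0, nat_lit 8, nat_lit 9, nat_lit 10, nat_lit 9, nat_lit 8, nat_lit 0, nat_lit 1],
  [nat_lit 4, nat_lit 6, nat_lit 7, nat_lit 6, nat_lit 5, nat_lit 1, nat_lit 8, nat_lit 1],
  [nat_lit 1, nat_lit 3, nat_lit 6, nat_lit 1, nat_lit 2, nat_lit 8, nat_lit 2, nat_lit 9, nat_lit 10, nat_lit 9, nat_lit 8, nat_lit 1, nat_lit 2, nat_lit 6],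
  [nat_lit 3, nat_lit 6, nat_lit 8, nat_lit 0, nat_lit 3, nat_lit 6, nat_lit 9, nat_lit 8, nat_lit 1, nat_lit 3, nat_lit 10, nat_lit 9, nat_lit 8, nat_lit 3],
  [nat_lit 9, nat_lit 3, nat_lit 4, nat_lit 7, nat_lit 6, nat_lit 0, nat_lit 3, nat_lit 8, nat_lit 1, nat_lit 6, nat_lit 9, nat_lit 7]]
noncomputable def c1ce_P : ℕ → ℕ → ℕ := wdsP H15.MM24.P c1ce_W
noncomputable def c1cc6Dd : ℕ := nat_lit 0xd0
noncomputable def c1cc6D (u : ℕ) : ℕ := Nat.land (Nat.shiftRight c1cc6Dd (Nat.mul u (nat_lit 2))) (nat_lit 3)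
noncomputable def c1cc6Pd : ℕ := nat_lit 0x29202
noncomputable def c1cc6P (u : ℕ) : ℕ := Nat.land (Nat.shiftRight c1cc6Pd (Nat.mul u (nat_lit 5))) (nat_lit 31)
noncomputable def c1cc6Qd : ℕ := nat_lit 0x100000e00
noncomputable def c1cc6Q (u : ℕ) : ℕ := Nat.land (Nat.shiftRight c1cc6Qd (Nat.mul u (nat_lit 2))) (nat_lit 3)
noncomputable def c1cc6 : H16.Lev := ⟨4, 2, c1cc6D, c1cc6P, c1cc6Q⟩
noncomputable def c1ctn0Fd : ℕ := nat_lit 0xa2b54268b048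
noncomputable def c1ctn0F (u : ℕ) : ℕ := Nat.land (Nat.shiftRight c1ctn0Fd (Nat.mul u (nat_lit 3))) (nat_lit 7)
noncomputable def c1ctn0 : Nd := ⟨c1ctn0F, (nat_lit 2), (nat_lit 2), [[nat_lit 0],
  [nat_lit 1]], [((nat_lit 0), [])], []⟩
noncomputable def c1cc4Dd : ℕ := nat_lit 0xed0
noncomputable def c1cc4D (u : ℕ) : ℕ := Nat.land (Nat.shiftRight c1cc4Dd (Nat.mul u (nat_lit 3))) (nat_lit 7)
noncomputable def c1cc4Pd : ℕ := nat_lit 0xaef1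
noncomputable def c1cc4P (u : ℕ) : ℕ := Nat.land (Nat.shiftRight c1cc4Pd (Nat.mul u (nat_lit 4))) (nat_lit 15)
noncomputable def c1cc4Qd : ℕ := nat_lit 0x60300000
noncomputable def c1cc4Q (u : ℕ) : ℕ := Nat.land (Nat.shiftRight c1cc4Qd (Nat.mul u (nat_lit 2))) (nat_lit 3)
noncomputable def c1cc4 : H16.Lev := ⟨4, 4, c1cc4D, c1cc4P, c1cc4Q⟩
noncomputable def c1ctn1Fd : ℕ := nat_lit 0x54764968516415110
noncomputable def c1ctn1F (u : ℕ) : ℕ := Nat.land (Nat.shiftRight c1ctn1Fd (Nat.mul u (nat_lit 4))) (nat_lit 15)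
noncomputable def c1ctn1 : Nd := ⟨c1ctn1F, (nat_lit 4), (nat_lit 4), [[nat_lit 0],
  [nat_lit 3]], [((nat_lit 0), [])], []⟩
noncomputable def c1cc0Dd : ℕ := nat_lit 0xa450
noncomputable def c1cc0D (u : ℕ) : ℕ := Nat.land (Nat.shiftRight c1cc0Dd (Nat.mul u (nat_lit 4))) (nat_lit 15)
noncomputable def c1cc0Pd : ℕ := nat_lit 0x62220
noncomputable def c1cc0P (u : ℕ) : ℕ := Nat.land (Nat.shiftRight c1cc0Pd (Nat.mul u (nat_lit 5))) (nat_lit 31)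
noncomputable def c1cc0Qd : ℕ := nat_lit 0x403020000
noncomputable def c1cc0Q (u : ℕ) : ℕ := Nat.land (Nat.shiftRight c1cc0Qd (Nat.mul u (nat_lit 2))) (nat_lit 3)
noncomputable def c1cc0 : H16.Lev := ⟨4, 6, c1cc0D, c1cc0P, c1cc0Q⟩
noncomputable def c1ctn2Fd : ℕ := nat_lit 0xb9097cf70688886671110110
noncomputable def c1ctn2F (u : ℕ) : ℕ := Nat.land (Nat.shiftRight c1ctn2Fd (Nat.mul u (nat_lit 4))) (nat_lit 15)
noncomputable def c1ctn2 : Nd := ⟨c1ctn2F, (nat_lit 6), (nat_lit 6), [[nat_lit 1],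
  [nat_lit 0]], [((nat_lit 0), [])], []⟩
noncomputable def c1nW : List (List (List ℕ)) := [[[nat_lit 0, nat_lit 2, nat_lit 3],
  [nat_lit 0, nat_lit 3, nat_lit 5],
  [nat_lit 1, nat_lit 3],
  [nat_lit 0, nat_lit 1, nat_lit 2, nat_lit 3, nat_lit 4, nat_lit 5],
  [nat_lit 1],
  [nat_lit 0, nat_lit 3]], [[nat_lit 0, nat_lit 2, nat_lit 3],
  [nat_lit 0, nat_lit 3, nat_lit 5],
  [nat_lit 1, nat_lit 3],
  [nat_lit 0, nat_lit 1, nat_lit 2, nat_lit 3, nat_lit 4, nat_lit 5],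
  [nat_lit 1],
  [nat_lit 0, nat_lit 3]], [[nat_lit 0],
  [nat_lit 1],
  [nat_lit 2],
  [nat_lit 3],
  [nat_lit 4],
  [nat_lit 5]], [[nat_lit 1, nat_lit 3, nat_lit 4],
  [nat_lit 0, nat_lit 1, nat_lit 3, nat_lit 5],
  [nat_lit 0, nat_lit 2, nat_lit 3, nat_lit 5],
  [nat_lit 3],
  [nat_lit 1, nat_lit 5],
  [nat_lit 0, nat_lit 1, nat_lit 3, nat_lit 4, nat_lit 5]], [[nat_lit 0, nat_lit 3, nat_lit 4],
  [nat_lit 0, nat_lit 3],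
  [nat_lit 0, nat_lit 1, nat_lit 3, nat_lit 4, nat_lit 5],
  [nat_lit 0, nat_lit 1, nat_lit 3, nat_lit 4],
  [nat_lit 0, nat_lit 1],
  [nat_lit 2, nat_lit 3]]]

theorem md_b : ltAll 24 H15.MM24.B = 0 ∧ 244823040 ≠ 0 := by decide +kernel
theorem p2t_lt : H16.allL (ltAll 11) p2t_W = true := by decide +kernel
theorem p2_r_a : allZ2 (resEnt p2t_P p2P p2E p2I (nat_lit 24) (nat_lit 16)) (nat_lit 10) (nat_lit 16) = true := by decide +kernel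
theorem p2_b : neL H15.MM24.B (p2B.map p2E) = 0 ∧ ltAll 16 p2B = 0 := by decide +kernel
theorem p2_p : allZ2 (pcEnt p2P (nat_lit 2) p2B p2C) 10 10 = true := by decide +kernel
theorem p2_e : H16.allL (ltAll 10) p2e = true := by decide +kernel
theorem p2l0_e_0 : allZ (dent p2l0 (wdsP p2P p2e) (nat_lit 16)) (nat_lit 0) (nat_lit 15) = true := by decide +kernel
theorem p2l0_h : 0 < p2l0.n ∧ 0 < p2l0.K ∧ p2l0.Pt 0 < 16 ∧ p2l0.Q (p2l0.Pt 0) = 0 := by decide +kernel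
theorem p2l1_e_0 : allZ (dent p2l1 (wdsP p2P p2e) (nat_lit 16)) (nat_lit 0) (nat_lit 7) = true := by decide +kernel
theorem p2l1_h : 0 < p2l1.n ∧ 0 < p2l1.K ∧ p2l1.Pt 0 < 16 ∧ p2l1.Q (p2l1.Pt 0) = 0 := by decide +kernel
theorem p2l2_e_0 : allZ (dent p2l2 (wdsP p2P p2e) (nat_lit 16)) (nat_lit 0) (nat_lit 3) = true := by decide +kernel
theorem p2l2_h : 0 < p2l2.n ∧ 0 < p2l2.K ∧ p2l2.Pt 0 < 16 ∧ p2l2.Q (p2l2.Pt 0) = 0 := by decide +kernel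
theorem p2l3_e_0 : allZ (dent p2l3 (wdsP p2P p2e) (nat_lit 16)) (nat_lit 0) (nat_lit 1) = true := by decide +kernel
theorem p2l3_h : 0 < p2l3.n ∧ 0 < p2l3.K ∧ p2l3.Pt 0 < 16 ∧ p2l3.Q (p2l3.Pt 0) = 0 := by decide +kernel
theorem p2_f3 : (Nat.ble p2l3.K 9 && Nat.ble (topK []) p2l3.K && fixLetters (wdsP p2P p2e) (topK []) (p2l3.Pt 0)) = true := by decide +kernel
theorem p2_f2 : (Nat.ble p2l2.K 9 && Nat.ble (topK [p2l3]) p2l2.K && fixLetters (wdsP p2P p2e) (topK [p2l3]) (p2l2.Pt 0)) = true := by decide +kernel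
theorem p2_f1 : (Nat.ble p2l1.K 9 && Nat.ble (topK [p2l2, p2l3]) p2l1.K && fixLetters (wdsP p2P p2e) (topK [p2l2, p2l3]) (p2l1.Pt 0)) = true := by decide +kernel
theorem p2_f0 : (Nat.ble p2l0.K 9 && Nat.ble (topK [p2l1, p2l2, p2l3]) p2l0.K && fixLetters (wdsP p2P p2e) (topK [p2l1, p2l2, p2l3]) (p2l0.Pt 0)) = true := by decide +kernel
theorem p2_c : chainCard [p2l0, p2l1, p2l2, p2l3] = 2 ^ 10 ∧ ¬ 2 ^ (10 + 1) ∣ 244823040 := by decide +kernel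
theorem covr_lt : H16.allL (ltAll 11) covr_W = true := by decide +kernel
theorem cov_c0 : (Nat.ble 10 10 && Nat.beq (ltAll 10 []) 0 && Nat.beq (covT0.chk H15.MM24.P p2P covr_P p2E 11 10 2 2 2 p2B 10 [] 0) 0) = true := by decide +kernel
theorem c0ax_lt : H16.allL (ltAll 11) c0ax_W = true := by decide +kernel
theorem c0ath_lt : H16.allL (ltAll 11) c0ath_W = true := by decide +kernel
theorem c0atl0_e_0 : allZ (dent c0atl0 c0ath_P (nat_lit 24)) (nat_lit 0) (nat_lit 23) = true := by decide +kernel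
theorem c0atl0_h : 0 < c0atl0.n ∧ 0 < c0atl0.K ∧ c0atl0.Pt 0 < 24 ∧ c0atl0.Q (c0atl0.Pt 0) = 0 := by decide +kernel
theorem c0atl1_e_0 : allZ (dent c0atl1 c0ath_P (nat_lit 24)) (nat_lit 0) (nat_lit 22) = true := by decide +kernel
theorem c0atl1_h : 0 < c0atl1.n ∧ 0 < c0atl1.K ∧ c0atl1.Pt 0 < 24 ∧ c0atl1.Q (c0atl1.Pt 0) = 0 := by decide +kernel
theorem c0atl2_e_0 : allZ (dent c0atl2 c0ath_P (nat_lit 24)) (nat_lit 0) (nat_lit 21) = true := by decide +kernel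
theorem c0atl2_h : 0 < c0atl2.n ∧ 0 < c0atl2.K ∧ c0atl2.Pt 0 < 24 ∧ c0atl2.Q (c0atl2.Pt 0) = 0 := by decide +kernel
theorem c0atl3_e_0 : allZ (dent c0atl3 c0ath_P (nat_lit 24)) (nat_lit 0) (nat_lit 20) = true := by decide +kernel
theorem c0atl3_h : 0 < c0atl3.n ∧ 0 < c0atl3.K ∧ c0atl3.Pt 0 < 24 ∧ c0atl3.Q (c0atl3.Pt 0) = 0 := by decide +kernel
theorem c0atl4_e_0 : allZ (dent c0atl4 c0ath_P (nat_lit 24)) (nat_lit 0) (nat_lit 19) = true := by decide +kernel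
theorem c0atl4_h : 0 < c0atl4.n ∧ 0 < c0atl4.K ∧ c0atl4.Pt 0 < 24 ∧ c0atl4.Q (c0atl4.Pt 0) = 0 := by decide +kernel
theorem c0atl5_e_0 : allZ (dent c0atl5 c0ath_P (nat_lit 24)) (nat_lit 0) (nat_lit 2) = true := by decide +kernel
theorem c0atl5_h : 0 < c0atl5.n ∧ 0 < c0atl5.K ∧ c0atl5.Pt 0 < 24 ∧ c0atl5.Q (c0atl5.Pt 0) = 0 := by decide +kernel
theorem c0atl6_e_0 : allZ (dent c0atl6 c0ath_P (nat_lit 24)) (nat_lit 0) (nat_lit 15) = true := by decide +kernel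
theorem c0atl6_h : 0 < c0atl6.n ∧ 0 < c0atl6.K ∧ c0atl6.Pt 0 < 24 ∧ c0atl6.Q (c0atl6.Pt 0) = 0 := by decide +kernel
theorem c0at_f6 : (Nat.ble c0atl6.K 18 && Nat.ble (topK []) c0atl6.K && fixLetters c0ath_P (topK []) (c0atl6.Pt 0)) = true := by decide +kernel
theorem c0at_f5 : (Nat.ble c0atl5.K 18 && Nat.ble (topK [c0atl6]) c0atl5.K && fixLetters c0ath_P (topK [c0atl6]) (c0atl5.Pt 0)) = true := by decide +kernel
theorem c0at_f4 : (Nat.ble c0atl4.K 18 && Nat.ble (topK [c0atl5, c0atl6]) c0atl4.K && fixLetters c0ath_P (topK [c0atl5, c0atl6]) (c0atl4.Pt 0)) = true := by decide +kernel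
theorem c0at_f3 : (Nat.ble c0atl3.K 18 && Nat.ble (topK [c0atl4, c0atl5, c0atl6]) c0atl3.K && fixLetters c0ath_P (topK [c0atl4, c0atl5, c0atl6]) (c0atl3.Pt 0)) = true := by decide +kernel
theorem c0at_f2 : (Nat.ble c0atl2.K 18 && Nat.ble (topK [c0atl3, c0atl4, c0atl5, c0atl6]) c0atl2.K && fixLetters c0ath_P (topK [c0atl3, c0atl4, c0atl5, c0atl6]) (c0atl2.Pt 0)) = true := by decide +kernel
theorem c0at_f1 : (Nat.ble c0atl1.K 18 && Nat.ble (topK [c0atl2, c0atl3, c0atl4, c0atl5, c0atl6]) c0atl1.K && fixLetters c0ath_P (topK [c0atl2, c0atl3, c0atl4, c0atl5, c0atl6]) (c0atl1.Pt 0)) = true := by decide +kernel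
theorem c0at_f0 : (Nat.ble c0atl0.K 18 && Nat.ble (topK [c0atl1, c0atl2, c0atl3, c0atl4, c0atl5, c0atl6]) c0atl0.K && fixLetters c0ath_P (topK [c0atl1, c0atl2, c0atl3, c0atl4, c0atl5, c0atl6]) (c0atl0.Pt 0)) = true := by decide +kernel
theorem c0at_c : chainCard [c0atl0, c0atl1, c0atl2, c0atl3, c0atl4, c0atl5, c0atl6] = 244823040 := by decide +kernel
theorem c0ace_lt : H16.allL (ltAll 11) c0ace_W = true := by decide +kernel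
theorem c0acc6_e_0 : allZ (dent c0acc6 c0ace_P (nat_lit 24)) (nat_lit 0) (nat_lit 7) = true := by decide +kernel
theorem c0acc6_h : 0 < c0acc6.n ∧ 0 < c0acc6.K ∧ c0acc6.Pt 0 < 24 ∧ c0acc6.Q (c0acc6.Pt 0) = 0 := by decide +kernel
theorem c0atn0_0 : (Nat.ble c0atl6.K 18 && Nat.beq (ltAll 24 [c0atl5.Pt 0, c0atl4.Pt 0, c0atl3.Pt 0, c0atl2.Pt 0, c0atl1.Pt 0, c0atl0.Pt 0]) 0 && kChk c0ace_P c0ax_P c0atn0.Kn 1 H15.MM24.B [c0atl5.Pt 0, c0atl4.Pt 0, c0atl3.Pt 0, c0atl2.Pt 0, c0atl1.Pt 0, c0atl0.Pt 0] && H16.allL (ltAll 1) c0atn0.pre && planOK c0ath_P c0ax_P 1 (c0atl6.Pt 0) c0atn0.plan [c0atl6]) = true := by decide +kernel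
theorem c0atn0_1_0 : allZ (c0atn0.ent H15.MM24.P c0ath_P c0ax_P c0ax_P c0ace_P (nat_lit 11) (nat_lit 1) H15.MM24.B c0atl6 [] (memO c0acc6)) (nat_lit 0) (nat_lit 16) = true := by decide +kernel
theorem c0ac_f6 : (Nat.ble c0acc6.K 7 && Nat.ble (topK []) c0acc6.K && Nat.beq (c0acc6.Pt 0) (c0atl6.Pt 0) && Nat.beq (ltAll 24 [c0atl5.Pt 0, c0atl4.Pt 0, c0atl3.Pt 0, c0atl2.Pt 0, c0atl1.Pt 0, c0atl0.Pt 0]) 0 && kChk c0ace_P c0ax_P c0acc6.K 1 H15.MM24.B [c0atl5.Pt 0, c0atl4.Pt 0, c0atl3.Pt 0, c0atl2.Pt 0, c0atl1.Pt 0, c0atl0.Pt 0]) = true := by decide +kernel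
theorem c0ac_f5 : (Nat.ble c0atl5.K 18 && Nat.blt (nat_lit 2) 24 && fixLetters c0ath_P c0atl5.K (nat_lit 2) && Nat.beq (ltAll 1 [nat_lit 0]) 0 && Nat.beq (apW c0ax_P [nat_lit 0] (nat_lit 2)) (c0atl5.Pt 0)) = true := by decide +kernel
theorem c0acc4_e_0 : allZ (dent c0acc4 c0ace_P (nat_lit 24)) (nat_lit 0) (nat_lit 11) = true := by decide +kernel
theorem c0acc4_h : 0 < c0acc4.n ∧ 0 < c0acc4.K ∧ c0acc4.Pt 0 < 24 ∧ c0acc4.Q (c0acc4.Pt 0) = 0 := by decide +kernel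
theorem c0atn1_0 : (Nat.ble c0atl4.K 18 && Nat.beq (ltAll 24 [c0atl3.Pt 0, c0atl2.Pt 0, c0atl1.Pt 0, c0atl0.Pt 0]) 0 && kChk c0ace_P c0ax_P c0atn1.Kn 1 H15.MM24.B [c0atl3.Pt 0, c0atl2.Pt 0, c0atl1.Pt 0, c0atl0.Pt 0] && H16.allL (ltAll 1) c0atn1.pre && planOK c0ath_P c0ax_P 1 (c0atl4.Pt 0) c0atn1.plan [c0atl4, c0atl5, c0atl6]) = true := by decide +kernel
theorem c0atn1_1_0 : allZ (c0atn1.ent H15.MM24.P c0ath_P c0ax_P c0ax_P c0ace_P (nat_lit 11) (nat_lit 1) H15.MM24.B c0atl4 [c0atl5, c0atl6] (memO c0acc4)) (nat_lit 0) (nat_lit 20) = true := by decide +kernel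
theorem c0ac_f4 : (Nat.ble c0acc4.K 7 && Nat.ble (topK [c0acc6]) c0acc4.K && Nat.beq (c0acc4.Pt 0) (c0atl4.Pt 0) && Nat.beq (ltAll 24 [c0atl3.Pt 0, c0atl2.Pt 0, c0atl1.Pt 0, c0atl0.Pt 0]) 0 && kChk c0ace_P c0ax_P c0acc4.K 1 H15.MM24.B [c0atl3.Pt 0, c0atl2.Pt 0, c0atl1.Pt 0, c0atl0.Pt 0]) = true := by decide +kernel
theorem c0ac_f3 : (Nat.ble c0atl3.K 18 && Nat.blt (nat_lit 1) 24 && fixLetters c0ath_P c0atl3.K (nat_lit 1) && Nat.beq (ltAll 1 [nat_lit 0]) 0 && Nat.beq (apW c0ax_P [nat_lit 0] (nat_lit 1)) (c0atl3.Pt 0)) = true := by decide +kernel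
theorem c0acc2_e_0 : allZ (dent c0acc2 c0ace_P (nat_lit 24)) (nat_lit 0) (nat_lit 13) = true := by decide +kernel
theorem c0acc2_h : 0 < c0acc2.n ∧ 0 < c0acc2.K ∧ c0acc2.Pt 0 < 24 ∧ c0acc2.Q (c0acc2.Pt 0) = 0 := by decide +kernel
theorem c0atn2_0 : (Nat.ble c0atl2.K 18 && Nat.beq (ltAll 24 [c0atl1.Pt 0, c0atl0.Pt 0]) 0 && kChk c0ace_P c0ax_P c0atn2.Kn 1 H15.MM24.B [c0atl1.Pt 0, c0atl0.Pt 0] && H16.allL (ltAll 1) c0atn2.pre && planOK c0ath_P c0ax_P 1 (c0atl2.Pt 0) c0atn2.plan [c0atl2, c0atl3, c0atl4, c0atl5, c0atl6]) = true := by decide +kernel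
theorem c0atn2_1_0 : allZ (c0atn2.ent H15.MM24.P c0ath_P c0ax_P c0ax_P c0ace_P (nat_lit 11) (nat_lit 1) H15.MM24.B c0atl2 [c0atl3, c0atl4, c0atl5, c0atl6] (memO c0acc2)) (nat_lit 0) (nat_lit 22) = true := by decide +kernel
theorem c0ac_f2 : (Nat.ble c0acc2.K 7 && Nat.ble (topK [c0acc4, c0acc6]) c0acc2.K && Nat.beq (c0acc2.Pt 0) (c0atl2.Pt 0) && Nat.beq (ltAll 24 [c0atl1.Pt 0, c0atl0.Pt 0]) 0 && kChk c0ace_P c0ax_P c0acc2.K 1 H15.MM24.B [c0atl1.Pt 0, c0atl0.Pt 0]) = true := by decide +kernel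
theorem c0ac_f1 : (Nat.ble c0atl1.K 18 && Nat.blt (nat_lit 0) 24 && fixLetters c0ath_P c0atl1.K (nat_lit 0) && Nat.beq (ltAll 1 [nat_lit 0]) 0 && Nat.beq (apW c0ax_P [nat_lit 0] (nat_lit 0)) (c0atl1.Pt 0)) = true := by decide +kernel
theorem c0acc0_e_0 : allZ (dent c0acc0 c0ace_P (nat_lit 24)) (nat_lit 0) (nat_lit 15) = true := by decide +kernel
theorem c0acc0_h : 0 < c0acc0.n ∧ 0 < c0acc0.K ∧ c0acc0.Pt 0 < 24 ∧ c0acc0.Q (c0acc0.Pt 0) = 0 := by decide +kernel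
theorem c0atn3_0 : (Nat.ble c0atl0.K 18 && Nat.beq (ltAll 24 []) 0 && kChk c0ace_P c0ax_P c0atn3.Kn 1 H15.MM24.B [] && H16.allL (ltAll 1) c0atn3.pre && planOK c0ath_P c0ax_P 1 (c0atl0.Pt 0) c0atn3.plan [c0atl0, c0atl1, c0atl2, c0atl3, c0atl4, c0atl5, c0atl6]) = true := by decide +kernel
theorem c0atn3_1_0 : allZ (c0atn3.ent H15.MM24.P c0ath_P c0ax_P c0ax_P c0ace_P (nat_lit 11) (nat_lit 1) H15.MM24.B c0atl0 [c0atl1, c0atl2, c0atl3, c0atl4, c0atl5, c0atl6] (memO c0acc0)) (nat_lit 0) (nat_lit 24) = true := by decide +kernel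
theorem c0ac_f0 : (Nat.ble c0acc0.K 7 && Nat.ble (topK [c0acc2, c0acc4, c0acc6]) c0acc0.K && Nat.beq (c0acc0.Pt 0) (c0atl0.Pt 0) && Nat.beq (ltAll 24 []) 0 && kChk c0ace_P c0ax_P c0acc0.K 1 H15.MM24.B []) = true := by decide +kernel
theorem c0ac_c : chainCard [c0acc0, c0acc2, c0acc4, c0acc6] = 21504 ∧ topK [c0acc0, c0acc2, c0acc4, c0acc6] = 7 := by decide +kernel
theorem c0v_lt : H16.allL (ltAll 11) c0v_W = true := by decide +kernel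
theorem c0cth_lt : H16.allL (ltAll 11) c0cth_W = true := by decide +kernel
theorem c0ctl0_e_0 : allZ (dent c0ctl0 c0cth_P (nat_lit 24)) (nat_lit 0) (nat_lit 23) = true := by decide +kernel
theorem c0ctl0_h : 0 < c0ctl0.n ∧ 0 < c0ctl0.K ∧ c0ctl0.Pt 0 < 24 ∧ c0ctl0.Q (c0ctl0.Pt 0) = 0 := by decide +kernel
theorem c0ctl1_e_0 : allZ (dent c0ctl1 c0cth_P (nat_lit 24)) (nat_lit 0) (nat_lit 22) = true := by decide +kernel
theorem c0ctl1_h : 0 < c0ctl1.n ∧ 0 < c0ctl1.K ∧ c0ctl1.Pt 0 < 24 ∧ c0ctl1.Q (c0ctl1.Pt 0) = 0 := by decide +kernel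
theorem c0ctl2_e_0 : allZ (dent c0ctl2 c0cth_P (nat_lit 24)) (nat_lit 0) (nat_lit 21) = true := by decide +kernel
theorem c0ctl2_h : 0 < c0ctl2.n ∧ 0 < c0ctl2.K ∧ c0ctl2.Pt 0 < 24 ∧ c0ctl2.Q (c0ctl2.Pt 0) = 0 := by decide +kernel
theorem c0ctl3_e_0 : allZ (dent c0ctl3 c0cth_P (nat_lit 24)) (nat_lit 0) (nat_lit 20) = true := by decide +kernel
theorem c0ctl3_h : 0 < c0ctl3.n ∧ 0 < c0ctl3.K ∧ c0ctl3.Pt 0 < 24 ∧ c0ctl3.Q (c0ctl3.Pt 0) = 0 := by decide +kernel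
theorem c0ctl4_e_0 : allZ (dent c0ctl4 c0cth_P (nat_lit 24)) (nat_lit 0) (nat_lit 19) = true := by decide +kernel
theorem c0ctl4_h : 0 < c0ctl4.n ∧ 0 < c0ctl4.K ∧ c0ctl4.Pt 0 < 24 ∧ c0ctl4.Q (c0ctl4.Pt 0) = 0 := by decide +kernel
theorem c0ctl5_e_0 : allZ (dent c0ctl5 c0cth_P (nat_lit 24)) (nat_lit 0) (nat_lit 2) = true := by decide +kernel
theorem c0ctl5_h : 0 < c0ctl5.n ∧ 0 < c0ctl5.K ∧ c0ctl5.Pt 0 < 24 ∧ c0ctl5.Q (c0ctl5.Pt 0) = 0 := by decide +kernel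
theorem c0ctl6_e_0 : allZ (dent c0ctl6 c0cth_P (nat_lit 24)) (nat_lit 0) (nat_lit 15) = true := by decide +kernel
theorem c0ctl6_h : 0 < c0ctl6.n ∧ 0 < c0ctl6.K ∧ c0ctl6.Pt 0 < 24 ∧ c0ctl6.Q (c0ctl6.Pt 0) = 0 := by decide +kernel
theorem c0ct_f6 : (Nat.ble c0ctl6.K 21 && Nat.ble (topK []) c0ctl6.K && fixLetters c0cth_P (topK []) (c0ctl6.Pt 0)) = true := by decide +kernel
theorem c0ct_f5 : (Nat.ble c0ctl5.K 21 && Nat.ble (topK [c0ctl6]) c0ctl5.K && fixLetters c0cth_P (topK [c0ctl6]) (c0ctl5.Pt 0)) = true := by decide +kernel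
theorem c0ct_f4 : (Nat.ble c0ctl4.K 21 && Nat.ble (topK [c0ctl5, c0ctl6]) c0ctl4.K && fixLetters c0cth_P (topK [c0ctl5, c0ctl6]) (c0ctl4.Pt 0)) = true := by decide +kernel
theorem c0ct_f3 : (Nat.ble c0ctl3.K 21 && Nat.ble (topK [c0ctl4, c0ctl5, c0ctl6]) c0ctl3.K && fixLetters c0cth_P (topK [c0ctl4, c0ctl5, c0ctl6]) (c0ctl3.Pt 0)) = true := by decide +kernel
theorem c0ct_f2 : (Nat.ble c0ctl2.K 21 && Nat.ble (topK [c0ctl3, c0ctl4, c0ctl5, c0ctl6]) c0ctl2.K && fixLetters c0cth_P (topK [c0ctl3, c0ctl4, c0ctl5, c0ctl6]) (c0ctl2.Pt 0)) = true := by decide +kernel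
theorem c0ct_f1 : (Nat.ble c0ctl1.K 21 && Nat.ble (topK [c0ctl2, c0ctl3, c0ctl4, c0ctl5, c0ctl6]) c0ctl1.K && fixLetters c0cth_P (topK [c0ctl2, c0ctl3, c0ctl4, c0ctl5, c0ctl6]) (c0ctl1.Pt 0)) = true := by decide +kernel
theorem c0ct_f0 : (Nat.ble c0ctl0.K 21 && Nat.ble (topK [c0ctl1, c0ctl2, c0ctl3, c0ctl4, c0ctl5, c0ctl6]) c0ctl0.K && fixLetters c0cth_P (topK [c0ctl1, c0ctl2, c0ctl3, c0ctl4, c0ctl5, c0ctl6]) (c0ctl0.Pt 0)) = true := by decide +kernel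
theorem c0ct_c : chainCard [c0ctl0, c0ctl1, c0ctl2, c0ctl3, c0ctl4, c0ctl5, c0ctl6] = 244823040 := by decide +kernel
theorem c0ce_lt : H16.allL (ltAll 11) c0ce_W = true := by decide +kernel
theorem c0cc6_e_0 : allZ (dent c0cc6 c0ce_P (nat_lit 24)) (nat_lit 0) (nat_lit 1) = true := by decide +kernel
theorem c0cc6_h : 0 < c0cc6.n ∧ 0 < c0cc6.K ∧ c0cc6.Pt 0 < 24 ∧ c0cc6.Q (c0cc6.Pt 0) = 0 := by decide +kernel
theorem c0ctn0_0 : (Nat.ble c0ctl6.K 21 && Nat.beq (ltAll 24 [c0ctl5.Pt 0, c0ctl4.Pt 0, c0ctl3.Pt 0, c0ctl2.Pt 0, c0ctl1.Pt 0, c0ctl0.Pt 0]) 0 && kChk c0ce_P c0v_P c0ctn0.Kn 4 H15.MM24.B [c0ctl5.Pt 0, c0ctl4.Pt 0, c0ctl3.Pt 0, c0ctl2.Pt 0, c0ctl1.Pt 0, c0ctl0.Pt 0] && H16.allL (ltAll 4) c0ctn0.pre && planOK c0cth_P c0v_P 4 (c0ctl6.Pt 0) c0ctn0.plan [c0ctl6]) = true := by decide +kernel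
theorem c0ctn0_1_0 : allZ (c0ctn0.ent H15.MM24.P c0cth_P c0v_P c0v_P c0ce_P (nat_lit 11) (nat_lit 4) H15.MM24.B c0ctl6 [] (memO c0cc6)) (nat_lit 0) (nat_lit 16) = true := by decide +kernel
theorem c0c_f6 : (Nat.ble c0cc6.K 4 && Nat.ble (topK []) c0cc6.K && Nat.beq (c0cc6.Pt 0) (c0ctl6.Pt 0) && Nat.beq (ltAll 24 [c0ctl5.Pt 0, c0ctl4.Pt 0, c0ctl3.Pt 0, c0ctl2.Pt 0, c0ctl1.Pt 0, c0ctl0.Pt 0]) 0 && kChk c0ce_P c0v_P c0cc6.K 4 H15.MM24.B [c0ctl5.Pt 0, c0ctl4.Pt 0, c0ctl3.Pt 0, c0ctl2.Pt 0, c0ctl1.Pt 0, c0ctl0.Pt 0]) = true := by decide +kernel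
theorem c0c_f5 : (Nat.ble c0ctl5.K 21 && Nat.blt (nat_lit 6) 24 && fixLetters c0cth_P c0ctl5.K (nat_lit 6) && Nat.beq (ltAll 4 [nat_lit 0, nat_lit 2]) 0 && Nat.beq (apW c0v_P [nat_lit 0, nat_lit 2] (nat_lit 6)) (c0ctl5.Pt 0)) = true := by decide +kernel
theorem c0c_f4 : (Nat.ble c0ctl4.K 21 && Nat.blt (nat_lit 6) 24 && fixLetters c0cth_P c0ctl4.K (nat_lit 6) && Nat.beq (ltAll 4 [nat_lit 2]) 0 && Nat.beq (apW c0v_P [nat_lit 2] (nat_lit 6)) (c0ctl4.Pt 0)) = true := by decide +kernel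
theorem c0c_f3 : (Nat.ble c0ctl3.K 21 && Nat.blt (nat_lit 6) 24 && fixLetters c0cth_P c0ctl3.K (nat_lit 6) && Nat.beq (ltAll 4 [nat_lit 1]) 0 && Nat.beq (apW c0v_P [nat_lit 1] (nat_lit 6)) (c0ctl3.Pt 0)) = true := by decide +kernel
theorem c0c_f2 : (Nat.ble c0ctl2.K 21 && Nat.blt (nat_lit 6) 24 && fixLetters c0cth_P c0ctl2.K (nat_lit 6) && Nat.beq (ltAll 4 [nat_lit 0]) 0 && Nat.beq (apW c0v_P [nat_lit 0] (nat_lit 6)) (c0ctl2.Pt 0)) = true := by decide +kernel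
theorem c0c_f1 : (Nat.ble c0ctl1.K 21 && Nat.blt (nat_lit 6) 24 && fixLetters c0cth_P c0ctl1.K (nat_lit 6) && Nat.beq (ltAll 4 [nat_lit 3]) 0 && Nat.beq (apW c0v_P [nat_lit 3] (nat_lit 6)) (c0ctl1.Pt 0)) = true := by decide +kernel
theorem c0cc0_e_0 : allZ (dent c0cc0 c0ce_P (nat_lit 24)) (nat_lit 0) (nat_lit 7) = true := by decide +kernel
theorem c0cc0_h : 0 < c0cc0.n ∧ 0 < c0cc0.K ∧ c0cc0.Pt 0 < 24 ∧ c0cc0.Q (c0cc0.Pt 0) = 0 := by decide +kernel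
theorem c0ctn1_0 : (Nat.ble c0ctl0.K 21 && Nat.beq (ltAll 24 []) 0 && kChk c0ce_P c0v_P c0ctn1.Kn 4 H15.MM24.B [] && H16.allL (ltAll 4) c0ctn1.pre && planOK c0cth_P c0v_P 4 (c0ctl0.Pt 0) c0ctn1.plan [c0ctl0, c0ctl1, c0ctl2, c0ctl3, c0ctl4, c0ctl5, c0ctl6]) = true := by decide +kernel
theorem c0ctn1_1_0 : allZ (c0ctn1.ent H15.MM24.P c0cth_P c0v_P c0v_P c0ce_P (nat_lit 11) (nat_lit 4) H15.MM24.B c0ctl0 [c0ctl1, c0ctl2, c0ctl3, c0ctl4, c0ctl5, c0ctl6] (memO c0cc0)) (nat_lit 0) (nat_lit 24) = true := by decide +kernel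
theorem c0c_f0 : (Nat.ble c0cc0.K 4 && Nat.ble (topK [c0cc6]) c0cc0.K && Nat.beq (c0cc0.Pt 0) (c0ctl0.Pt 0) && Nat.beq (ltAll 24 []) 0 && kChk c0ce_P c0v_P c0cc0.K 4 H15.MM24.B []) = true := by decide +kernel
theorem c0c_c : chainCard [c0cc0, c0cc6] = 16 ∧ topK [c0cc0, c0cc6] = 4 := by decide +kernel
theorem c0z_k_0 : allZ (cmEnt c0v_P covr_P (nat_lit 4) H15.MM24.B (nat_lit 0)) (nat_lit 0) (nat_lit 4) = true := by decide +kernel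
theorem c0n_k_a : allZ2 (nrmEnt c0v_P c0ace_P (nat_lit 4) H15.MM24.B c0nW) (nat_lit 7) (nat_lit 4) = true := by decide +kernel
theorem c0m0_k_0 : allZ (cmEnt c0v_P c0v_P (nat_lit 4) H15.MM24.B (nat_lit 0)) (nat_lit 0) (nat_lit 4) = true := by decide +kernel
theorem c0m1_k_0 : allZ (cmEnt c0v_P c0v_P (nat_lit 4) H15.MM24.B (nat_lit 1)) (nat_lit 0) (nat_lit 4) = true := by decide +kernel
theorem c0m2_k_0 : allZ (cmEnt c0v_P c0v_P (nat_lit 4) H15.MM24.B (nat_lit 2)) (nat_lit 0) (nat_lit 4) = true := by decide +kernel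
theorem c0m3_k_0 : allZ (cmEnt c0v_P c0v_P (nat_lit 4) H15.MM24.B (nat_lit 3)) (nat_lit 0) (nat_lit 4) = true := by decide +kernel
theorem c1ax_lt : H16.allL (ltAll 11) c1ax_W = true := by decide +kernel
theorem c1ath_lt : H16.allL (ltAll 11) c1ath_W = true := by decide +kernel
theorem c1atl0_e_0 : allZ (dent c1atl0 c1ath_P (nat_lit 24)) (nat_lit 0) (nat_lit 23) = true := by decide +kernel
theorem c1atl0_h : 0 < c1atl0.n ∧ 0 < c1atl0.K ∧ c1atl0.Pt 0 < 24 ∧ c1atl0.Q (c1atl0.Pt 0) = 0 := by decide +kernel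
theorem c1atl1_e_0 : allZ (dent c1atl1 c1ath_P (nat_lit 24)) (nat_lit 0) (nat_lit 22) = true := by decide +kernel
theorem c1atl1_h : 0 < c1atl1.n ∧ 0 < c1atl1.K ∧ c1atl1.Pt 0 < 24 ∧ c1atl1.Q (c1atl1.Pt 0) = 0 := by decide +kernel
theorem c1atl2_e_0 : allZ (dent c1atl2 c1ath_P (nat_lit 24)) (nat_lit 0) (nat_lit 21) = true := by decide +kernel
theorem c1atl2_h : 0 < c1atl2.n ∧ 0 < c1atl2.K ∧ c1atl2.Pt 0 < 24 ∧ c1atl2.Q (c1atl2.Pt 0) = 0 := by decide +kernel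
theorem c1atl3_e_0 : allZ (dent c1atl3 c1ath_P (nat_lit 24)) (nat_lit 0) (nat_lit 20) = true := by decide +kernel
theorem c1atl3_h : 0 < c1atl3.n ∧ 0 < c1atl3.K ∧ c1atl3.Pt 0 < 24 ∧ c1atl3.Q (c1atl3.Pt 0) = 0 := by decide +kernel
theorem c1atl4_e_0 : allZ (dent c1atl4 c1ath_P (nat_lit 24)) (nat_lit 0) (nat_lit 19) = true := by decide +kernel
theorem c1atl4_h : 0 < c1atl4.n ∧ 0 < c1atl4.K ∧ c1atl4.Pt 0 < 24 ∧ c1atl4.Q (c1atl4.Pt 0) = 0 := by decide +kernel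
theorem c1atl5_e_0 : allZ (dent c1atl5 c1ath_P (nat_lit 24)) (nat_lit 0) (nat_lit 15) = true := by decide +kernel
theorem c1atl5_h : 0 < c1atl5.n ∧ 0 < c1atl5.K ∧ c1atl5.Pt 0 < 24 ∧ c1atl5.Q (c1atl5.Pt 0) = 0 := by decide +kernel
theorem c1atl6_e_0 : allZ (dent c1atl6 c1ath_P (nat_lit 24)) (nat_lit 0) (nat_lit 2) = true := by decide +kernel
theorem c1atl6_h : 0 < c1atl6.n ∧ 0 < c1atl6.K ∧ c1atl6.Pt 0 < 24 ∧ c1atl6.Q (c1atl6.Pt 0) = 0 := by decide +kernel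
theorem c1at_f6 : (Nat.ble c1atl6.K 16 && Nat.ble (topK []) c1atl6.K && fixLetters c1ath_P (topK []) (c1atl6.Pt 0)) = true := by decide +kernel
theorem c1at_f5 : (Nat.ble c1atl5.K 16 && Nat.ble (topK [c1atl6]) c1atl5.K && fixLetters c1ath_P (topK [c1atl6]) (c1atl5.Pt 0)) = true := by decide +kernel
theorem c1at_f4 : (Nat.ble c1atl4.K 16 && Nat.ble (topK [c1atl5, c1atl6]) c1atl4.K && fixLetters c1ath_P (topK [c1atl5, c1atl6]) (c1atl4.Pt 0)) = true := by decide +kernel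
theorem c1at_f3 : (Nat.ble c1atl3.K 16 && Nat.ble (topK [c1atl4, c1atl5, c1atl6]) c1atl3.K && fixLetters c1ath_P (topK [c1atl4, c1atl5, c1atl6]) (c1atl3.Pt 0)) = true := by decide +kernel
theorem c1at_f2 : (Nat.ble c1atl2.K 16 && Nat.ble (topK [c1atl3, c1atl4, c1atl5, c1atl6]) c1atl2.K && fixLetters c1ath_P (topK [c1atl3, c1atl4, c1atl5, c1atl6]) (c1atl2.Pt 0)) = true := by decide +kernel
theorem c1at_f1 : (Nat.ble c1atl1.K 16 && Nat.ble (topK [c1atl2, c1atl3, c1atl4, c1atl5, c1atl6]) c1atl1.K && fixLetters c1ath_P (topK [c1atl2, c1atl3, c1atl4, c1atl5, c1atl6]) (c1atl1.Pt 0)) = true := by decide +kernel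
theorem c1at_f0 : (Nat.ble c1atl0.K 16 && Nat.ble (topK [c1atl1, c1atl2, c1atl3, c1atl4, c1atl5, c1atl6]) c1atl0.K && fixLetters c1ath_P (topK [c1atl1, c1atl2, c1atl3, c1atl4, c1atl5, c1atl6]) (c1atl0.Pt 0)) = true := by decide +kernel
theorem c1at_c : chainCard [c1atl0, c1atl1, c1atl2, c1atl3, c1atl4, c1atl5, c1atl6] = 244823040 := by decide +kernel
theorem c1ace_lt : H16.allL (ltAll 11) c1ace_W = true := by decide +kernel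
theorem c1atn0_0 : (Nat.ble c1atl6.K 16 && Nat.beq (ltAll 24 [c1atl5.Pt 0, c1atl4.Pt 0, c1atl3.Pt 0, c1atl2.Pt 0, c1atl1.Pt 0, c1atl0.Pt 0]) 0 && kChk c1ace_P c1ax_P c1atn0.Kn 1 H15.MM24.B [c1atl5.Pt 0, c1atl4.Pt 0, c1atl3.Pt 0, c1atl2.Pt 0, c1atl1.Pt 0, c1atl0.Pt 0] && H16.allL (ltAll 1) c1atn0.pre && planOK c1ath_P c1ax_P 1 (c1atl6.Pt 0) c1atn0.plan [c1atl6]) = true := by decide +kernel
theorem c1atn0_1_0 : allZ (c1atn0.ent H15.MM24.P c1ath_P c1ax_P c1ax_P c1ace_P (nat_lit 11) (nat_lit 1) H15.MM24.B c1atl6 [] (fun w => Nat.xor w (c1atl6.Pt (nat_lit 0)))) (nat_lit 0) (nat_lit 3) = true := by decide +kernel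
theorem c1ac_f5 : (Nat.ble c1atl5.K 16 && Nat.blt (nat_lit 2) 24 && fixLetters c1ath_P c1atl5.K (nat_lit 2) && Nat.beq (ltAll 1 [nat_lit 0]) 0 && Nat.beq (apW c1ax_P [nat_lit 0] (nat_lit 2)) (c1atl5.Pt 0)) = true := by decide +kernel
theorem c1acc4_e_0 : allZ (dent c1acc4 c1ace_P (nat_lit 24)) (nat_lit 0) (nat_lit 15) = true := by decide +kernel
theorem c1acc4_h : 0 < c1acc4.n ∧ 0 < c1acc4.K ∧ c1acc4.Pt 0 < 24 ∧ c1acc4.Q (c1acc4.Pt 0) = 0 := by decide +kernel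
theorem c1atn1_0 : (Nat.ble c1atl4.K 16 && Nat.beq (ltAll 24 [c1atl3.Pt 0, c1atl2.Pt 0, c1atl1.Pt 0, c1atl0.Pt 0]) 0 && kChk c1ace_P c1ax_P c1atn1.Kn 1 H15.MM24.B [c1atl3.Pt 0, c1atl2.Pt 0, c1atl1.Pt 0, c1atl0.Pt 0] && H16.allL (ltAll 1) c1atn1.pre && planOK c1ath_P c1ax_P 1 (c1atl4.Pt 0) c1atn1.plan [c1atl4, c1atl5, c1atl6]) = true := by decide +kernel
theorem c1atn1_1_0 : allZ (c1atn1.ent H15.MM24.P c1ath_P c1ax_P c1ax_P c1ace_P (nat_lit 11) (nat_lit 1) H15.MM24.B c1atl4 [c1atl5, c1atl6] (memO c1acc4)) (nat_lit 0) (nat_lit 20) = true := by decide +kernel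
theorem c1ac_f4 : (Nat.ble c1acc4.K 5 && Nat.ble (topK []) c1acc4.K && Nat.beq (c1acc4.Pt 0) (c1atl4.Pt 0) && Nat.beq (ltAll 24 [c1atl3.Pt 0, c1atl2.Pt 0, c1atl1.Pt 0, c1atl0.Pt 0]) 0 && kChk c1ace_P c1ax_P c1acc4.K 1 H15.MM24.B [c1atl3.Pt 0, c1atl2.Pt 0, c1atl1.Pt 0, c1atl0.Pt 0]) = true := by decide +kernel
theorem c1ac_f3 : (Nat.ble c1atl3.K 16 && Nat.blt (nat_lit 1) 24 && fixLetters c1ath_P c1atl3.K (nat_lit 1) && Nat.beq (ltAll 1 [nat_lit 0]) 0 && Nat.beq (apW c1ax_P [nat_lit 0] (nat_lit 1)) (c1atl3.Pt 0)) = true := by decide +kernel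
theorem c1acc2_e_0 : allZ (dent c1acc2 c1ace_P (nat_lit 24)) (nat_lit 0) (nat_lit 19) = true := by decide +kernel
theorem c1acc2_h : 0 < c1acc2.n ∧ 0 < c1acc2.K ∧ c1acc2.Pt 0 < 24 ∧ c1acc2.Q (c1acc2.Pt 0) = 0 := by decide +kernel
theorem c1atn2y8_lt : H16.allL (ltAll 11) c1atn2y8_W = true := by decide +kernel
theorem c1atr3k_lt : H16.allL (ltAll 11) c1atr3k_W = true := by decide +kernel
theorem c1atn3_0 : (Nat.ble c1atl4.K 16 && Nat.beq (ltAll 24 [c1atl3.Pt 0, c1atl2.Pt 0, c1atl1.Pt 0, c1atl0.Pt 0]) 0 && kChk c1atr3k_P c1atn2y8_P c1atn3.Kn 1 H15.MM24.B [c1atl3.Pt 0, c1atl2.Pt 0, c1atl1.Pt 0, c1atl0.Pt 0] && H16.allL (ltAll 1) c1atn3.pre && planOK c1ath_P c1ax_P 1 (c1atl4.Pt 0) c1atn3.plan [c1atl4, c1atl5, c1atl6]) = true := by decide +kernel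
theorem c1atn3_1_0 : allZ (c1atn3.ent H15.MM24.P c1ath_P c1ax_P c1atn2y8_P c1atr3k_P (nat_lit 11) (nat_lit 1) H15.MM24.B c1atl4 [c1atl5, c1atl6] (fun _ => nat_lit 1)) (nat_lit 0) (nat_lit 20) = true := by decide +kernel
theorem c1atn2_0 : (Nat.ble c1atl2.K 16 && Nat.beq (ltAll 24 [c1atl1.Pt 0, c1atl0.Pt 0]) 0 && kChk c1ace_P c1ax_P c1atn2.Kn 1 H15.MM24.B [c1atl1.Pt 0, c1atl0.Pt 0] && H16.allL (ltAll 1) c1atn2.pre && planOK c1ath_P c1ax_P 1 (c1atl2.Pt 0) c1atn2.plan [c1atl2, c1atl3, c1atl4, c1atl5, c1atl6]) = true := by decide +kernel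
theorem c1atn2_1_0 : allZ (c1atn2.ent H15.MM24.P c1ath_P c1ax_P c1ax_P c1ace_P (nat_lit 11) (nat_lit 1) H15.MM24.B c1atl2 [c1atl3, c1atl4, c1atl5, c1atl6] (memO c1acc2)) (nat_lit 0) (nat_lit 22) = true := by decide +kernel
theorem c1ac_f2 : (Nat.ble c1acc2.K 5 && Nat.ble (topK [c1acc4]) c1acc2.K && Nat.beq (c1acc2.Pt 0) (c1atl2.Pt 0) && Nat.beq (ltAll 24 [c1atl1.Pt 0, c1atl0.Pt 0]) 0 && kChk c1ace_P c1ax_P c1acc2.K 1 H15.MM24.B [c1atl1.Pt 0, c1atl0.Pt 0]) = true := by decide +kernel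
theorem c1ac_f1 : (Nat.ble c1atl1.K 16 && Nat.blt (nat_lit 0) 24 && fixLetters c1ath_P c1atl1.K (nat_lit 0) && Nat.beq (ltAll 1 [nat_lit 0]) 0 && Nat.beq (apW c1ax_P [nat_lit 0] (nat_lit 0)) (c1atl1.Pt 0)) = true := by decide +kernel
theorem c1acc0_e_0 : allZ (dent c1acc0 c1ace_P (nat_lit 24)) (nat_lit 0) (nat_lit 23) = true := by decide +kernel
theorem c1acc0_h : 0 < c1acc0.n ∧ 0 < c1acc0.K ∧ c1acc0.Pt 0 < 24 ∧ c1acc0.Q (c1acc0.Pt 0) = 0 := by decide +kernel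
theorem c1atn4_0 : (Nat.ble c1atl0.K 16 && Nat.beq (ltAll 24 []) 0 && kChk c1ace_P c1ax_P c1atn4.Kn 1 H15.MM24.B [] && H16.allL (ltAll 1) c1atn4.pre && planOK c1ath_P c1ax_P 1 (c1atl0.Pt 0) c1atn4.plan [c1atl0, c1atl1, c1atl2, c1atl3, c1atl4, c1atl5, c1atl6]) = true := by decide +kernel
theorem c1atn4_1_0 : allZ (c1atn4.ent H15.MM24.P c1ath_P c1ax_P c1ax_P c1ace_P (nat_lit 11) (nat_lit 1) H15.MM24.B c1atl0 [c1atl1, c1atl2, c1atl3, c1atl4, c1atl5, c1atl6] (memO c1acc0)) (nat_lit 0) (nat_lit 24) = true := by decide +kernel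
theorem c1ac_f0 : (Nat.ble c1acc0.K 5 && Nat.ble (topK [c1acc2, c1acc4]) c1acc0.K && Nat.beq (c1acc0.Pt 0) (c1atl0.Pt 0) && Nat.beq (ltAll 24 []) 0 && kChk c1ace_P c1ax_P c1acc0.K 1 H15.MM24.B []) = true := by decide +kernel
theorem c1ac_c : chainCard [c1acc0, c1acc2, c1acc4] = 7680 ∧ topK [c1acc0, c1acc2, c1acc4] = 5 := by decide +kernel
theorem c1v_lt : H16.allL (ltAll 11) c1v_W = true := by decide +kernel
theorem c1cth_lt : H16.allL (ltAll 11) c1cth_W = true := by decide +kernel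
theorem c1ctl0_e_0 : allZ (dent c1ctl0 c1cth_P (nat_lit 24)) (nat_lit 0) (nat_lit 23) = true := by decide +kernel
theorem c1ctl0_h : 0 < c1ctl0.n ∧ 0 < c1ctl0.K ∧ c1ctl0.Pt 0 < 24 ∧ c1ctl0.Q (c1ctl0.Pt 0) = 0 := by decide +kernel
theorem c1ctl1_e_0 : allZ (dent c1ctl1 c1cth_P (nat_lit 24)) (nat_lit 0) (nat_lit 22) = true := by decide +kernel
theorem c1ctl1_h : 0 < c1ctl1.n ∧ 0 < c1ctl1.K ∧ c1ctl1.Pt 0 < 24 ∧ c1ctl1.Q (c1ctl1.Pt 0) = 0 := by decide +kernel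
theorem c1ctl2_e_0 : allZ (dent c1ctl2 c1cth_P (nat_lit 24)) (nat_lit 0) (nat_lit 21) = true := by decide +kernel
theorem c1ctl2_h : 0 < c1ctl2.n ∧ 0 < c1ctl2.K ∧ c1ctl2.Pt 0 < 24 ∧ c1ctl2.Q (c1ctl2.Pt 0) = 0 := by decide +kernel
theorem c1ctl3_e_0 : allZ (dent c1ctl3 c1cth_P (nat_lit 24)) (nat_lit 0) (nat_lit 20) = true := by decide +kernel
theorem c1ctl3_h : 0 < c1ctl3.n ∧ 0 < c1ctl3.K ∧ c1ctl3.Pt 0 < 24 ∧ c1ctl3.Q (c1ctl3.Pt 0) = 0 := by decide +kernel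
theorem c1ctl4_e_0 : allZ (dent c1ctl4 c1cth_P (nat_lit 24)) (nat_lit 0) (nat_lit 19) = true := by decide +kernel
theorem c1ctl4_h : 0 < c1ctl4.n ∧ 0 < c1ctl4.K ∧ c1ctl4.Pt 0 < 24 ∧ c1ctl4.Q (c1ctl4.Pt 0) = 0 := by decide +kernel
theorem c1ctl5_e_0 : allZ (dent c1ctl5 c1cth_P (nat_lit 24)) (nat_lit 0) (nat_lit 2) = true := by decide +kernel
theorem c1ctl5_h : 0 < c1ctl5.n ∧ 0 < c1ctl5.K ∧ c1ctl5.Pt 0 < 24 ∧ c1ctl5.Q (c1ctl5.Pt 0) = 0 := by decide +kernel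
theorem c1ctl6_e_0 : allZ (dent c1ctl6 c1cth_P (nat_lit 24)) (nat_lit 0) (nat_lit 15) = true := by decide +kernel
theorem c1ctl6_h : 0 < c1ctl6.n ∧ 0 < c1ctl6.K ∧ c1ctl6.Pt 0 < 24 ∧ c1ctl6.Q (c1ctl6.Pt 0) = 0 := by decide +kernel
theorem c1ct_f6 : (Nat.ble c1ctl6.K 18 && Nat.ble (topK []) c1ctl6.K && fixLetters c1cth_P (topK []) (c1ctl6.Pt 0)) = true := by decide +kernel
theorem c1ct_f5 : (Nat.ble c1ctl5.K 18 && Nat.ble (topK [c1ctl6]) c1ctl5.K && fixLetters c1cth_P (topK [c1ctl6]) (c1ctl5.Pt 0)) = true := by decide +kernel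
theorem c1ct_f4 : (Nat.ble c1ctl4.K 18 && Nat.ble (topK [c1ctl5, c1ctl6]) c1ctl4.K && fixLetters c1cth_P (topK [c1ctl5, c1ctl6]) (c1ctl4.Pt 0)) = true := by decide +kernel
theorem c1ct_f3 : (Nat.ble c1ctl3.K 18 && Nat.ble (topK [c1ctl4, c1ctl5, c1ctl6]) c1ctl3.K && fixLetters c1cth_P (topK [c1ctl4, c1ctl5, c1ctl6]) (c1ctl3.Pt 0)) = true := by decide +kernel
theorem c1ct_f2 : (Nat.ble c1ctl2.K 18 && Nat.ble (topK [c1ctl3, c1ctl4, c1ctl5, c1ctl6]) c1ctl2.K && fixLetters c1cth_P (topK [c1ctl3, c1ctl4, c1ctl5, c1ctl6]) (c1ctl2.Pt 0)) = true := by decide +kernel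
theorem c1ct_f1 : (Nat.ble c1ctl1.K 18 && Nat.ble (topK [c1ctl2, c1ctl3, c1ctl4, c1ctl5, c1ctl6]) c1ctl1.K && fixLetters c1cth_P (topK [c1ctl2, c1ctl3, c1ctl4, c1ctl5, c1ctl6]) (c1ctl1.Pt 0)) = true := by decide +kernel
theorem c1ct_f0 : (Nat.ble c1ctl0.K 18 && Nat.ble (topK [c1ctl1, c1ctl2, c1ctl3, c1ctl4, c1ctl5, c1ctl6]) c1ctl0.K && fixLetters c1cth_P (topK [c1ctl1, c1ctl2, c1ctl3, c1ctl4, c1ctl5, c1ctl6]) (c1ctl0.Pt 0)) = true := by decide +kernel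
theorem c1ct_c : chainCard [c1ctl0, c1ctl1, c1ctl2, c1ctl3, c1ctl4, c1ctl5, c1ctl6] = 244823040 := by decide +kernel
theorem c1ce_lt : H16.allL (ltAll 11) c1ce_W = true := by decide +kernel
theorem c1cc6_e_0 : allZ (dent c1cc6 c1ce_P (nat_lit 24)) (nat_lit 0) (nat_lit 3) = true := by decide +kernel
theorem c1cc6_h : 0 < c1cc6.n ∧ 0 < c1cc6.K ∧ c1cc6.Pt 0 < 24 ∧ c1cc6.Q (c1cc6.Pt 0) = 0 := by decide +kernel
theorem c1ctn0_0 : (Nat.ble c1ctl6.K 18 && Nat.beq (ltAll 24 [c1ctl5.Pt 0, c1ctl4.Pt 0, c1ctl3.Pt 0, c1ctl2.Pt 0, c1ctl1.Pt 0, c1ctl0.Pt 0]) 0 && kChk c1ce_P c1v_P c1ctn0.Kn 6 H15.MM24.B [c1ctl5.Pt 0, c1ctl4.Pt 0, c1ctl3.Pt 0, c1ctl2.Pt 0, c1ctl1.Pt 0, c1ctl0.Pt 0] && H16.allL (ltAll 6) c1ctn0.pre && planOK c1cth_P c1v_P 6 (c1ctl6.Pt 0) c1ctn0.plan [c1ctl6]) = true := by decide +kernel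
theorem c1ctn0_1_0 : allZ (c1ctn0.ent H15.MM24.P c1cth_P c1v_P c1v_P c1ce_P (nat_lit 11) (nat_lit 6) H15.MM24.B c1ctl6 [] (memO c1cc6)) (nat_lit 0) (nat_lit 16) = true := by decide +kernel
theorem c1c_f6 : (Nat.ble c1cc6.K 6 && Nat.ble (topK []) c1cc6.K && Nat.beq (c1cc6.Pt 0) (c1ctl6.Pt 0) && Nat.beq (ltAll 24 [c1ctl5.Pt 0, c1ctl4.Pt 0, c1ctl3.Pt 0, c1ctl2.Pt 0, c1ctl1.Pt 0, c1ctl0.Pt 0]) 0 && kChk c1ce_P c1v_P c1cc6.K 6 H15.MM24.B [c1ctl5.Pt 0, c1ctl4.Pt 0, c1ctl3.Pt 0, c1ctl2.Pt 0, c1ctl1.Pt 0, c1ctl0.Pt 0]) = true := by decide +kernel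
theorem c1c_f5 : (Nat.ble c1ctl5.K 18 && Nat.blt (nat_lit 1) 24 && fixLetters c1cth_P c1ctl5.K (nat_lit 1) && Nat.beq (ltAll 6 [nat_lit 0]) 0 && Nat.beq (apW c1v_P [nat_lit 0] (nat_lit 1)) (c1ctl5.Pt 0)) = true := by decide +kernel
theorem c1cc4_e_0 : allZ (dent c1cc4 c1ce_P (nat_lit 24)) (nat_lit 0) (nat_lit 3) = true := by decide +kernel
theorem c1cc4_h : 0 < c1cc4.n ∧ 0 < c1cc4.K ∧ c1cc4.Pt 0 < 24 ∧ c1cc4.Q (c1cc4.Pt 0) = 0 := by decide +kernel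
theorem c1ctn1_0 : (Nat.ble c1ctl4.K 18 && Nat.beq (ltAll 24 [c1ctl3.Pt 0, c1ctl2.Pt 0, c1ctl1.Pt 0, c1ctl0.Pt 0]) 0 && kChk c1ce_P c1v_P c1ctn1.Kn 6 H15.MM24.B [c1ctl3.Pt 0, c1ctl2.Pt 0, c1ctl1.Pt 0, c1ctl0.Pt 0] && H16.allL (ltAll 6) c1ctn1.pre && planOK c1cth_P c1v_P 6 (c1ctl4.Pt 0) c1ctn1.plan [c1ctl4, c1ctl5, c1ctl6]) = true := by decide +kernel
theorem c1ctn1_1_0 : allZ (c1ctn1.ent H15.MM24.P c1cth_P c1v_P c1v_P c1ce_P (nat_lit 11) (nat_lit 6) H15.MM24.B c1ctl4 [c1ctl5, c1ctl6] (memO c1cc4)) (nat_lit 0) (nat_lit 20) = true := by decide +kernel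
theorem c1c_f4 : (Nat.ble c1cc4.K 6 && Nat.ble (topK [c1cc6]) c1cc4.K && Nat.beq (c1cc4.Pt 0) (c1ctl4.Pt 0) && Nat.beq (ltAll 24 [c1ctl3.Pt 0, c1ctl2.Pt 0, c1ctl1.Pt 0, c1ctl0.Pt 0]) 0 && kChk c1ce_P c1v_P c1cc4.K 6 H15.MM24.B [c1ctl3.Pt 0, c1ctl2.Pt 0, c1ctl1.Pt 0, c1ctl0.Pt 0]) = true := by decide +kernel
theorem c1c_f3 : (Nat.ble c1ctl3.K 18 && Nat.blt (nat_lit 0) 24 && fixLetters c1cth_P c1ctl3.K (nat_lit 0) && Nat.beq (ltAll 6 [nat_lit 0, nat_lit 2]) 0 && Nat.beq (apW c1v_P [nat_lit 0, nat_lit 2] (nat_lit 0)) (c1ctl3.Pt 0)) = true := by decide +kernel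
theorem c1c_f2 : (Nat.ble c1ctl2.K 18 && Nat.blt (nat_lit 0) 24 && fixLetters c1cth_P c1ctl2.K (nat_lit 0) && Nat.beq (ltAll 6 [nat_lit 0]) 0 && Nat.beq (apW c1v_P [nat_lit 0] (nat_lit 0)) (c1ctl2.Pt 0)) = true := by decide +kernel
theorem c1c_f1 : (Nat.ble c1ctl1.K 18 && Nat.blt (nat_lit 0) 24 && fixLetters c1cth_P c1ctl1.K (nat_lit 0) && Nat.beq (ltAll 6 [nat_lit 2]) 0 && Nat.beq (apW c1v_P [nat_lit 2] (nat_lit 0)) (c1ctl1.Pt 0)) = true := by decide +kernel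
theorem c1cc0_e_0 : allZ (dent c1cc0 c1ce_P (nat_lit 24)) (nat_lit 0) (nat_lit 3) = true := by decide +kernel
theorem c1cc0_h : 0 < c1cc0.n ∧ 0 < c1cc0.K ∧ c1cc0.Pt 0 < 24 ∧ c1cc0.Q (c1cc0.Pt 0) = 0 := by decide +kernel
theorem c1ctn2_0 : (Nat.ble c1ctl0.K 18 && Nat.beq (ltAll 24 []) 0 && kChk c1ce_P c1v_P c1ctn2.Kn 6 H15.MM24.B [] && H16.allL (ltAll 6) c1ctn2.pre && planOK c1cth_P c1v_P 6 (c1ctl0.Pt 0) c1ctn2.plan [c1ctl0, c1ctl1, c1ctl2, c1ctl3, c1ctl4, c1ctl5, c1ctl6]) = true := by decide +kernel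
theorem c1ctn2_1_0 : allZ (c1ctn2.ent H15.MM24.P c1cth_P c1v_P c1v_P c1ce_P (nat_lit 11) (nat_lit 6) H15.MM24.B c1ctl0 [c1ctl1, c1ctl2, c1ctl3, c1ctl4, c1ctl5, c1ctl6] (memO c1cc0)) (nat_lit 0) (nat_lit 24) = true := by decide +kernel
theorem c1c_f0 : (Nat.ble c1cc0.K 6 && Nat.ble (topK [c1cc4, c1cc6]) c1cc0.K && Nat.beq (c1cc0.Pt 0) (c1ctl0.Pt 0) && Nat.beq (ltAll 24 []) 0 && kChk c1ce_P c1v_P c1cc0.K 6 H15.MM24.B []) = true := by decide +kernel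
theorem c1c_c : chainCard [c1cc0, c1cc4, c1cc6] = 64 ∧ topK [c1cc0, c1cc4, c1cc6] = 6 := by decide +kernel
theorem c1z_k_0 : allZ (cmEnt c1v_P covr_P (nat_lit 6) H15.MM24.B (nat_lit 1)) (nat_lit 0) (nat_lit 6) = true := by decide +kernel
theorem c1n_k_a : allZ2 (nrmEnt c1v_P c1ace_P (nat_lit 6) H15.MM24.B c1nW) (nat_lit 5) (nat_lit 6) = true := by decide +kernel
theorem c1m0_k_0 : allZ (cmEnt c1v_P c1v_P (nat_lit 6) H15.MM24.B (nat_lit 0)) (nat_lit 0) (nat_lit 6) = true := by decide +kernel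
theorem c1m1_k_0 : allZ (cmEnt c1v_P c1v_P (nat_lit 6) H15.MM24.B (nat_lit 1)) (nat_lit 0) (nat_lit 6) = true := by decide +kernel
theorem c1m2_k_0 : allZ (cmEnt c1v_P c1v_P (nat_lit 6) H15.MM24.B (nat_lit 2)) (nat_lit 0) (nat_lit 6) = true := by decide +kernel
theorem c1m3_k_0 : allZ (cmEnt c1v_P c1v_P (nat_lit 6) H15.MM24.B (nat_lit 3)) (nat_lit 0) (nat_lit 6) = true := by decide +kernel
theorem c1m4_k_0 : allZ (cmEnt c1v_P c1v_P (nat_lit 6) H15.MM24.B (nat_lit 4)) (nat_lit 0) (nat_lit 6) = true := by decide +kernel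
theorem c1m5_k_0 : allZ (cmEnt c1v_P c1v_P (nat_lit 6) H15.MM24.B (nat_lit 5)) (nat_lit 0) (nat_lit 6) = true := by decide +kernel

theorem md {G : Type*} [Group G] (e : gen H15.MM24.g 11 ≃* G) :
    ∃ (_ : MulAction G (Cfsg.GolayPt)) (g : ℕ → G), Md g H15.pt H15.MM24.P 24 11 H15.MM24.B 244823040 ∧
      ∀ k < 11, (e.symm (g k)).1 = H15.MM24.g k :=
  exists_md H15.MM24.act H15.MM24.inj H15.MM24.card H15.MM24.isBase md_b e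
theorem p2t_act {G Ω : Type*} [Group G] [MulAction G Ω] {g : ℕ → G} {pt : ℕ → Ω}
    (M : Md g pt H15.MM24.P 24 11 H15.MM24.B 244823040) : Act (wds g p2t_W) pt p2t_P 24 10 :=
  M.wact p2t_lt
theorem p2_r : ∀ k < 10, ∀ i < 16, (resEnt p2t_P p2P p2E p2I (nat_lit 24) (nat_lit 16)) k i = 0 := allZ2_sound p2_r_a
theorem p2_sm {G Ω : Type*} [Group G] [MulAction G Ω] {g : ℕ → G} {pt : ℕ → Ω}
    (M : Md g pt H15.MM24.P 24 11 H15.MM24.B 244823040) : Sm (wds g p2t_W) (fun i => pt (p2E i)) p2P 16 10 p2B ∧ ∀ i < 16, p2E i < 24 :=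
  M.res (p2t_act M) (by decide) p2_r p2_b
theorem p2l0_e : ∀ i < 15, (dent p2l0 (wdsP p2P p2e) (nat_lit 16)) i = 0 := allZ_sound0 p2l0_e_0
theorem p2l0_ok : DOK p2l0 (wdsP p2P p2e) 16 := ⟨p2l0_h, p2l0_e⟩
theorem p2l1_e : ∀ i < 7, (dent p2l1 (wdsP p2P p2e) (nat_lit 16)) i = 0 := allZ_sound0 p2l1_e_0
theorem p2l1_ok : DOK p2l1 (wdsP p2P p2e) 16 := ⟨p2l1_h, p2l1_e⟩
theorem p2l2_e : ∀ i < 3, (dent p2l2 (wdsP p2P p2e) (nat_lit 16)) i = 0 := allZ_sound0 p2l2_e_0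
theorem p2l2_ok : DOK p2l2 (wdsP p2P p2e) 16 := ⟨p2l2_h, p2l2_e⟩
theorem p2l3_e : ∀ i < 1, (dent p2l3 (wdsP p2P p2e) (nat_lit 16)) i = 0 := allZ_sound0 p2l3_e_0
theorem p2l3_ok : DOK p2l3 (wdsP p2P p2e) 16 := ⟨p2l3_h, p2l3_e⟩
theorem p2_low {G Ω : Type*} [Group G] [MulAction G Ω] {g : ℕ → G} {pt : ℕ → Ω}
    (M : Md g pt H15.MM24.P 24 11 H15.MM24.B 244823040) : SLow (gi (wds (wds g p2t_W) p2e)) (fun i => pt (p2E i)) 16 [p2l0, p2l1, p2l2, p2l3] :=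
  ((((SLow.nil).cons p2l3_ok ((p2_sm M).1.act.wds p2_e 9) p2_f3).cons p2l2_ok ((p2_sm M).1.act.wds p2_e 9) p2_f2).cons p2l1_ok ((p2_sm M).1.act.wds p2_e 9) p2_f1).cons p2l0_ok ((p2_sm M).1.act.wds p2_e 9) p2_f0
theorem p2_pc {G Ω : Type*} [Group G] [MulAction G Ω] {g : ℕ → G} {pt : ℕ → Ω}
    (M : Md g pt H15.MM24.P 24 11 H15.MM24.B 244823040) : PC (wds g p2t_W) 10 2 :=
  have := M.fin
  ((p2_sm M).1.pc0 (by decide) p2_p).pc (p2_low M) (p2_sm M).1.inj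
    (fun k => evA_mem_gen _ (nth_lt p2_e k)) M.card ⟨by decide, p2_c⟩
theorem covr_act {G Ω : Type*} [Group G] [MulAction G Ω] {g : ℕ → G} {pt : ℕ → Ω}
    (M : Md g pt H15.MM24.P 24 11 H15.MM24.B 244823040) : Act (wds g covr_W) pt covr_P 24 2 :=
  M.wact covr_lt
theorem cov_0 {G Ω : Type*} [Group G] [MulAction G Ω] {g : ℕ → G} {pt : ℕ → Ω}
    (M : Md g pt H15.MM24.P 24 11 H15.MM24.B 244823040) : H0.TR.Cov (wds g p2t_W) (wds g covr_W) 2 2 10 (evA (wds g p2t_W) []) :=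
  have := M.fin
  covT0.cov M (p2_sm M).1 (p2_sm M).2 (covr_act M) (p2_pc M) _ _ cov_c0
theorem cov {G Ω : Type*} [Group G] [MulAction G Ω] {g : ℕ → G} {pt : ℕ → Ω}
    (M : Md g pt H15.MM24.P 24 11 H15.MM24.B 244823040) {y : G} {e : ℕ} (hy : y ^ 2 ^ e = 1) (hq : y ^ 2 = 1) : Good (wds g covr_W) 2 y :=
  have := M.fin
  H0.TR.Cov.all (p2_pc M) (cov_0 M) hy hq
theorem c0ax_act {G Ω : Type*} [Group G] [MulAction G Ω] {g : ℕ → G} {pt : ℕ → Ω}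
    (M : Md g pt H15.MM24.P 24 11 H15.MM24.B 244823040) : Act (wds g c0ax_W) pt c0ax_P 24 1 :=
  M.wact c0ax_lt
theorem c0ath_act {G Ω : Type*} [Group G] [MulAction G Ω] {g : ℕ → G} {pt : ℕ → Ω}
    (M : Md g pt H15.MM24.P 24 11 H15.MM24.B 244823040) : Act (wds g c0ath_W) pt c0ath_P 24 18 :=
  M.wact c0ath_lt
theorem c0atl0_e : ∀ i < 23, (dent c0atl0 c0ath_P (nat_lit 24)) i = 0 := allZ_sound0 c0atl0_e_0
theorem c0atl0_ok : DOK c0atl0 c0ath_P 24 := ⟨c0atl0_h, c0atl0_e⟩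
theorem c0atl1_e : ∀ i < 22, (dent c0atl1 c0ath_P (nat_lit 24)) i = 0 := allZ_sound0 c0atl1_e_0
theorem c0atl1_ok : DOK c0atl1 c0ath_P 24 := ⟨c0atl1_h, c0atl1_e⟩
theorem c0atl2_e : ∀ i < 21, (dent c0atl2 c0ath_P (nat_lit 24)) i = 0 := allZ_sound0 c0atl2_e_0
theorem c0atl2_ok : DOK c0atl2 c0ath_P 24 := ⟨c0atl2_h, c0atl2_e⟩
theorem c0atl3_e : ∀ i < 20, (dent c0atl3 c0ath_P (nat_lit 24)) i = 0 := allZ_sound0 c0atl3_e_0
theorem c0atl3_ok : DOK c0atl3 c0ath_P 24 := ⟨c0atl3_h, c0atl3_e⟩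
theorem c0atl4_e : ∀ i < 19, (dent c0atl4 c0ath_P (nat_lit 24)) i = 0 := allZ_sound0 c0atl4_e_0
theorem c0atl4_ok : DOK c0atl4 c0ath_P 24 := ⟨c0atl4_h, c0atl4_e⟩
theorem c0atl5_e : ∀ i < 2, (dent c0atl5 c0ath_P (nat_lit 24)) i = 0 := allZ_sound0 c0atl5_e_0
theorem c0atl5_ok : DOK c0atl5 c0ath_P 24 := ⟨c0atl5_h, c0atl5_e⟩
theorem c0atl6_e : ∀ i < 15, (dent c0atl6 c0ath_P (nat_lit 24)) i = 0 := allZ_sound0 c0atl6_e_0
theorem c0atl6_ok : DOK c0atl6 c0ath_P 24 := ⟨c0atl6_h, c0atl6_e⟩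
theorem c0at_low {G Ω : Type*} [Group G] [MulAction G Ω] {g : ℕ → G} {pt : ℕ → Ω}
    (M : Md g pt H15.MM24.P 24 11 H15.MM24.B 244823040) : SLow (gi (wds g c0ath_W)) pt 24 [c0atl0, c0atl1, c0atl2, c0atl3, c0atl4, c0atl5, c0atl6] :=
  (((((((SLow.nil).cons c0atl6_ok (c0ath_act M) c0at_f6).cons c0atl5_ok (c0ath_act M) c0at_f5).cons c0atl4_ok (c0ath_act M) c0at_f4).cons c0atl3_ok (c0ath_act M) c0at_f3).cons c0atl2_ok (c0ath_act M) c0at_f2).cons c0atl1_ok (c0ath_act M) c0at_f1).cons c0atl0_ok (c0ath_act M) c0at_f0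
theorem c0at_S0 {G Ω : Type*} [Group G] [MulAction G Ω] {g : ℕ → G} {pt : ℕ → Ω}
    (M : Md g pt H15.MM24.P 24 11 H15.MM24.B 244823040) : Stage ⊤ (wds g c0ath_W) pt 24 [c0atl0, c0atl1, c0atl2, c0atl3, c0atl4, c0atl5, c0atl6] [] :=
  M.stage (c0at_low M) c0at_c
theorem c0at_S1 {G Ω : Type*} [Group G] [MulAction G Ω] {g : ℕ → G} {pt : ℕ → Ω}
    (M : Md g pt H15.MM24.P 24 11 H15.MM24.B 244823040) : Stage ⊤ (wds g c0ath_W) pt 24 [c0atl1, c0atl2, c0atl3, c0atl4, c0atl5, c0atl6] [c0atl0.Pt 0] :=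
  (c0at_S0 M).next
theorem c0at_S2 {G Ω : Type*} [Group G] [MulAction G Ω] {g : ℕ → G} {pt : ℕ → Ω}
    (M : Md g pt H15.MM24.P 24 11 H15.MM24.B 244823040) : Stage ⊤ (wds g c0ath_W) pt 24 [c0atl2, c0atl3, c0atl4, c0atl5, c0atl6] [c0atl1.Pt 0, c0atl0.Pt 0] :=
  (c0at_S1 M).next
theorem c0at_S3 {G Ω : Type*} [Group G] [MulAction G Ω] {g : ℕ → G} {pt : ℕ → Ω}
    (M : Md g pt H15.MM24.P 24 11 H15.MM24.B 244823040) : Stage ⊤ (wds g c0ath_W) pt 24 [c0atl3, c0atl4, c0atl5, c0atl6] [c0atl2.Pt 0, c0atl1.Pt 0, c0atl0.Pt 0] :=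
  (c0at_S2 M).next
theorem c0at_S4 {G Ω : Type*} [Group G] [MulAction G Ω] {g : ℕ → G} {pt : ℕ → Ω}
    (M : Md g pt H15.MM24.P 24 11 H15.MM24.B 244823040) : Stage ⊤ (wds g c0ath_W) pt 24 [c0atl4, c0atl5, c0atl6] [c0atl3.Pt 0, c0atl2.Pt 0, c0atl1.Pt 0, c0atl0.Pt 0] :=
  (c0at_S3 M).next
theorem c0at_S5 {G Ω : Type*} [Group G] [MulAction G Ω] {g : ℕ → G} {pt : ℕ → Ω}
    (M : Md g pt H15.MM24.P 24 11 H15.MM24.B 244823040) : Stage ⊤ (wds g c0ath_W) pt 24 [c0atl5, c0atl6] [c0atl4.Pt 0, c0atl3.Pt 0, c0atl2.Pt 0, c0atl1.Pt 0, c0atl0.Pt 0] :=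
  (c0at_S4 M).next
theorem c0at_S6 {G Ω : Type*} [Group G] [MulAction G Ω] {g : ℕ → G} {pt : ℕ → Ω}
    (M : Md g pt H15.MM24.P 24 11 H15.MM24.B 244823040) : Stage ⊤ (wds g c0ath_W) pt 24 [c0atl6] [c0atl5.Pt 0, c0atl4.Pt 0, c0atl3.Pt 0, c0atl2.Pt 0, c0atl1.Pt 0, c0atl0.Pt 0] :=
  (c0at_S5 M).next
theorem c0at_S7 {G Ω : Type*} [Group G] [MulAction G Ω] {g : ℕ → G} {pt : ℕ → Ω}
    (M : Md g pt H15.MM24.P 24 11 H15.MM24.B 244823040) : Stage ⊤ (wds g c0ath_W) pt 24 [] [c0atl6.Pt 0, c0atl5.Pt 0, c0atl4.Pt 0, c0atl3.Pt 0, c0atl2.Pt 0, c0atl1.Pt 0, c0atl0.Pt 0] :=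
  (c0at_S6 M).next
theorem c0ace_act {G Ω : Type*} [Group G] [MulAction G Ω] {g : ℕ → G} {pt : ℕ → Ω}
    (M : Md g pt H15.MM24.P 24 11 H15.MM24.B 244823040) : Act (wds g c0ace_W) pt c0ace_P 24 7 :=
  M.wact c0ace_lt
theorem c0acc6_e : ∀ i < 7, (dent c0acc6 c0ace_P (nat_lit 24)) i = 0 := allZ_sound0 c0acc6_e_0
theorem c0acc6_ok : DOK c0acc6 c0ace_P 24 := ⟨c0acc6_h, c0acc6_e⟩
theorem c0atn0_1 : ∀ i < 16, (c0atn0.ent H15.MM24.P c0ath_P c0ax_P c0ax_P c0ace_P (nat_lit 11) (nat_lit 1) H15.MM24.B c0atl6 [] (memO c0acc6)) i = 0 := allZ_sound0 c0atn0_1_0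
theorem c0atn0_t {G Ω : Type*} [Group G] [MulAction G Ω] {g : ℕ → G} {pt : ℕ → Ω}
    (M : Md g pt H15.MM24.P 24 11 H15.MM24.B 244823040) : TrO (gen (wds g c0ath_W) c0atl6.K) (wds g c0ax_W) (wds g c0ax_W) 1 pt 24 (c0atl6.Pt 0) (memO c0acc6) :=
  node M (c0at_S6 M) (c0ath_act M) (c0ax_act M) (c0ax_act M) c0atn0 ((c0ace_act M).mono (by decide)) (fun _ _ => trivial) c0atn0_0 c0atn0_1 (List.forall_mem_nil _)
theorem c0acc4_e : ∀ i < 11, (dent c0acc4 c0ace_P (nat_lit 24)) i = 0 := allZ_sound0 c0acc4_e_0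
theorem c0acc4_ok : DOK c0acc4 c0ace_P 24 := ⟨c0acc4_h, c0acc4_e⟩
theorem c0atn1_1 : ∀ i < 20, (c0atn1.ent H15.MM24.P c0ath_P c0ax_P c0ax_P c0ace_P (nat_lit 11) (nat_lit 1) H15.MM24.B c0atl4 [c0atl5, c0atl6] (memO c0acc4)) i = 0 := allZ_sound0 c0atn1_1_0
theorem c0atn1_t {G Ω : Type*} [Group G] [MulAction G Ω] {g : ℕ → G} {pt : ℕ → Ω}
    (M : Md g pt H15.MM24.P 24 11 H15.MM24.B 244823040) : TrO (gen (wds g c0ath_W) c0atl4.K) (wds g c0ax_W) (wds g c0ax_W) 1 pt 24 (c0atl4.Pt 0) (memO c0acc4) :=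
  node M (c0at_S4 M) (c0ath_act M) (c0ax_act M) (c0ax_act M) c0atn1 ((c0ace_act M).mono (by decide)) (fun _ _ => trivial) c0atn1_0 c0atn1_1 (List.forall_mem_nil _)
theorem c0acc2_e : ∀ i < 13, (dent c0acc2 c0ace_P (nat_lit 24)) i = 0 := allZ_sound0 c0acc2_e_0
theorem c0acc2_ok : DOK c0acc2 c0ace_P 24 := ⟨c0acc2_h, c0acc2_e⟩
theorem c0atn2_1 : ∀ i < 22, (c0atn2.ent H15.MM24.P c0ath_P c0ax_P c0ax_P c0ace_P (nat_lit 11) (nat_lit 1) H15.MM24.B c0atl2 [c0atl3, c0atl4, c0atl5, c0atl6] (memO c0acc2)) i = 0 := allZ_sound0 c0atn2_1_0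
theorem c0atn2_t {G Ω : Type*} [Group G] [MulAction G Ω] {g : ℕ → G} {pt : ℕ → Ω}
    (M : Md g pt H15.MM24.P 24 11 H15.MM24.B 244823040) : TrO (gen (wds g c0ath_W) c0atl2.K) (wds g c0ax_W) (wds g c0ax_W) 1 pt 24 (c0atl2.Pt 0) (memO c0acc2) :=
  node M (c0at_S2 M) (c0ath_act M) (c0ax_act M) (c0ax_act M) c0atn2 ((c0ace_act M).mono (by decide)) (fun _ _ => trivial) c0atn2_0 c0atn2_1 (List.forall_mem_nil _)
theorem c0acc0_e : ∀ i < 15, (dent c0acc0 c0ace_P (nat_lit 24)) i = 0 := allZ_sound0 c0acc0_e_0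
theorem c0acc0_ok : DOK c0acc0 c0ace_P 24 := ⟨c0acc0_h, c0acc0_e⟩
theorem c0atn3_1 : ∀ i < 24, (c0atn3.ent H15.MM24.P c0ath_P c0ax_P c0ax_P c0ace_P (nat_lit 11) (nat_lit 1) H15.MM24.B c0atl0 [c0atl1, c0atl2, c0atl3, c0atl4, c0atl5, c0atl6] (memO c0acc0)) i = 0 := allZ_sound0 c0atn3_1_0
theorem c0atn3_t {G Ω : Type*} [Group G] [MulAction G Ω] {g : ℕ → G} {pt : ℕ → Ω}
    (M : Md g pt H15.MM24.P 24 11 H15.MM24.B 244823040) : TrO (gen (wds g c0ath_W) c0atl0.K) (wds g c0ax_W) (wds g c0ax_W) 1 pt 24 (c0atl0.Pt 0) (memO c0acc0) :=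
  node M (c0at_S0 M) (c0ath_act M) (c0ax_act M) (c0ax_act M) c0atn3 ((c0ace_act M).mono (by decide)) (fun _ _ => trivial) c0atn3_0 c0atn3_1 (List.forall_mem_nil _)
theorem c0ac {G Ω : Type*} [Group G] [MulAction G Ω] {g : ℕ → G} {pt : ℕ → Ω}
    (M : Md g pt H15.MM24.P 24 11 H15.MM24.B 244823040) : Cen ⊤ (wds g c0ax_W) 1 (wds g c0ace_W) pt 24 [c0acc0, c0acc2, c0acc4, c0acc6] :=
  (c0at_S0 M).top ▸ Cen.lev M (c0at_S0 M) (Cen.triv (c0at_S1 M) (Cen.lev M (c0at_S2 M) (Cen.triv (c0at_S3 M) (Cen.lev M (c0at_S4 M) (Cen.triv (c0at_S5 M) (Cen.lev M (c0at_S6 M) (Cen.bot) (c0atn0_t M) (c0ax_act M) (c0ace_act M) (fun _ _ => trivial) c0acc6_ok c0ac_f6) (forced (c0at_S5 M) (c0ath_act M) (c0ax_act M) _ _ c0ac_f5)) (c0atn1_t M) (c0ax_act M) (c0ace_act M) (fun _ _ => trivial) c0acc4_ok c0ac_f4) (forced (c0at_S3 M) (c0ath_act M) (c0ax_act M) _ _ c0ac_f3))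 (c0atn2_t M) (c0ax_act M) (c0ace_act M) (fun _ _ => trivial) c0acc2_ok c0ac_f2) (forced (c0at_S1 M) (c0ath_act M) (c0ax_act M) _ _ c0ac_f1)) (c0atn3_t M) (c0ax_act M) (c0ace_act M) (fun _ _ => trivial) c0acc0_ok c0ac_f0
theorem c0ac_card {G Ω : Type*} [Group G] [MulAction G Ω] {g : ℕ → G} {pt : ℕ → Ω}
    (M : Md g pt H15.MM24.P 24 11 H15.MM24.B 244823040) : Nat.card (Subgroup.centralizer {(wds g c0ax_W) 0}) = 21504 :=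
  (c0ac M).card_cent1 M.inj c0ac_c.1
theorem c0ac_eq {G Ω : Type*} [Group G] [MulAction G Ω] {g : ℕ → G} {pt : ℕ → Ω}
    (M : Md g pt H15.MM24.P 24 11 H15.MM24.B 244823040) : Subgroup.centralizer (gen (wds g c0ax_W) 1) = gen (wds g c0ace_W) 7 ∧ Nat.card (gen (wds g c0ace_W) 7) = 21504 :=
  c0ac_c.1 ▸ c0ac_c.2 ▸ ⟨(c0ac M).cent, (c0ac M).card M.inj⟩
theorem c0a_z {G Ω : Type*} [Group G] [MulAction G Ω] {g : ℕ → G} {pt : ℕ → Ω}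
    (M : Md g pt H15.MM24.P 24 11 H15.MM24.B 244823040) : Subgroup.centralizer {(wds g c0ax_W) 0} = (gen (wds g c0ace_W) 7) :=
  c0ac_c.2 ▸ (c0ac M).cent1
theorem c0v_act {G Ω : Type*} [Group G] [MulAction G Ω] {g : ℕ → G} {pt : ℕ → Ω}
    (M : Md g pt H15.MM24.P 24 11 H15.MM24.B 244823040) : Act (wds g c0v_W) pt c0v_P 24 4 :=
  M.wact c0v_lt
theorem c0cth_act {G Ω : Type*} [Group G] [MulAction G Ω] {g : ℕ → G} {pt : ℕ → Ω}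
    (M : Md g pt H15.MM24.P 24 11 H15.MM24.B 244823040) : Act (wds g c0cth_W) pt c0cth_P 24 21 :=
  M.wact c0cth_lt
theorem c0ctl0_e : ∀ i < 23, (dent c0ctl0 c0cth_P (nat_lit 24)) i = 0 := allZ_sound0 c0ctl0_e_0
theorem c0ctl0_ok : DOK c0ctl0 c0cth_P 24 := ⟨c0ctl0_h, c0ctl0_e⟩
theorem c0ctl1_e : ∀ i < 22, (dent c0ctl1 c0cth_P (nat_lit 24)) i = 0 := allZ_sound0 c0ctl1_e_0
theorem c0ctl1_ok : DOK c0ctl1 c0cth_P 24 := ⟨c0ctl1_h, c0ctl1_e⟩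
theorem c0ctl2_e : ∀ i < 21, (dent c0ctl2 c0cth_P (nat_lit 24)) i = 0 := allZ_sound0 c0ctl2_e_0
theorem c0ctl2_ok : DOK c0ctl2 c0cth_P 24 := ⟨c0ctl2_h, c0ctl2_e⟩
theorem c0ctl3_e : ∀ i < 20, (dent c0ctl3 c0cth_P (nat_lit 24)) i = 0 := allZ_sound0 c0ctl3_e_0
theorem c0ctl3_ok : DOK c0ctl3 c0cth_P 24 := ⟨c0ctl3_h, c0ctl3_e⟩
theorem c0ctl4_e : ∀ i < 19, (dent c0ctl4 c0cth_P (nat_lit 24)) i = 0 := allZ_sound0 c0ctl4_e_0
theorem c0ctl4_ok : DOK c0ctl4 c0cth_P 24 := ⟨c0ctl4_h, c0ctl4_e⟩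
theorem c0ctl5_e : ∀ i < 2, (dent c0ctl5 c0cth_P (nat_lit 24)) i = 0 := allZ_sound0 c0ctl5_e_0
theorem c0ctl5_ok : DOK c0ctl5 c0cth_P 24 := ⟨c0ctl5_h, c0ctl5_e⟩
theorem c0ctl6_e : ∀ i < 15, (dent c0ctl6 c0cth_P (nat_lit 24)) i = 0 := allZ_sound0 c0ctl6_e_0
theorem c0ctl6_ok : DOK c0ctl6 c0cth_P 24 := ⟨c0ctl6_h, c0ctl6_e⟩
theorem c0ct_low {G Ω : Type*} [Group G] [MulAction G Ω] {g : ℕ → G} {pt : ℕ → Ω}
    (M : Md g pt H15.MM24.P 24 11 H15.MM24.B 244823040) : SLow (gi (wds g c0cth_W)) pt 24 [c0ctl0, c0ctl1, c0ctl2, c0ctl3, c0ctl4, c0ctl5, c0ctl6] :=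
  (((((((SLow.nil).cons c0ctl6_ok (c0cth_act M) c0ct_f6).cons c0ctl5_ok (c0cth_act M) c0ct_f5).cons c0ctl4_ok (c0cth_act M) c0ct_f4).cons c0ctl3_ok (c0cth_act M) c0ct_f3).cons c0ctl2_ok (c0cth_act M) c0ct_f2).cons c0ctl1_ok (c0cth_act M) c0ct_f1).cons c0ctl0_ok (c0cth_act M) c0ct_f0
theorem c0ct_S0 {G Ω : Type*} [Group G] [MulAction G Ω] {g : ℕ → G} {pt : ℕ → Ω}
    (M : Md g pt H15.MM24.P 24 11 H15.MM24.B 244823040) : Stage ⊤ (wds g c0cth_W) pt 24 [c0ctl0, c0ctl1, c0ctl2, c0ctl3, c0ctl4, c0ctl5, c0ctl6] [] :=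
  M.stage (c0ct_low M) c0ct_c
theorem c0ct_S1 {G Ω : Type*} [Group G] [MulAction G Ω] {g : ℕ → G} {pt : ℕ → Ω}
    (M : Md g pt H15.MM24.P 24 11 H15.MM24.B 244823040) : Stage ⊤ (wds g c0cth_W) pt 24 [c0ctl1, c0ctl2, c0ctl3, c0ctl4, c0ctl5, c0ctl6] [c0ctl0.Pt 0] :=
  (c0ct_S0 M).next
theorem c0ct_S2 {G Ω : Type*} [Group G] [MulAction G Ω] {g : ℕ → G} {pt : ℕ → Ω}
    (M : Md g pt H15.MM24.P 24 11 H15.MM24.B 244823040) : Stage ⊤ (wds g c0cth_W) pt 24 [c0ctl2, c0ctl3, c0ctl4, c0ctl5, c0ctl6] [c0ctl1.Pt 0, c0ctl0.Pt 0] :=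
  (c0ct_S1 M).next
theorem c0ct_S3 {G Ω : Type*} [Group G] [MulAction G Ω] {g : ℕ → G} {pt : ℕ → Ω}
    (M : Md g pt H15.MM24.P 24 11 H15.MM24.B 244823040) : Stage ⊤ (wds g c0cth_W) pt 24 [c0ctl3, c0ctl4, c0ctl5, c0ctl6] [c0ctl2.Pt 0, c0ctl1.Pt 0, c0ctl0.Pt 0] :=
  (c0ct_S2 M).next
theorem c0ct_S4 {G Ω : Type*} [Group G] [MulAction G Ω] {g : ℕ → G} {pt : ℕ → Ω}
    (M : Md g pt H15.MM24.P 24 11 H15.MM24.B 244823040) : Stage ⊤ (wds g c0cth_W) pt 24 [c0ctl4, c0ctl5, c0ctl6] [c0ctl3.Pt 0, c0ctl2.Pt 0, c0ctl1.Pt 0, c0ctl0.Pt 0] :=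
  (c0ct_S3 M).next
theorem c0ct_S5 {G Ω : Type*} [Group G] [MulAction G Ω] {g : ℕ → G} {pt : ℕ → Ω}
    (M : Md g pt H15.MM24.P 24 11 H15.MM24.B 244823040) : Stage ⊤ (wds g c0cth_W) pt 24 [c0ctl5, c0ctl6] [c0ctl4.Pt 0, c0ctl3.Pt 0, c0ctl2.Pt 0, c0ctl1.Pt 0, c0ctl0.Pt 0] :=
  (c0ct_S4 M).next
theorem c0ct_S6 {G Ω : Type*} [Group G] [MulAction G Ω] {g : ℕ → G} {pt : ℕ → Ω}
    (M : Md g pt H15.MM24.P 24 11 H15.MM24.B 244823040) : Stage ⊤ (wds g c0cth_W) pt 24 [c0ctl6] [c0ctl5.Pt 0, c0ctl4.Pt 0, c0ctl3.Pt 0, c0ctl2.Pt 0, c0ctl1.Pt 0, c0ctl0.Pt 0] :=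
  (c0ct_S5 M).next
theorem c0ct_S7 {G Ω : Type*} [Group G] [MulAction G Ω] {g : ℕ → G} {pt : ℕ → Ω}
    (M : Md g pt H15.MM24.P 24 11 H15.MM24.B 244823040) : Stage ⊤ (wds g c0cth_W) pt 24 [] [c0ctl6.Pt 0, c0ctl5.Pt 0, c0ctl4.Pt 0, c0ctl3.Pt 0, c0ctl2.Pt 0, c0ctl1.Pt 0, c0ctl0.Pt 0] :=
  (c0ct_S6 M).next
theorem c0ce_act {G Ω : Type*} [Group G] [MulAction G Ω] {g : ℕ → G} {pt : ℕ → Ω}
    (M : Md g pt H15.MM24.P 24 11 H15.MM24.B 244823040) : Act (wds g c0ce_W) pt c0ce_P 24 4 :=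
  M.wact c0ce_lt
theorem c0cc6_e : ∀ i < 1, (dent c0cc6 c0ce_P (nat_lit 24)) i = 0 := allZ_sound0 c0cc6_e_0
theorem c0cc6_ok : DOK c0cc6 c0ce_P 24 := ⟨c0cc6_h, c0cc6_e⟩
theorem c0ctn0_1 : ∀ i < 16, (c0ctn0.ent H15.MM24.P c0cth_P c0v_P c0v_P c0ce_P (nat_lit 11) (nat_lit 4) H15.MM24.B c0ctl6 [] (memO c0cc6)) i = 0 := allZ_sound0 c0ctn0_1_0
theorem c0ctn0_t {G Ω : Type*} [Group G] [MulAction G Ω] {g : ℕ → G} {pt : ℕ → Ω}
    (M : Md g pt H15.MM24.P 24 11 H15.MM24.B 244823040) : TrO (gen (wds g c0cth_W) c0ctl6.K) (wds g c0v_W) (wds g c0v_W) 4 pt 24 (c0ctl6.Pt 0) (memO c0cc6) :=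
  node M (c0ct_S6 M) (c0cth_act M) (c0v_act M) (c0v_act M) c0ctn0 ((c0ce_act M).mono (by decide)) (fun _ _ => trivial) c0ctn0_0 c0ctn0_1 (List.forall_mem_nil _)
theorem c0cc0_e : ∀ i < 7, (dent c0cc0 c0ce_P (nat_lit 24)) i = 0 := allZ_sound0 c0cc0_e_0
theorem c0cc0_ok : DOK c0cc0 c0ce_P 24 := ⟨c0cc0_h, c0cc0_e⟩
theorem c0ctn1_1 : ∀ i < 24, (c0ctn1.ent H15.MM24.P c0cth_P c0v_P c0v_P c0ce_P (nat_lit 11) (nat_lit 4) H15.MM24.B c0ctl0 [c0ctl1, c0ctl2, c0ctl3, c0ctl4, c0ctl5, c0ctl6] (memO c0cc0)) i = 0 := allZ_sound0 c0ctn1_1_0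
theorem c0ctn1_t {G Ω : Type*} [Group G] [MulAction G Ω] {g : ℕ → G} {pt : ℕ → Ω}
    (M : Md g pt H15.MM24.P 24 11 H15.MM24.B 244823040) : TrO (gen (wds g c0cth_W) c0ctl0.K) (wds g c0v_W) (wds g c0v_W) 4 pt 24 (c0ctl0.Pt 0) (memO c0cc0) :=
  node M (c0ct_S0 M) (c0cth_act M) (c0v_act M) (c0v_act M) c0ctn1 ((c0ce_act M).mono (by decide)) (fun _ _ => trivial) c0ctn1_0 c0ctn1_1 (List.forall_mem_nil _)
theorem c0c {G Ω : Type*} [Group G] [MulAction G Ω] {g : ℕ → G} {pt : ℕ → Ω}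
    (M : Md g pt H15.MM24.P 24 11 H15.MM24.B 244823040) : Cen ⊤ (wds g c0v_W) 4 (wds g c0ce_W) pt 24 [c0cc0, c0cc6] :=
  (c0ct_S0 M).top ▸ Cen.lev M (c0ct_S0 M) (Cen.triv (c0ct_S1 M) (Cen.triv (c0ct_S2 M) (Cen.triv (c0ct_S3 M) (Cen.triv (c0ct_S4 M) (Cen.triv (c0ct_S5 M) (Cen.lev M (c0ct_S6 M) (Cen.bot) (c0ctn0_t M) (c0v_act M) (c0ce_act M) (fun _ _ => trivial) c0cc6_ok c0c_f6) (forced (c0ct_S5 M) (c0cth_act M) (c0v_act M) _ _ c0c_f5)) (forced (c0ct_S4 M) (c0cth_act M) (c0v_act M) _ _ c0c_f4)) (forced (c0ct_S3 M) (c0cth_act M) (c0v_act M) _ _ c0c_f3)) (forced (c0ct_S2 M) (c0cth_act M) (c0v_act M) _ _ c0c_f2)) (forced (c0ct_S1 M) (c0cth_act M) (c0v_act M) _ _ c0c_f1)) (c0ctn1_t M) (c0v_act M) (c0ce_act M) (fun _ _ => trivial) c0cc0_ok c0c_f0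
theorem c0c_eq {G Ω : Type*} [Group G] [MulAction G Ω] {g : ℕ → G} {pt : ℕ → Ω}
    (M : Md g pt H15.MM24.P 24 11 H15.MM24.B 244823040) : Subgroup.centralizer (gen (wds g c0v_W) 4) = gen (wds g c0ce_W) 4 ∧ Nat.card (gen (wds g c0ce_W) 4) = 16 :=
  c0c_c.1 ▸ c0c_c.2 ▸ ⟨(c0c M).cent, (c0c M).card M.inj⟩
theorem c0z_k : ∀ i < 4, (cmEnt c0v_P covr_P (nat_lit 4) H15.MM24.B (nat_lit 0)) i = 0 := allZ_sound0 c0z_k_0
theorem c0z {G Ω : Type*} [Group G] [MulAction G Ω] {g : ℕ → G} {pt : ℕ → Ω}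
    (M : Md g pt H15.MM24.P 24 11 H15.MM24.B 244823040) : (wds g covr_W) 0 ∈ Subgroup.centralizer ((gen (wds g c0v_W) 4) : Set G) :=
  cms M (c0v_act M) (covr_act M) (by decide) c0z_k
theorem c0n_k : ∀ k < 7, ∀ i < 4, (nrmEnt c0v_P c0ace_P (nat_lit 4) H15.MM24.B c0nW) k i = 0 := allZ2_sound c0n_k_a
theorem c0n {G Ω : Type*} [Group G] [MulAction G Ω] {g : ℕ → G} {pt : ℕ → Ω}
    (M : Md g pt H15.MM24.P 24 11 H15.MM24.B 244823040) : (gen (wds g c0ace_W) 7) ≤ Subgroup.normalizer ((gen (wds g c0v_W) 4) : Set G) :=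
  norms M (c0v_act M) (c0ace_act M) c0n_k
theorem c0m0_k : ∀ i < 4, (cmEnt c0v_P c0v_P (nat_lit 4) H15.MM24.B (nat_lit 0)) i = 0 := allZ_sound0 c0m0_k_0
theorem c0m0 {G Ω : Type*} [Group G] [MulAction G Ω] {g : ℕ → G} {pt : ℕ → Ω}
    (M : Md g pt H15.MM24.P 24 11 H15.MM24.B 244823040) : (wds g c0v_W) 0 ∈ Subgroup.centralizer ((gen (wds g c0v_W) 4) : Set G) :=
  cms M (c0v_act M) (c0v_act M) (by decide) c0m0_k
theorem c0m1_k : ∀ i < 4, (cmEnt c0v_P c0v_P (nat_lit 4) H15.MM24.B (nat_lit 1)) i = 0 := allZ_sound0 c0m1_k_0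
theorem c0m1 {G Ω : Type*} [Group G] [MulAction G Ω] {g : ℕ → G} {pt : ℕ → Ω}
    (M : Md g pt H15.MM24.P 24 11 H15.MM24.B 244823040) : (wds g c0v_W) 1 ∈ Subgroup.centralizer ((gen (wds g c0v_W) 4) : Set G) :=
  cms M (c0v_act M) (c0v_act M) (by decide) c0m1_k
theorem c0m2_k : ∀ i < 4, (cmEnt c0v_P c0v_P (nat_lit 4) H15.MM24.B (nat_lit 2)) i = 0 := allZ_sound0 c0m2_k_0
theorem c0m2 {G Ω : Type*} [Group G] [MulAction G Ω] {g : ℕ → G} {pt : ℕ → Ω}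
    (M : Md g pt H15.MM24.P 24 11 H15.MM24.B 244823040) : (wds g c0v_W) 2 ∈ Subgroup.centralizer ((gen (wds g c0v_W) 4) : Set G) :=
  cms M (c0v_act M) (c0v_act M) (by decide) c0m2_k
theorem c0m3_k : ∀ i < 4, (cmEnt c0v_P c0v_P (nat_lit 4) H15.MM24.B (nat_lit 3)) i = 0 := allZ_sound0 c0m3_k_0
theorem c0m3 {G Ω : Type*} [Group G] [MulAction G Ω] {g : ℕ → G} {pt : ℕ → Ω}
    (M : Md g pt H15.MM24.P 24 11 H15.MM24.B 244823040) : (wds g c0v_W) 3 ∈ Subgroup.centralizer ((gen (wds g c0v_W) 4) : Set G) :=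
  cms M (c0v_act M) (c0v_act M) (by decide) c0m3_k
theorem c0s {G Ω : Type*} [Group G] [MulAction G Ω] {g : ℕ → G} {pt : ℕ → Ω}
    (M : Md g pt H15.MM24.P 24 11 H15.MM24.B 244823040) : Nat.card (gen (wds g c0v_W) 4) ∣ 16 :=
  have := M.fin
  ((congrArg (fun H : Subgroup G => Nat.card H) (c0c_eq M).1).trans (c0c_eq M).2) ▸ Subgroup.card_dvd_of_le (gen_le.2 fun k hk => match k, hk with | 0, _ => c0m0 M | 1, _ => c0m1 M | 2, _ => c0m2 M | 3, _ => c0m3 M)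
theorem c0 {G Ω : Type*} [Group G] [MulAction G Ω] {g : ℕ → G} {pt : ℕ → Ω}
    (M : Md g pt H15.MM24.P 24 11 H15.MM24.B 244823040) : NC ((wds g covr_W) 0) (⊤ : Subgroup G) :=
  have := M.fin
  nc2 (a := 16) (b := 16) le_top (c0z M) ((c0a_z M).le.trans (c0n M)) (c0s M) ((congrArg (fun H : Subgroup G => Nat.card H) (c0c_eq M).1).trans (c0c_eq M).2) (by norm_num)
theorem c1ax_act {G Ω : Type*} [Group G] [MulAction G Ω] {g : ℕ → G} {pt : ℕ → Ω}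
    (M : Md g pt H15.MM24.P 24 11 H15.MM24.B 244823040) : Act (wds g c1ax_W) pt c1ax_P 24 1 :=
  M.wact c1ax_lt
theorem c1ath_act {G Ω : Type*} [Group G] [MulAction G Ω] {g : ℕ → G} {pt : ℕ → Ω}
    (M : Md g pt H15.MM24.P 24 11 H15.MM24.B 244823040) : Act (wds g c1ath_W) pt c1ath_P 24 16 :=
  M.wact c1ath_lt
theorem c1atl0_e : ∀ i < 23, (dent c1atl0 c1ath_P (nat_lit 24)) i = 0 := allZ_sound0 c1atl0_e_0
theorem c1atl0_ok : DOK c1atl0 c1ath_P 24 := ⟨c1atl0_h, c1atl0_e⟩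
theorem c1atl1_e : ∀ i < 22, (dent c1atl1 c1ath_P (nat_lit 24)) i = 0 := allZ_sound0 c1atl1_e_0
theorem c1atl1_ok : DOK c1atl1 c1ath_P 24 := ⟨c1atl1_h, c1atl1_e⟩
theorem c1atl2_e : ∀ i < 21, (dent c1atl2 c1ath_P (nat_lit 24)) i = 0 := allZ_sound0 c1atl2_e_0
theorem c1atl2_ok : DOK c1atl2 c1ath_P 24 := ⟨c1atl2_h, c1atl2_e⟩
theorem c1atl3_e : ∀ i < 20, (dent c1atl3 c1ath_P (nat_lit 24)) i = 0 := allZ_sound0 c1atl3_e_0
theorem c1atl3_ok : DOK c1atl3 c1ath_P 24 := ⟨c1atl3_h, c1atl3_e⟩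
theorem c1atl4_e : ∀ i < 19, (dent c1atl4 c1ath_P (nat_lit 24)) i = 0 := allZ_sound0 c1atl4_e_0
theorem c1atl4_ok : DOK c1atl4 c1ath_P 24 := ⟨c1atl4_h, c1atl4_e⟩
theorem c1atl5_e : ∀ i < 15, (dent c1atl5 c1ath_P (nat_lit 24)) i = 0 := allZ_sound0 c1atl5_e_0
theorem c1atl5_ok : DOK c1atl5 c1ath_P 24 := ⟨c1atl5_h, c1atl5_e⟩
theorem c1atl6_e : ∀ i < 2, (dent c1atl6 c1ath_P (nat_lit 24)) i = 0 := allZ_sound0 c1atl6_e_0
theorem c1atl6_ok : DOK c1atl6 c1ath_P 24 := ⟨c1atl6_h, c1atl6_e⟩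
theorem c1at_low {G Ω : Type*} [Group G] [MulAction G Ω] {g : ℕ → G} {pt : ℕ → Ω}
    (M : Md g pt H15.MM24.P 24 11 H15.MM24.B 244823040) : SLow (gi (wds g c1ath_W)) pt 24 [c1atl0, c1atl1, c1atl2, c1atl3, c1atl4, c1atl5, c1atl6] :=
  (((((((SLow.nil).cons c1atl6_ok (c1ath_act M) c1at_f6).cons c1atl5_ok (c1ath_act M) c1at_f5).cons c1atl4_ok (c1ath_act M) c1at_f4).cons c1atl3_ok (c1ath_act M) c1at_f3).cons c1atl2_ok (c1ath_act M) c1at_f2).cons c1atl1_ok (c1ath_act M) c1at_f1).cons c1atl0_ok (c1ath_act M) c1at_f0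
theorem c1at_S0 {G Ω : Type*} [Group G] [MulAction G Ω] {g : ℕ → G} {pt : ℕ → Ω}
    (M : Md g pt H15.MM24.P 24 11 H15.MM24.B 244823040) : Stage ⊤ (wds g c1ath_W) pt 24 [c1atl0, c1atl1, c1atl2, c1atl3, c1atl4, c1atl5, c1atl6] [] :=
  M.stage (c1at_low M) c1at_c
theorem c1at_S1 {G Ω : Type*} [Group G] [MulAction G Ω] {g : ℕ → G} {pt : ℕ → Ω}
    (M : Md g pt H15.MM24.P 24 11 H15.MM24.B 244823040) : Stage ⊤ (wds g c1ath_W) pt 24 [c1atl1, c1atl2, c1atl3, c1atl4, c1atl5, c1atl6] [c1atl0.Pt 0] :=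
  (c1at_S0 M).next
theorem c1at_S2 {G Ω : Type*} [Group G] [MulAction G Ω] {g : ℕ → G} {pt : ℕ → Ω}
    (M : Md g pt H15.MM24.P 24 11 H15.MM24.B 244823040) : Stage ⊤ (wds g c1ath_W) pt 24 [c1atl2, c1atl3, c1atl4, c1atl5, c1atl6] [c1atl1.Pt 0, c1atl0.Pt 0] :=
  (c1at_S1 M).next
theorem c1at_S3 {G Ω : Type*} [Group G] [MulAction G Ω] {g : ℕ → G} {pt : ℕ → Ω}
    (M : Md g pt H15.MM24.P 24 11 H15.MM24.B 244823040) : Stage ⊤ (wds g c1ath_W) pt 24 [c1atl3, c1atl4, c1atl5, c1atl6] [c1atl2.Pt 0, c1atl1.Pt 0, c1atl0.Pt 0] :=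
  (c1at_S2 M).next
theorem c1at_S4 {G Ω : Type*} [Group G] [MulAction G Ω] {g : ℕ → G} {pt : ℕ → Ω}
    (M : Md g pt H15.MM24.P 24 11 H15.MM24.B 244823040) : Stage ⊤ (wds g c1ath_W) pt 24 [c1atl4, c1atl5, c1atl6] [c1atl3.Pt 0, c1atl2.Pt 0, c1atl1.Pt 0, c1atl0.Pt 0] :=
  (c1at_S3 M).next
theorem c1at_S5 {G Ω : Type*} [Group G] [MulAction G Ω] {g : ℕ → G} {pt : ℕ → Ω}
    (M : Md g pt H15.MM24.P 24 11 H15.MM24.B 244823040) : Stage ⊤ (wds g c1ath_W) pt 24 [c1atl5, c1atl6] [c1atl4.Pt 0, c1atl3.Pt 0, c1atl2.Pt 0, c1atl1.Pt 0, c1atl0.Pt 0] :=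
  (c1at_S4 M).next
theorem c1at_S6 {G Ω : Type*} [Group G] [MulAction G Ω] {g : ℕ → G} {pt : ℕ → Ω}
    (M : Md g pt H15.MM24.P 24 11 H15.MM24.B 244823040) : Stage ⊤ (wds g c1ath_W) pt 24 [c1atl6] [c1atl5.Pt 0, c1atl4.Pt 0, c1atl3.Pt 0, c1atl2.Pt 0, c1atl1.Pt 0, c1atl0.Pt 0] :=
  (c1at_S5 M).next
theorem c1at_S7 {G Ω : Type*} [Group G] [MulAction G Ω] {g : ℕ → G} {pt : ℕ → Ω}
    (M : Md g pt H15.MM24.P 24 11 H15.MM24.B 244823040) : Stage ⊤ (wds g c1ath_W) pt 24 [] [c1atl6.Pt 0, c1atl5.Pt 0, c1atl4.Pt 0, c1atl3.Pt 0, c1atl2.Pt 0, c1atl1.Pt 0, c1atl0.Pt 0] :=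
  (c1at_S6 M).next
theorem c1ace_act {G Ω : Type*} [Group G] [MulAction G Ω] {g : ℕ → G} {pt : ℕ → Ω}
    (M : Md g pt H15.MM24.P 24 11 H15.MM24.B 244823040) : Act (wds g c1ace_W) pt c1ace_P 24 5 :=
  M.wact c1ace_lt
theorem c1atn0_1 : ∀ i < 3, (c1atn0.ent H15.MM24.P c1ath_P c1ax_P c1ax_P c1ace_P (nat_lit 11) (nat_lit 1) H15.MM24.B c1atl6 [] (fun w => Nat.xor w (c1atl6.Pt (nat_lit 0)))) i = 0 := allZ_sound0 c1atn0_1_0
theorem c1atn0_t {G Ω : Type*} [Group G] [MulAction G Ω] {g : ℕ → G} {pt : ℕ → Ω}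
    (M : Md g pt H15.MM24.P 24 11 H15.MM24.B 244823040) : TrO (gen (wds g c1ath_W) c1atl6.K) (wds g c1ax_W) (wds g c1ax_W) 1 pt 24 (c1atl6.Pt 0) (fun w => Nat.xor w (c1atl6.Pt (nat_lit 0))) :=
  node M (c1at_S6 M) (c1ath_act M) (c1ax_act M) (c1ax_act M) c1atn0 ((c1ace_act M).mono (by decide)) (fun _ _ => trivial) c1atn0_0 c1atn0_1 (List.forall_mem_nil _)
theorem c1acc4_e : ∀ i < 15, (dent c1acc4 c1ace_P (nat_lit 24)) i = 0 := allZ_sound0 c1acc4_e_0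
theorem c1acc4_ok : DOK c1acc4 c1ace_P 24 := ⟨c1acc4_h, c1acc4_e⟩
theorem c1atn1_1 : ∀ i < 20, (c1atn1.ent H15.MM24.P c1ath_P c1ax_P c1ax_P c1ace_P (nat_lit 11) (nat_lit 1) H15.MM24.B c1atl4 [c1atl5, c1atl6] (memO c1acc4)) i = 0 := allZ_sound0 c1atn1_1_0
theorem c1atn1_t {G Ω : Type*} [Group G] [MulAction G Ω] {g : ℕ → G} {pt : ℕ → Ω}
    (M : Md g pt H15.MM24.P 24 11 H15.MM24.B 244823040) : TrO (gen (wds g c1ath_W) c1atl4.K) (wds g c1ax_W) (wds g c1ax_W) 1 pt 24 (c1atl4.Pt 0) (memO c1acc4) :=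
  node M (c1at_S4 M) (c1ath_act M) (c1ax_act M) (c1ax_act M) c1atn1 ((c1ace_act M).mono (by decide)) (fun _ _ => trivial) c1atn1_0 c1atn1_1 (List.forall_mem_nil _)
theorem c1acc2_e : ∀ i < 19, (dent c1acc2 c1ace_P (nat_lit 24)) i = 0 := allZ_sound0 c1acc2_e_0
theorem c1acc2_ok : DOK c1acc2 c1ace_P 24 := ⟨c1acc2_h, c1acc2_e⟩
theorem c1atn2y8_act {G Ω : Type*} [Group G] [MulAction G Ω] {g : ℕ → G} {pt : ℕ → Ω}
    (M : Md g pt H15.MM24.P 24 11 H15.MM24.B 244823040) : Act (wds g c1atn2y8_W) pt c1atn2y8_P 24 1 :=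
  M.wact c1atn2y8_lt
theorem c1atr3k_act {G Ω : Type*} [Group G] [MulAction G Ω] {g : ℕ → G} {pt : ℕ → Ω}
    (M : Md g pt H15.MM24.P 24 11 H15.MM24.B 244823040) : Act (wds g c1atr3k_W) pt c1atr3k_P 24 3 :=
  M.wact c1atr3k_lt
theorem c1atn3_1 : ∀ i < 20, (c1atn3.ent H15.MM24.P c1ath_P c1ax_P c1atn2y8_P c1atr3k_P (nat_lit 11) (nat_lit 1) H15.MM24.B c1atl4 [c1atl5, c1atl6] (fun _ => nat_lit 1)) i = 0 := allZ_sound0 c1atn3_1_0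
theorem c1atn3_t {G Ω : Type*} [Group G] [MulAction G Ω] {g : ℕ → G} {pt : ℕ → Ω}
    (M : Md g pt H15.MM24.P 24 11 H15.MM24.B 244823040) : TrO (gen (wds g c1ath_W) c1atl4.K) (wds g c1ax_W) (wds g c1atn2y8_W) 1 pt 24 (c1atl4.Pt 0) (fun _ => nat_lit 1) :=
  node M (c1at_S4 M) (c1ath_act M) (c1ax_act M) (c1atn2y8_act M) c1atn3 ((c1atr3k_act M).mono (by decide)) (fun _ _ => trivial) c1atn3_0 c1atn3_1 (List.forall_mem_nil _)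
theorem c1atr3 {G Ω : Type*} [Group G] [MulAction G Ω] {g : ℕ → G} {pt : ℕ → Ω}
    (M : Md g pt H15.MM24.P 24 11 H15.MM24.B 244823040) : Ref (gen (wds g c1ath_W) (topK [c1atl4, c1atl5, c1atl6])) (wds g c1ax_W) (wds g c1atn2y8_W) 1 :=
  (c1atn3_t M).ref
theorem c1atn2_1 : ∀ i < 22, (c1atn2.ent H15.MM24.P c1ath_P c1ax_P c1ax_P c1ace_P (nat_lit 11) (nat_lit 1) H15.MM24.B c1atl2 [c1atl3, c1atl4, c1atl5, c1atl6] (memO c1acc2)) i = 0 := allZ_sound0 c1atn2_1_0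
theorem c1atn2_t {G Ω : Type*} [Group G] [MulAction G Ω] {g : ℕ → G} {pt : ℕ → Ω}
    (M : Md g pt H15.MM24.P 24 11 H15.MM24.B 244823040) : TrO (gen (wds g c1ath_W) c1atl2.K) (wds g c1ax_W) (wds g c1ax_W) 1 pt 24 (c1atl2.Pt 0) (memO c1acc2) :=
  node M (c1at_S2 M) (c1ath_act M) (c1ax_act M) (c1ax_act M) c1atn2 ((c1ace_act M).mono (by decide)) (fun _ _ => trivial) c1atn2_0 c1atn2_1 (List.forall_mem_cons.2 ⟨c1atr3 M, List.forall_mem_nil _⟩)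
theorem c1acc0_e : ∀ i < 23, (dent c1acc0 c1ace_P (nat_lit 24)) i = 0 := allZ_sound0 c1acc0_e_0
theorem c1acc0_ok : DOK c1acc0 c1ace_P 24 := ⟨c1acc0_h, c1acc0_e⟩
theorem c1atn4_1 : ∀ i < 24, (c1atn4.ent H15.MM24.P c1ath_P c1ax_P c1ax_P c1ace_P (nat_lit 11) (nat_lit 1) H15.MM24.B c1atl0 [c1atl1, c1atl2, c1atl3, c1atl4, c1atl5, c1atl6] (memO c1acc0)) i = 0 := allZ_sound0 c1atn4_1_0
theorem c1atn4_t {G Ω : Type*} [Group G] [MulAction G Ω] {g : ℕ → G} {pt : ℕ → Ω}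
    (M : Md g pt H15.MM24.P 24 11 H15.MM24.B 244823040) : TrO (gen (wds g c1ath_W) c1atl0.K) (wds g c1ax_W) (wds g c1ax_W) 1 pt 24 (c1atl0.Pt 0) (memO c1acc0) :=
  node M (c1at_S0 M) (c1ath_act M) (c1ax_act M) (c1ax_act M) c1atn4 ((c1ace_act M).mono (by decide)) (fun _ _ => trivial) c1atn4_0 c1atn4_1 (List.forall_mem_nil _)
theorem c1ac {G Ω : Type*} [Group G] [MulAction G Ω] {g : ℕ → G} {pt : ℕ → Ω}
    (M : Md g pt H15.MM24.P 24 11 H15.MM24.B 244823040) : Cen ⊤ (wds g c1ax_W) 1 (wds g c1ace_W) pt 24 [c1acc0, c1acc2, c1acc4] :=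
  (c1at_S0 M).top ▸ Cen.lev M (c1at_S0 M) (Cen.triv (c1at_S1 M) (Cen.lev M (c1at_S2 M) (Cen.triv (c1at_S3 M) (Cen.lev M (c1at_S4 M) (Cen.triv (c1at_S5 M) (Cen.triv (c1at_S6 M) (Cen.bot) (c1atn0_t M)) (forced (c1at_S5 M) (c1ath_act M) (c1ax_act M) _ _ c1ac_f5)) (c1atn1_t M) (c1ax_act M) (c1ace_act M) (fun _ _ => trivial) c1acc4_ok c1ac_f4) (forced (c1at_S3 M) (c1ath_act M) (c1ax_act M) _ _ c1ac_f3)) (c1atn2_t M) (c1ax_act M) (c1ace_act M) (fun _ _ => trivial) c1acc2_ok c1ac_f2) (forced (c1at_S1 M) (c1ath_act M) (c1ax_act M) _ _ c1ac_f1)) (c1atn4_t M) (c1ax_act M) (c1ace_act M) (fun _ _ => trivial) c1acc0_ok c1ac_f0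
theorem c1ac_card {G Ω : Type*} [Group G] [MulAction G Ω] {g : ℕ → G} {pt : ℕ → Ω}
    (M : Md g pt H15.MM24.P 24 11 H15.MM24.B 244823040) : Nat.card (Subgroup.centralizer {(wds g c1ax_W) 0}) = 7680 :=
  (c1ac M).card_cent1 M.inj c1ac_c.1
theorem c1ac_eq {G Ω : Type*} [Group G] [MulAction G Ω] {g : ℕ → G} {pt : ℕ → Ω}
    (M : Md g pt H15.MM24.P 24 11 H15.MM24.B 244823040) : Subgroup.centralizer (gen (wds g c1ax_W) 1) = gen (wds g c1ace_W) 5 ∧ Nat.card (gen (wds g c1ace_W) 5) = 7680 :=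
  c1ac_c.1 ▸ c1ac_c.2 ▸ ⟨(c1ac M).cent, (c1ac M).card M.inj⟩
theorem c1a_z {G Ω : Type*} [Group G] [MulAction G Ω] {g : ℕ → G} {pt : ℕ → Ω}
    (M : Md g pt H15.MM24.P 24 11 H15.MM24.B 244823040) : Subgroup.centralizer {(wds g c1ax_W) 0} = (gen (wds g c1ace_W) 5) :=
  c1ac_c.2 ▸ (c1ac M).cent1
theorem c1v_act {G Ω : Type*} [Group G] [MulAction G Ω] {g : ℕ → G} {pt : ℕ → Ω}
    (M : Md g pt H15.MM24.P 24 11 H15.MM24.B 244823040) : Act (wds g c1v_W) pt c1v_P 24 6 :=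
  M.wact c1v_lt
theorem c1cth_act {G Ω : Type*} [Group G] [MulAction G Ω] {g : ℕ → G} {pt : ℕ → Ω}
    (M : Md g pt H15.MM24.P 24 11 H15.MM24.B 244823040) : Act (wds g c1cth_W) pt c1cth_P 24 18 :=
  M.wact c1cth_lt
theorem c1ctl0_e : ∀ i < 23, (dent c1ctl0 c1cth_P (nat_lit 24)) i = 0 := allZ_sound0 c1ctl0_e_0
theorem c1ctl0_ok : DOK c1ctl0 c1cth_P 24 := ⟨c1ctl0_h, c1ctl0_e⟩
theorem c1ctl1_e : ∀ i < 22, (dent c1ctl1 c1cth_P (nat_lit 24)) i = 0 := allZ_sound0 c1ctl1_e_0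
theorem c1ctl1_ok : DOK c1ctl1 c1cth_P 24 := ⟨c1ctl1_h, c1ctl1_e⟩
theorem c1ctl2_e : ∀ i < 21, (dent c1ctl2 c1cth_P (nat_lit 24)) i = 0 := allZ_sound0 c1ctl2_e_0
theorem c1ctl2_ok : DOK c1ctl2 c1cth_P 24 := ⟨c1ctl2_h, c1ctl2_e⟩
theorem c1ctl3_e : ∀ i < 20, (dent c1ctl3 c1cth_P (nat_lit 24)) i = 0 := allZ_sound0 c1ctl3_e_0
theorem c1ctl3_ok : DOK c1ctl3 c1cth_P 24 := ⟨c1ctl3_h, c1ctl3_e⟩
theorem c1ctl4_e : ∀ i < 19, (dent c1ctl4 c1cth_P (nat_lit 24)) i = 0 := allZ_sound0 c1ctl4_e_0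
theorem c1ctl4_ok : DOK c1ctl4 c1cth_P 24 := ⟨c1ctl4_h, c1ctl4_e⟩
theorem c1ctl5_e : ∀ i < 2, (dent c1ctl5 c1cth_P (nat_lit 24)) i = 0 := allZ_sound0 c1ctl5_e_0
theorem c1ctl5_ok : DOK c1ctl5 c1cth_P 24 := ⟨c1ctl5_h, c1ctl5_e⟩
theorem c1ctl6_e : ∀ i < 15, (dent c1ctl6 c1cth_P (nat_lit 24)) i = 0 := allZ_sound0 c1ctl6_e_0
theorem c1ctl6_ok : DOK c1ctl6 c1cth_P 24 := ⟨c1ctl6_h, c1ctl6_e⟩
theorem c1ct_low {G Ω : Type*} [Group G] [MulAction G Ω] {g : ℕ → G} {pt : ℕ → Ω}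
    (M : Md g pt H15.MM24.P 24 11 H15.MM24.B 244823040) : SLow (gi (wds g c1cth_W)) pt 24 [c1ctl0, c1ctl1, c1ctl2, c1ctl3, c1ctl4, c1ctl5, c1ctl6] :=
  (((((((SLow.nil).cons c1ctl6_ok (c1cth_act M) c1ct_f6).cons c1ctl5_ok (c1cth_act M) c1ct_f5).cons c1ctl4_ok (c1cth_act M) c1ct_f4).cons c1ctl3_ok (c1cth_act M) c1ct_f3).cons c1ctl2_ok (c1cth_act M) c1ct_f2).cons c1ctl1_ok (c1cth_act M) c1ct_f1).cons c1ctl0_ok (c1cth_act M) c1ct_f0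
theorem c1ct_S0 {G Ω : Type*} [Group G] [MulAction G Ω] {g : ℕ → G} {pt : ℕ → Ω}
    (M : Md g pt H15.MM24.P 24 11 H15.MM24.B 244823040) : Stage ⊤ (wds g c1cth_W) pt 24 [c1ctl0, c1ctl1, c1ctl2, c1ctl3, c1ctl4, c1ctl5, c1ctl6] [] :=
  M.stage (c1ct_low M) c1ct_c
theorem c1ct_S1 {G Ω : Type*} [Group G] [MulAction G Ω] {g : ℕ → G} {pt : ℕ → Ω}
    (M : Md g pt H15.MM24.P 24 11 H15.MM24.B 244823040) : Stage ⊤ (wds g c1cth_W) pt 24 [c1ctl1, c1ctl2, c1ctl3, c1ctl4, c1ctl5, c1ctl6] [c1ctl0.Pt 0] :=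
  (c1ct_S0 M).next
theorem c1ct_S2 {G Ω : Type*} [Group G] [MulAction G Ω] {g : ℕ → G} {pt : ℕ → Ω}
    (M : Md g pt H15.MM24.P 24 11 H15.MM24.B 244823040) : Stage ⊤ (wds g c1cth_W) pt 24 [c1ctl2, c1ctl3, c1ctl4, c1ctl5, c1ctl6] [c1ctl1.Pt 0, c1ctl0.Pt 0] :=
  (c1ct_S1 M).next
theorem c1ct_S3 {G Ω : Type*} [Group G] [MulAction G Ω] {g : ℕ → G} {pt : ℕ → Ω}
    (M : Md g pt H15.MM24.P 24 11 H15.MM24.B 244823040) : Stage ⊤ (wds g c1cth_W) pt 24 [c1ctl3, c1ctl4, c1ctl5, c1ctl6] [c1ctl2.Pt 0, c1ctl1.Pt 0, c1ctl0.Pt 0] :=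
  (c1ct_S2 M).next
theorem c1ct_S4 {G Ω : Type*} [Group G] [MulAction G Ω] {g : ℕ → G} {pt : ℕ → Ω}
    (M : Md g pt H15.MM24.P 24 11 H15.MM24.B 244823040) : Stage ⊤ (wds g c1cth_W) pt 24 [c1ctl4, c1ctl5, c1ctl6] [c1ctl3.Pt 0, c1ctl2.Pt 0, c1ctl1.Pt 0, c1ctl0.Pt 0] :=
  (c1ct_S3 M).next
theorem c1ct_S5 {G Ω : Type*} [Group G] [MulAction G Ω] {g : ℕ → G} {pt : ℕ → Ω}
    (M : Md g pt H15.MM24.P 24 11 H15.MM24.B 244823040) : Stage ⊤ (wds g c1cth_W) pt 24 [c1ctl5, c1ctl6] [c1ctl4.Pt 0, c1ctl3.Pt 0, c1ctl2.Pt 0, c1ctl1.Pt 0, c1ctl0.Pt 0] :=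
  (c1ct_S4 M).next
theorem c1ct_S6 {G Ω : Type*} [Group G] [MulAction G Ω] {g : ℕ → G} {pt : ℕ → Ω}
    (M : Md g pt H15.MM24.P 24 11 H15.MM24.B 244823040) : Stage ⊤ (wds g c1cth_W) pt 24 [c1ctl6] [c1ctl5.Pt 0, c1ctl4.Pt 0, c1ctl3.Pt 0, c1ctl2.Pt 0, c1ctl1.Pt 0, c1ctl0.Pt 0] :=
  (c1ct_S5 M).next
theorem c1ct_S7 {G Ω : Type*} [Group G] [MulAction G Ω] {g : ℕ → G} {pt : ℕ → Ω}
    (M : Md g pt H15.MM24.P 24 11 H15.MM24.B 244823040) : Stage ⊤ (wds g c1cth_W) pt 24 [] [c1ctl6.Pt 0, c1ctl5.Pt 0, c1ctl4.Pt 0, c1ctl3.Pt 0, c1ctl2.Pt 0, c1ctl1.Pt 0, c1ctl0.Pt 0] :=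
  (c1ct_S6 M).next
theorem c1ce_act {G Ω : Type*} [Group G] [MulAction G Ω] {g : ℕ → G} {pt : ℕ → Ω}
    (M : Md g pt H15.MM24.P 24 11 H15.MM24.B 244823040) : Act (wds g c1ce_W) pt c1ce_P 24 6 :=
  M.wact c1ce_lt
theorem c1cc6_e : ∀ i < 3, (dent c1cc6 c1ce_P (nat_lit 24)) i = 0 := allZ_sound0 c1cc6_e_0
theorem c1cc6_ok : DOK c1cc6 c1ce_P 24 := ⟨c1cc6_h, c1cc6_e⟩
theorem c1ctn0_1 : ∀ i < 16, (c1ctn0.ent H15.MM24.P c1cth_P c1v_P c1v_P c1ce_P (nat_lit 11) (nat_lit 6) H15.MM24.B c1ctl6 [] (memO c1cc6)) i = 0 := allZ_sound0 c1ctn0_1_0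
theorem c1ctn0_t {G Ω : Type*} [Group G] [MulAction G Ω] {g : ℕ → G} {pt : ℕ → Ω}
    (M : Md g pt H15.MM24.P 24 11 H15.MM24.B 244823040) : TrO (gen (wds g c1cth_W) c1ctl6.K) (wds g c1v_W) (wds g c1v_W) 6 pt 24 (c1ctl6.Pt 0) (memO c1cc6) :=
  node M (c1ct_S6 M) (c1cth_act M) (c1v_act M) (c1v_act M) c1ctn0 ((c1ce_act M).mono (by decide)) (fun _ _ => trivial) c1ctn0_0 c1ctn0_1 (List.forall_mem_nil _)
theorem c1cc4_e : ∀ i < 3, (dent c1cc4 c1ce_P (nat_lit 24)) i = 0 := allZ_sound0 c1cc4_e_0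
theorem c1cc4_ok : DOK c1cc4 c1ce_P 24 := ⟨c1cc4_h, c1cc4_e⟩
theorem c1ctn1_1 : ∀ i < 20, (c1ctn1.ent H15.MM24.P c1cth_P c1v_P c1v_P c1ce_P (nat_lit 11) (nat_lit 6) H15.MM24.B c1ctl4 [c1ctl5, c1ctl6] (memO c1cc4)) i = 0 := allZ_sound0 c1ctn1_1_0
theorem c1ctn1_t {G Ω : Type*} [Group G] [MulAction G Ω] {g : ℕ → G} {pt : ℕ → Ω}
    (M : Md g pt H15.MM24.P 24 11 H15.MM24.B 244823040) : TrO (gen (wds g c1cth_W) c1ctl4.K) (wds g c1v_W) (wds g c1v_W) 6 pt 24 (c1ctl4.Pt 0) (memO c1cc4) :=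
  node M (c1ct_S4 M) (c1cth_act M) (c1v_act M) (c1v_act M) c1ctn1 ((c1ce_act M).mono (by decide)) (fun _ _ => trivial) c1ctn1_0 c1ctn1_1 (List.forall_mem_nil _)
theorem c1cc0_e : ∀ i < 3, (dent c1cc0 c1ce_P (nat_lit 24)) i = 0 := allZ_sound0 c1cc0_e_0
theorem c1cc0_ok : DOK c1cc0 c1ce_P 24 := ⟨c1cc0_h, c1cc0_e⟩
theorem c1ctn2_1 : ∀ i < 24, (c1ctn2.ent H15.MM24.P c1cth_P c1v_P c1v_P c1ce_P (nat_lit 11) (nat_lit 6) H15.MM24.B c1ctl0 [c1ctl1, c1ctl2, c1ctl3, c1ctl4, c1ctl5, c1ctl6] (memO c1cc0)) i = 0 := allZ_sound0 c1ctn2_1_0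
theorem c1ctn2_t {G Ω : Type*} [Group G] [MulAction G Ω] {g : ℕ → G} {pt : ℕ → Ω}
    (M : Md g pt H15.MM24.P 24 11 H15.MM24.B 244823040) : TrO (gen (wds g c1cth_W) c1ctl0.K) (wds g c1v_W) (wds g c1v_W) 6 pt 24 (c1ctl0.Pt 0) (memO c1cc0) :=
  node M (c1ct_S0 M) (c1cth_act M) (c1v_act M) (c1v_act M) c1ctn2 ((c1ce_act M).mono (by decide)) (fun _ _ => trivial) c1ctn2_0 c1ctn2_1 (List.forall_mem_nil _)
theorem c1c {G Ω : Type*} [Group G] [MulAction G Ω] {g : ℕ → G} {pt : ℕ → Ω}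
    (M : Md g pt H15.MM24.P 24 11 H15.MM24.B 244823040) : Cen ⊤ (wds g c1v_W) 6 (wds g c1ce_W) pt 24 [c1cc0, c1cc4, c1cc6] :=
  (c1ct_S0 M).top ▸ Cen.lev M (c1ct_S0 M) (Cen.triv (c1ct_S1 M) (Cen.triv (c1ct_S2 M) (Cen.triv (c1ct_S3 M) (Cen.lev M (c1ct_S4 M) (Cen.triv (c1ct_S5 M) (Cen.lev M (c1ct_S6 M) (Cen.bot) (c1ctn0_t M) (c1v_act M) (c1ce_act M) (fun _ _ => trivial) c1cc6_ok c1c_f6) (forced (c1ct_S5 M) (c1cth_act M) (c1v_act M) _ _ c1c_f5)) (c1ctn1_t M) (c1v_act M) (c1ce_act M) (fun _ _ => trivial) c1cc4_ok c1c_f4) (forced (c1ct_S3 M) (c1cth_act M) (c1v_act M) _ _ c1c_f3)) (forced (c1ct_S2 M) (c1cth_act M) (c1v_act M) _ _ c1c_f2)) (forced (c1ct_S1 M) (c1cth_act M) (c1v_act M) _ _ c1c_f1)) (c1ctn2_t M) (c1v_act M) (c1ce_act M) (fun _ _ => trivial) c1cc0_ok c1c_f0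
theorem c1c_eq {G Ω : Type*} [Group G] [MulAction G Ω] {g : ℕ → G} {pt : ℕ → Ω}
    (M : Md g pt H15.MM24.P 24 11 H15.MM24.B 244823040) : Subgroup.centralizer (gen (wds g c1v_W) 6) = gen (wds g c1ce_W) 6 ∧ Nat.card (gen (wds g c1ce_W) 6) = 64 :=
  c1c_c.1 ▸ c1c_c.2 ▸ ⟨(c1c M).cent, (c1c M).card M.inj⟩
theorem c1z_k : ∀ i < 6, (cmEnt c1v_P covr_P (nat_lit 6) H15.MM24.B (nat_lit 1)) i = 0 := allZ_sound0 c1z_k_0
theorem c1z {G Ω : Type*} [Group G] [MulAction G Ω] {g : ℕ → G} {pt : ℕ → Ω}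
    (M : Md g pt H15.MM24.P 24 11 H15.MM24.B 244823040) : (wds g covr_W) 1 ∈ Subgroup.centralizer ((gen (wds g c1v_W) 6) : Set G) :=
  cms M (c1v_act M) (covr_act M) (by decide) c1z_k
theorem c1n_k : ∀ k < 5, ∀ i < 6, (nrmEnt c1v_P c1ace_P (nat_lit 6) H15.MM24.B c1nW) k i = 0 := allZ2_sound c1n_k_a
theorem c1n {G Ω : Type*} [Group G] [MulAction G Ω] {g : ℕ → G} {pt : ℕ → Ω}
    (M : Md g pt H15.MM24.P 24 11 H15.MM24.B 244823040) : (gen (wds g c1ace_W) 5) ≤ Subgroup.normalizer ((gen (wds g c1v_W) 6) : Set G) :=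
  norms M (c1v_act M) (c1ace_act M) c1n_k
theorem c1m0_k : ∀ i < 6, (cmEnt c1v_P c1v_P (nat_lit 6) H15.MM24.B (nat_lit 0)) i = 0 := allZ_sound0 c1m0_k_0
theorem c1m0 {G Ω : Type*} [Group G] [MulAction G Ω] {g : ℕ → G} {pt : ℕ → Ω}
    (M : Md g pt H15.MM24.P 24 11 H15.MM24.B 244823040) : (wds g c1v_W) 0 ∈ Subgroup.centralizer ((gen (wds g c1v_W) 6) : Set G) :=
  cms M (c1v_act M) (c1v_act M) (by decide) c1m0_k
theorem c1m1_k : ∀ i < 6, (cmEnt c1v_P c1v_P (nat_lit 6) H15.MM24.B (nat_lit 1)) i = 0 := allZ_sound0 c1m1_k_0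
theorem c1m1 {G Ω : Type*} [Group G] [MulAction G Ω] {g : ℕ → G} {pt : ℕ → Ω}
    (M : Md g pt H15.MM24.P 24 11 H15.MM24.B 244823040) : (wds g c1v_W) 1 ∈ Subgroup.centralizer ((gen (wds g c1v_W) 6) : Set G) :=
  cms M (c1v_act M) (c1v_act M) (by decide) c1m1_k
theorem c1m2_k : ∀ i < 6, (cmEnt c1v_P c1v_P (nat_lit 6) H15.MM24.B (nat_lit 2)) i = 0 := allZ_sound0 c1m2_k_0
theorem c1m2 {G Ω : Type*} [Group G] [MulAction G Ω] {g : ℕ → G} {pt : ℕ → Ω}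
    (M : Md g pt H15.MM24.P 24 11 H15.MM24.B 244823040) : (wds g c1v_W) 2 ∈ Subgroup.centralizer ((gen (wds g c1v_W) 6) : Set G) :=
  cms M (c1v_act M) (c1v_act M) (by decide) c1m2_k
theorem c1m3_k : ∀ i < 6, (cmEnt c1v_P c1v_P (nat_lit 6) H15.MM24.B (nat_lit 3)) i = 0 := allZ_sound0 c1m3_k_0
theorem c1m3 {G Ω : Type*} [Group G] [MulAction G Ω] {g : ℕ → G} {pt : ℕ → Ω}
    (M : Md g pt H15.MM24.P 24 11 H15.MM24.B 244823040) : (wds g c1v_W) 3 ∈ Subgroup.centralizer ((gen (wds g c1v_W) 6) : Set G) :=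
  cms M (c1v_act M) (c1v_act M) (by decide) c1m3_k
theorem c1m4_k : ∀ i < 6, (cmEnt c1v_P c1v_P (nat_lit 6) H15.MM24.B (nat_lit 4)) i = 0 := allZ_sound0 c1m4_k_0
theorem c1m4 {G Ω : Type*} [Group G] [MulAction G Ω] {g : ℕ → G} {pt : ℕ → Ω}
    (M : Md g pt H15.MM24.P 24 11 H15.MM24.B 244823040) : (wds g c1v_W) 4 ∈ Subgroup.centralizer ((gen (wds g c1v_W) 6) : Set G) :=
  cms M (c1v_act M) (c1v_act M) (by decide) c1m4_k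
theorem c1m5_k : ∀ i < 6, (cmEnt c1v_P c1v_P (nat_lit 6) H15.MM24.B (nat_lit 5)) i = 0 := allZ_sound0 c1m5_k_0
theorem c1m5 {G Ω : Type*} [Group G] [MulAction G Ω] {g : ℕ → G} {pt : ℕ → Ω}
    (M : Md g pt H15.MM24.P 24 11 H15.MM24.B 244823040) : (wds g c1v_W) 5 ∈ Subgroup.centralizer ((gen (wds g c1v_W) 6) : Set G) :=
  cms M (c1v_act M) (c1v_act M) (by decide) c1m5_k
theorem c1s {G Ω : Type*} [Group G] [MulAction G Ω] {g : ℕ → G} {pt : ℕ → Ω}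
    (M : Md g pt H15.MM24.P 24 11 H15.MM24.B 244823040) : Nat.card (gen (wds g c1v_W) 6) ∣ 64 :=
  have := M.fin
  ((congrArg (fun H : Subgroup G => Nat.card H) (c1c_eq M).1).trans (c1c_eq M).2) ▸ Subgroup.card_dvd_of_le (gen_le.2 fun k hk => match k, hk with | 0, _ => c1m0 M | 1, _ => c1m1 M | 2, _ => c1m2 M | 3, _ => c1m3 M | 4, _ => c1m4 M | 5, _ => c1m5 M)
theorem c1 {G Ω : Type*} [Group G] [MulAction G Ω] {g : ℕ → G} {pt : ℕ → Ω}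
    (M : Md g pt H15.MM24.P 24 11 H15.MM24.B 244823040) : NC ((wds g covr_W) 1) (⊤ : Subgroup G) :=
  have := M.fin
  nc2 (a := 64) (b := 64) le_top (c1z M) ((c1a_z M).le.trans (c1n M)) (c1s M) ((congrArg (fun H : Subgroup G => Nat.card H) (c1c_eq M).1).trans (c1c_eq M).2) (by norm_num)
theorem all {G Ω : Type*} [Group G] [MulAction G Ω] {g : ℕ → G} {pt : ℕ → Ω}
    (M : Md g pt H15.MM24.P 24 11 H15.MM24.B 244823040) : NPa (⊤ : Subgroup G) :=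
  npa_reps (wds g covr_W) 2 (fun _ hy => cov M (e := 1) hy hy) fun k hk => match k, hk with
    | 0, _ => c0 M
    | 1, _ => c1 M

theorem np : NP Cfsg.M24 := by
  obtain ⟨_, g, M, -⟩ := md (MulEquiv.subgroupCongr H15.MM24.gen_eq)
  have := M.fin
  have := H15.simple_M24
  exact np_top (by rw [M.card]; norm_num) Cfsg.Agent.S2064.result (all M)

end H15.QS.YM24
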