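import Cfsg.Agent.H15.QS2
import Cfsg.Agent.H15.M.M23
import Cfsg.Agent.H15.Mathieu
import Cfsg.Agent.S2063

/-! Generated by tools/h15/qs/qs.py (kit tools/h0/tr). -/

set_option maxRecDepth 100000
set_option maxHeartbeats 0

namespace H15.QS.YM23
open H16 H0.TR
open H4.QG
open scoped commutatorElement Pointwise

universe u

noncomputable def p2t_W : List (List ℕ) := [[nat_lit 0, nat_lit 3, nat_lit 6, nat_lit 0, nat_lit 3, nat_lit 4, nat_lit 7, nat_lit 6, nat_lit 1, nat_lit 8, nat_lit 7, nat_lit 6, nat_lit 0, nat_lit 3],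
  [nat_lit 6, nat_lit 7, nat_lit 1, nat_lit 3, nat_lit 6, nat_lit 0, nat_lit 7, nat_lit 6, nat_lit 8, nat_lit 7, nat_lit 6, nat_lit 0, nat_lit 8],
  [nat_lit 5, nat_lit 3, nat_lit 0, nat_lit 5, nat_lit 6, nat_lit 0, nat_lit 3, nat_lit 7, nat_lit 6, nat_lit 0, nat_lit 8, nat_lit 7, nat_lit 6, nat_lit 0, nat_lit 3, nat_lit 4],
  [nat_lit 4, nat_lit 2, nat_lit 4, nat_lit 6, nat_lit 0, nat_lit 7, nat_lit 6, nat_lit 1, nat_lit 7, nat_lit 8, nat_lit 7, nat_lit 6, nat_lit 1, nat_lit 2, nat_lit 5],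
  [nat_lit 0, nat_lit 7, nat_lit 6, nat_lit 1, nat_lit 8, nat_lit 7, nat_lit 6, nat_lit 0, nat_lit 2, nat_lit 3],
  [nat_lit 8, nat_lit 4, nat_lit 6, nat_lit 0, nat_lit 1, nat_lit 7, nat_lit 6, nat_lit 1, nat_lit 2, nat_lit 8, nat_lit 7, nat_lit 6, nat_lit 1, nat_lit 8],
  [nat_lit 7, nat_lit 6, nat_lit 0, nat_lit 3, nat_lit 7, nat_lit 6, nat_lit 7]]
noncomputable def p2t_P : ℕ → ℕ → ℕ := wdsP H15.MM23.P p2t_W
noncomputable def p2Pd : List ℕ := [nat_lit 0x5ab49ca24388284996c7a8702b9a0,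
  nat_lit 0x5ab49ca212988b609091b9ed3aa00,
  nat_lit 0x5ab28d2611888c599282a8ed7ba00,
  nat_lit 0x5ab49ca250ace67204a6b203225e0,
  nat_lit 0x56d1a4e43828ec48968239a5099e0,
  nat_lit 0x56d29d228705237c0e51114c33560,
  nat_lit 0x5ab3a4650289a94198b1a9e43b820]
noncomputable def p2P (k u : ℕ) : ℕ := Nat.land (Nat.shiftRight (nth (nat_lit 0) p2Pd k) (Nat.mul u (nat_lit 5))) (nat_lit 31)
noncomputable def p2Ed : ℕ := nat_lit 0x50b072496ace517b58b520e618820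
noncomputable def p2E (u : ℕ) : ℕ := Nat.land (Nat.shiftRight p2Ed (Nat.mul u (nat_lit 5))) (nat_lit 31)
noncomputable def p2Id : ℕ := nat_lit 0x41f6735945cd4941e46292b118820
noncomputable def p2I (u : ℕ) : ℕ := Nat.land (Nat.shiftRight p2Id (Nat.mul u (nat_lit 5))) (nat_lit 31)
noncomputable def p2B : List ℕ := [nat_lit 0, nat_lit 1, nat_lit 2, nat_lit 3, nat_lit 21, nat_lit 17]
noncomputable def p2C : List (List (List ℕ)) := [[[],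
  [],
  [],
  [],
  [],
  [],
  []], [[],
  [],
  [],
  [],
  [nat_lit 0],
  [nat_lit 0],
  []], [[],
  [],
  [],
  [nat_lit 0],
  [],
  [nat_lit 0, nat_lit 1],
  []], [[],
  [],
  [],
  [],
  [nat_lit 1],
  [],
  [nat_lit 1]], [[],
  [],
  [],
  [],
  [nat_lit 2],
  [nat_lit 0, nat_lit 2, nat_lit 3],
  [nat_lit 0, nat_lit 2]], [[],
  [],
  [],
  [],
  [],
  [nat_lit 3],
  [nat_lit 0, nat_lit 1, nat_lit 2]], [[],
  [],
  [],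
  [],
  [],
  [],
  []]]
noncomputable def p2e : List (List ℕ) := [[nat_lit 1, nat_lit 2],
  [nat_lit 1, nat_lit 2],
  [],
  [],
  [nat_lit 1, nat_lit 2],
  [],
  [],
  [nat_lit 1, nat_lit 2, nat_lit 6],
  [nat_lit 6],
  [nat_lit 6],
  [nat_lit 6],
  [],
  [],
  [],
  [nat_lit 6],
  [nat_lit 1, nat_lit 2],
  [nat_lit 1, nat_lit 2],
  [],
  [],
  [nat_lit 0, nat_lit 1, nat_lit 3, nat_lit 4],
  [nat_lit 3, nat_lit 4, nat_lit 6],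
  [nat_lit 0, nat_lit 5]]
noncomputable def p2l0Dd : ℕ := nat_lit 0x7583563f765740292a1d2b161e141500
noncomputable def p2l0D (u : ℕ) : ℕ := Nat.land (Nat.shiftRight p2l0Dd (Nat.mul u (nat_lit 8))) (nat_lit 255)
noncomputable def p2l0Pd : ℕ := nat_lit 0x1a51029dab629e671041
noncomputable def p2l0P (u : ℕ) : ℕ := Nat.land (Nat.shiftRight p2l0Pd (Nat.mul u (nat_lit 5))) (nat_lit 31)
noncomputable def p2l0Qd : ℕ := nat_lit 0xc539786eda4b2f100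
noncomputable def p2l0Q (u : ℕ) : ℕ := Nat.land (Nat.shiftRight p2l0Qd (Nat.mul u (nat_lit 4))) (nat_lit 15)
noncomputable def p2l0 : H16.Lev := ⟨16, 22, p2l0D, p2l0P, p2l0Q⟩
noncomputable def p2l1Dd : ℕ := nat_lit 0x77613930e00400
noncomputable def p2l1D (u : ℕ) : ℕ := Nat.land (Nat.shiftRight p2l1Dd (Nat.mul u (nat_lit 7))) (nat_lit 127)
noncomputable def p2l1Pd : ℕ := nat_lit 0xc89ba6e2
noncomputable def p2l1P (u : ℕ) : ℕ := Nat.land (Nat.shiftRight p2l1Pd (Nat.mul u (nat_lit 4))) (nat_lit 15)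
noncomputable def p2l1Qd : ℕ := nat_lit 0x478ee080000
noncomputable def p2l1Q (u : ℕ) : ℕ := Nat.land (Nat.shiftRight p2l1Qd (Nat.mul u (nat_lit 3))) (nat_lit 7)
noncomputable def p2l1 : H16.Lev := ⟨8, 20, p2l1D, p2l1P, p2l1Q⟩
noncomputable def covr_W : List (List ℕ) := [[nat_lit 0, nat_lit 3, nat_lit 6, nat_lit 0, nat_lit 3, nat_lit 4, nat_lit 7, nat_lit 6, nat_lit 1, nat_lit 8, nat_lit 7, nat_lit 6, nat_lit 0, nat_lit 3]]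
noncomputable def covr_P : ℕ → ℕ → ℕ := wdsP H15.MM23.P covr_W
noncomputable def covT0 : H0.TR.CT := (.split (.more (.split (.more (.split (.more (.split (.more (.split (.more (.split (.more (.split (.more .one (.more (.leaf (nat_lit 0) []) .one))) (.more (.fuse [nat_lit 4] [] (.leaf (nat_lit 0) [nat_lit 1, nat_lit 3, nat_lit 4, nat_lit 6, nat_lit 2, nat_lit 3, nat_lit 7, nat_lit 8, nat_lit 9, nat_lit 8, nat_lit 7, nat_lit 6, nat_lit 0, nat_lit 2])) .one))) (.more (.fuse [nat_lit 5] [nat_lit 0] (.fuse [nat_lit 3] [] (.leaf (nat_lit 0) [nat_lit 6]))) .one))) (.more (.split (.more (.fuse [nat_lit 4] [] (.fuse [nat_lit 2] [] (.leaf (nat_lit 0) [nat_lit 4, nat_lit 6, nat_lit 0, nat_lit 2, nat_lit 5]))) (.more (.fuse [nat_lit 4] [] (.fuse [nat_lit 2] [] (.prune (nat_lit 0) (nat_lit 1) []))) .one))) .one))) (.more (.fuse [nat_lit 5] [nat_lit 1, nat_lit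 2] (.fuse [nat_lit 6] [nat_lit 0] (.prune (nat_lit 2) (nat_lit 1) []))) .one))) (.more (.split (.more (.fuse [nat_lit 4] [nat_lit 1, nat_lit 2] (.prune (nat_lit 3) (nat_lit 1) [])) (.more (.fuse [nat_lit 4] [nat_lit 2] (.split (.more (.fuse [nat_lit 2] [nat_lit 0] (.prune (nat_lit 1) (nat_lit 1) [])) (.more (.fuse [nat_lit 2] [nat_lit 0] (.fuse [nat_lit 2, nat_lit 3] [] (.prune (nat_lit 0) (nat_lit 1) []))) .one)))) .one))) .one))) (.more (.split (.more (.split (.more (.split (.more (.fuse [nat_lit 4] [nat_lit 0] (.fuse [nat_lit 3] [] (.fuse [nat_lit 4, nat_lit 5] [] (.leaf (nat_lit 0) [nat_lit 0, nat_lit 1, nat_lit 4, nat_lit 6, nat_lit 2, nat_lit 7, nat_lit 6, nat_lit 3, nat_lit 8, nat_lit 7, nat_lit 6, nat_lit 0, nat_lit 2, nat_lit 6])))) (.more (.fuse [nat_lit 4] [nat_lit 1] (.fuse [nat_lit 3] [] (.prune (nat_lit 1) (nat_lit 1) []))) .one)))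 (.more (.fuse [nat_lit 5] [nat_lit 0] (.fuse [nat_lit 4] [nat_lit 0] (.split (.more (.fuse [nat_lit 1] [] (.prune (nat_lit 0) (nat_lit 1) [])) (.more (.fuse [nat_lit 1] [] (.leaf (nat_lit 0) [nat_lit 1, nat_lit 5, nat_lit 3])) .one))))) .one))) (.more (.split (.more (.fuse [nat_lit 4] [] (.prune (nat_lit 3) (nat_lit 1) [nat_lit 1, nat_lit 2])) (.more (.fuse [nat_lit 4] [nat_lit 0, nat_lit 1] (.split (.more (.fuse [nat_lit 2] [nat_lit 0] (.prune (nat_lit 1) (nat_lit 1) [nat_lit 0])) (.more (.fuse [nat_lit 2] [nat_lit 0] (.fuse [nat_lit 2, nat_lit 4, nat_lit 5] [] (.leaf (nat_lit 0) [nat_lit 1, nat_lit 3, nat_lit 6, nat_lit 2, nat_lit 7, nat_lit 6, nat_lit 8, nat_lit 9, nat_lit 8, nat_lit 7, nat_lit 6, nat_lit 1, nat_lit 7, nat_lit 6]))) .one)))) .one))) .one))) .one)))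
noncomputable def c0ax_W : List (List ℕ) := [[nat_lit 0, nat_lit 3, nat_lit 6, nat_lit 0, nat_lit 3, nat_lit 4, nat_lit 7, nat_lit 6, nat_lit 1, nat_lit 8, nat_lit 7, nat_lit 6, nat_lit 0, nat_lit 3]]
noncomputable def c0ax_P : ℕ → ℕ → ℕ := wdsP H15.MM23.P c0ax_W
noncomputable def c0ath_W : List (List ℕ) := [[nat_lit 1, nat_lit 2, nat_lit 3, nat_lit 5, nat_lit 7, nat_lit 8, nat_lit 9, nat_lit 8, nat_lit 7],
  [nat_lit 0, nat_lit 1, nat_lit 6, nat_lit 2, nat_lit 7, nat_lit 8, nat_lit 9, nat_lit 8, nat_lit 7, nat_lit 6, nat_lit 0, nat_lit 1],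
  [nat_lit 0, nat_lit 6, nat_lit 2, nat_lit 7, nat_lit 8, nat_lit 9, nat_lit 8, nat_lit 7, nat_lit 6, nat_lit 0],
  [nat_lit 6, nat_lit 0, nat_lit 3, nat_lit 4, nat_lit 7, nat_lit 8, nat_lit 9, nat_lit 8, nat_lit 7, nat_lit 6],
  [nat_lit 6, nat_lit 7, nat_lit 8, nat_lit 9, nat_lit 8, nat_lit 7],
  [nat_lit 3, nat_lit 6, nat_lit 0, nat_lit 7, nat_lit 8, nat_lit 9, nat_lit 8, nat_lit 7, nat_lit 6, nat_lit 1, nat_lit 3],
  [nat_lit 7],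
  [nat_lit 0],
  [nat_lit 1],
  [nat_lit 2],
  [nat_lit 3],
  [nat_lit 4],
  [nat_lit 5],
  [nat_lit 6],
  [nat_lit 8],
  [nat_lit 9]]
noncomputable def c0ath_P : ℕ → ℕ → ℕ := wdsP H15.MM23.P c0ath_W
noncomputable def c0atl0Dd : ℕ := nat_lit 0xdda4514269765a356631563332494825212224160f0e00
noncomputable def c0atl0D (u : ℕ) : ℕ := Nat.land (Nat.shiftRight c0atl0Dd (Nat.mul u (nat_lit 8))) (nat_lit 255)
noncomputable def c0atl0Pd : ℕ := nat_lit 0x3a255cd92825f4b54863a1aa18041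
noncomputable def c0atl0P (u : ℕ) : ℕ := Nat.land (Nat.shiftRight c0atl0Pd (Nat.mul u (nat_lit 5))) (nat_lit 31)
noncomputable def c0atl0Qd : ℕ := nat_lit 0x2d4c942af6d8b1991c63a28918402
noncomputable def c0atl0Q (u : ℕ) : ℕ := Nat.land (Nat.shiftRight c0atl0Qd (Nat.mul u (nat_lit 5))) (nat_lit 31)
noncomputable def c0atl0 : H16.Lev := ⟨23, 16, c0atl0D, c0atl0P, c0atl0Q⟩
noncomputable def c0atl1Dd : ℕ := nat_lit 0x204391d0b0782e1009832250c0f82c220a030160a048200e00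
noncomputable def c0atl1D (u : ℕ) : ℕ := Nat.land (Nat.shiftRight c0atl1Dd (Nat.mul u (nat_lit 9))) (nat_lit 511)
noncomputable def c0atl1Pd : ℕ := nat_lit 0x4500cd17208f5512b65a6dac0f2
noncomputable def c0atl1P (u : ℕ) : ℕ := Nat.land (Nat.shiftRight c0atl1Pd (Nat.mul u (nat_lit 5))) (nat_lit 31)
noncomputable def c0atl1Qd : ℕ := nat_lit 0x186a2820263c8742d2e0c68d95413
noncomputable def c0atl1Q (u : ℕ) : ℕ := Nat.land (Nat.shiftRight c0atl1Qd (Nat.mul u (nat_lit 5))) (nat_lit 31)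
noncomputable def c0atl1 : H16.Lev := ⟨22, 14, c0atl1D, c0atl1P, c0atl1Q⟩
noncomputable def c0atl2Dd : ℕ := nat_lit 0x3fb54ce985c4c79920c1492443040a122c300
noncomputable def c0atl2D (u : ℕ) : ℕ := Nat.land (Nat.shiftRight c0atl2Dd (Nat.mul u (nat_lit 7))) (nat_lit 127)
noncomputable def c0atl2Pd : ℕ := nat_lit 0xc2d12471d116acca9c1f6a8062
noncomputable def c0atl2P (u : ℕ) : ℕ := Nat.land (Nat.shiftRight c0atl2Pd (Nat.mul u (nat_lit 5))) (nat_lit 31)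
noncomputable def c0atl2Qd : ℕ := nat_lit 0x1072381862bd745222d7267008002
noncomputable def c0atl2Q (u : ℕ) : ℕ := Nat.land (Nat.shiftRight c0atl2Qd (Nat.mul u (nat_lit 5))) (nat_lit 31)
noncomputable def c0atl2 : H16.Lev := ⟨21, 7, c0atl2D, c0atl2P, c0atl2Q⟩
noncomputable def c0atl3Dd : ℕ := nat_lit 0xb131d273a5cc91503511c2c2c3891018280
noncomputable def c0atl3D (u : ℕ) : ℕ := Nat.land (Nat.shiftRight c0atl3Dd (Nat.mul u (nat_lit 7))) (nat_lit 127)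
noncomputable def c0atl3Pd : ℕ := nat_lit 0xa222d839e629ea062d2322ad3
noncomputable def c0atl3P (u : ℕ) : ℕ := Nat.land (Nat.shiftRight c0atl3Pd (Nat.mul u (nat_lit 5))) (nat_lit 31)
noncomputable def c0atl3Qd : ℕ := nat_lit 0x5330022f6ba07308b25316320008
noncomputable def c0atl3Q (u : ℕ) : ℕ := Nat.land (Nat.shiftRight c0atl3Qd (Nat.mul u (nat_lit 5))) (nat_lit 31)
noncomputable def c0atl3 : H16.Lev := ⟨20, 6, c0atl3D, c0atl3P, c0atl3Q⟩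
noncomputable def c0atl4Dd : ℕ := nat_lit 0x940
noncomputable def c0atl4D (u : ℕ) : ℕ := Nat.land (Nat.shiftRight c0atl4Dd (Nat.mul u (nat_lit 4))) (nat_lit 15)
noncomputable def c0atl4Pd : ℕ := nat_lit 0x428e
noncomputable def c0atl4P (u : ℕ) : ℕ := Nat.land (Nat.shiftRight c0atl4Pd (Nat.mul u (nat_lit 5))) (nat_lit 31)
noncomputable def c0atl4Qd : ℕ := nat_lit 0x10200000000
noncomputable def c0atl4Q (u : ℕ) : ℕ := Nat.land (Nat.shiftRight c0atl4Qd (Nat.mul u (nat_lit 2))) (nat_lit 3)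
noncomputable def c0atl4 : H16.Lev := ⟨3, 5, c0atl4D, c0atl4P, c0atl4Q⟩
noncomputable def c0atl5Dd : ℕ := nat_lit 0xb616555cd24b1471810c2000
noncomputable def c0atl5D (u : ℕ) : ℕ := Nat.land (Nat.shiftRight c0atl5Dd (Nat.mul u (nat_lit 6))) (nat_lit 63)
noncomputable def c0atl5Pd : ℕ := nat_lit 0x618e55a624429afb5403
noncomputable def c0atl5P (u : ℕ) : ℕ := Nat.land (Nat.shiftRight c0atl5Pd (Nat.mul u (nat_lit 5))) (nat_lit 31)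
noncomputable def c0atl5Qd : ℕ := nat_lit 0x3200090405fb6a7dec80001
noncomputable def c0atl5Q (u : ℕ) : ℕ := Nat.land (Nat.shiftRight c0atl5Qd (Nat.mul u (nat_lit 4))) (nat_lit 15)
noncomputable def c0atl5 : H16.Lev := ⟨16, 4, c0atl5D, c0atl5P, c0atl5Q⟩
noncomputable def c0ace_W : List (List ℕ) := [[nat_lit 2, nat_lit 6, nat_lit 1, nat_lit 7, nat_lit 9, nat_lit 8, nat_lit 7, nat_lit 6, nat_lit 2, nat_lit 9],
  [nat_lit 1, nat_lit 3, nat_lit 4, nat_lit 6, nat_lit 0, nat_lit 7, nat_lit 8, nat_lit 9, nat_lit 8, nat_lit 7, nat_lit 6, nat_lit 1, nat_lit 3],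
  [nat_lit 1, nat_lit 2, nat_lit 3, nat_lit 5, nat_lit 6],
  [nat_lit 2, nat_lit 3, nat_lit 6, nat_lit 0, nat_lit 3, nat_lit 7, nat_lit 6, nat_lit 0, nat_lit 1],
  [nat_lit 3, nat_lit 9, nat_lit 1, nat_lit 2, nat_lit 6, nat_lit 0, nat_lit 7, nat_lit 6, nat_lit 9, nat_lit 8, nat_lit 7, nat_lit 6, nat_lit 1, nat_lit 2]]
noncomputable def c0ace_P : ℕ → ℕ → ℕ := wdsP H15.MM23.P c0ace_W
noncomputable def c0acc5Dd : ℕ := nat_lit 0xd0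
noncomputable def c0acc5D (u : ℕ) : ℕ := Nat.land (Nat.shiftRight c0acc5Dd (Nat.mul u (nat_lit 2))) (nat_lit 3)
noncomputable def c0acc5Pd : ℕ := nat_lit 0x89d63
noncomputable def c0acc5P (u : ℕ) : ℕ := Nat.land (Nat.shiftRight c0acc5Pd (Nat.mul u (nat_lit 5))) (nat_lit 31)
noncomputable def c0acc5Qd : ℕ := nat_lit 0xc00408000
noncomputable def c0acc5Q (u : ℕ) : ℕ := Nat.land (Nat.shiftRight c0acc5Qd (Nat.mul u (nat_lit 2))) (nat_lit 3)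
noncomputable def c0acc5 : H16.Lev := ⟨4, 2, c0acc5D, c0acc5P, c0acc5Q⟩
noncomputable def c0atn0Fd : ℕ := nat_lit 0x7450c2695248
noncomputable def c0atn0F (u : ℕ) : ℕ := Nat.land (Nat.shiftRight c0atn0Fd (Nat.mul u (nat_lit 3))) (nat_lit 7)
noncomputable def c0atn0 : Nd := ⟨c0atn0F, (nat_lit 2), (nat_lit 2), [[nat_lit 0]], [((nat_lit 0), []), ((nat_lit 1), [nat_lit 0])], []⟩
noncomputable def c0acc4Dd : ℕ := nat_lit 0x150
noncomputable def c0acc4D (u : ℕ) : ℕ := Nat.land (Nat.shiftRight c0acc4Dd (Nat.mul u (nat_lit 3))) (nat_lit 7)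
noncomputable def c0acc4Pd : ℕ := nat_lit 0x520e
noncomputable def c0acc4P (u : ℕ) : ℕ := Nat.land (Nat.shiftRight c0acc4Pd (Nat.mul u (nat_lit 5))) (nat_lit 31)
noncomputable def c0acc4Qd : ℕ := nat_lit 0x20100000000
noncomputable def c0acc4Q (u : ℕ) : ℕ := Nat.land (Nat.shiftRight c0acc4Qd (Nat.mul u (nat_lit 2))) (nat_lit 3)
noncomputable def c0acc4 : H16.Lev := ⟨3, 3, c0acc4D, c0acc4P, c0acc4Q⟩
noncomputable def c0atn1Fd : ℕ := nat_lit 0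
noncomputable def c0atn1F (u : ℕ) : ℕ := Nat.land (Nat.shiftRight c0atn1Fd (Nat.mul u (nat_lit 1))) (nat_lit 1)
noncomputable def c0atn1 : Nd := ⟨c0atn1F, (nat_lit 3), (nat_lit 3), [], [((nat_lit 0), [])], []⟩
noncomputable def c0acc2Dd : ℕ := nat_lit 0x9cd6903d63881471060c0
noncomputable def c0acc2D (u : ℕ) : ℕ := Nat.land (Nat.shiftRight c0acc2Dd (Nat.mul u (nat_lit 6))) (nat_lit 63)
noncomputable def c0acc2Pd : ℕ := nat_lit 0x26ab19a788ea87ad82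
noncomputable def c0acc2P (u : ℕ) : ℕ := Nat.land (Nat.shiftRight c0acc2Pd (Nat.mul u (nat_lit 5))) (nat_lit 31)
noncomputable def c0acc2Qd : ℕ := nat_lit 0xb50d07030912c048a006000
noncomputable def c0acc2Q (u : ℕ) : ℕ := Nat.land (Nat.shiftRight c0acc2Qd (Nat.mul u (nat_lit 4))) (nat_lit 15)
noncomputable def c0acc2 : H16.Lev := ⟨14, 4, c0acc2D, c0acc2P, c0acc2Q⟩
noncomputable def c0atn2Fd : ℕ := nat_lit 0xab54e00000000b000100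
noncomputable def c0atn2F (u : ℕ) : ℕ := Nat.land (Nat.shiftRight c0atn2Fd (Nat.mul u (nat_lit 4))) (nat_lit 15)
noncomputable def c0atn2 : Nd := ⟨c0atn2F, (nat_lit 4), (nat_lit 4), [[nat_lit 0]], [((nat_lit 0), [])], []⟩
noncomputable def c0acc0Dd : ℕ := nat_lit 0xd603975126d1289188147100
noncomputable def c0acc0D (u : ℕ) : ℕ := Nat.land (Nat.shiftRight c0acc0Dd (Nat.mul u (nat_lit 6))) (nat_lit 63)
noncomputable def c0acc0Pd : ℕ := nat_lit 0x15653b206b3994d645e1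
noncomputable def c0acc0P (u : ℕ) : ℕ := Nat.land (Nat.shiftRight c0acc0Pd (Nat.mul u (nat_lit 5))) (nat_lit 31)
noncomputable def c0acc0Qd : ℕ := nat_lit 0xbe0cd201043850a76009f00
noncomputable def c0acc0Q (u : ℕ) : ℕ := Nat.land (Nat.shiftRight c0acc0Qd (Nat.mul u (nat_lit 4))) (nat_lit 15)
noncomputable def c0acc0 : H16.Lev := ⟨16, 5, c0acc0D, c0acc0P, c0acc0Q⟩
noncomputable def c0atn3Fd : ℕ := nat_lit 0x440c000006980d000a00000000400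
noncomputable def c0atn3F (u : ℕ) : ℕ := Nat.land (Nat.shiftRight c0atn3Fd (Nat.mul u (nat_lit 5))) (nat_lit 31)
noncomputable def c0atn3 : Nd := ⟨c0atn3F, (nat_lit 5), (nat_lit 5), [[nat_lit 0]], [((nat_lit 0), [])], []⟩
noncomputable def c0v_W : List (List ℕ) := [[nat_lit 0, nat_lit 6, nat_lit 1, nat_lit 3, nat_lit 6, nat_lit 0, nat_lit 8],
  [nat_lit 5, nat_lit 7, nat_lit 6, nat_lit 0, nat_lit 7, nat_lit 6, nat_lit 1, nat_lit 8, nat_lit 7, nat_lit 6],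
  [nat_lit 3, nat_lit 6, nat_lit 0, nat_lit 3, nat_lit 4, nat_lit 7, nat_lit 6, nat_lit 1, nat_lit 8, nat_lit 7, nat_lit 6, nat_lit 3],
  [nat_lit 5, nat_lit 0, nat_lit 3, nat_lit 6, nat_lit 7, nat_lit 6, nat_lit 1, nat_lit 7, nat_lit 6, nat_lit 8, nat_lit 7]]
noncomputable def c0v_P : ℕ → ℕ → ℕ := wdsP H15.MM23.P c0v_W
noncomputable def c0cth_W : List (List ℕ) := [[nat_lit 2, nat_lit 6, nat_lit 7, nat_lit 8, nat_lit 9, nat_lit 8, nat_lit 7, nat_lit 6, nat_lit 3, nat_lit 4],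
  [nat_lit 4, nat_lit 2],
  [nat_lit 9, nat_lit 1, nat_lit 3, nat_lit 6, nat_lit 7, nat_lit 8, nat_lit 7, nat_lit 6, nat_lit 0, nat_lit 9],
  [nat_lit 0],
  [nat_lit 1],
  [nat_lit 2],
  [nat_lit 3],
  [nat_lit 4],
  [nat_lit 5],
  [nat_lit 6],
  [nat_lit 7],
  [nat_lit 8],
  [nat_lit 9]]
noncomputable def c0cth_P : ℕ → ℕ → ℕ := wdsP H15.MM23.P c0cth_W
noncomputable def c0ctl0Dd : ℕ := nat_lit 0x448c89425148905c2891c7846228e888381b8d4381a0b8301600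
noncomputable def c0ctl0D (u : ℕ) : ℕ := Nat.land (Nat.shiftRight c0ctl0Dd (Nat.mul u (nat_lit 9))) (nat_lit 511)
noncomputable def c0ctl0Pd : ℕ := nat_lit 0x44b2719286ccf0ab2cba29e418041
noncomputable def c0ctl0P (u : ℕ) : ℕ := Nat.land (Nat.shiftRight c0ctl0Pd (Nat.mul u (nat_lit 5))) (nat_lit 31)
noncomputable def c0ctl0Qd : ℕ := nat_lit 0x2567752cc2cdea41a306caa418402
noncomputable def c0ctl0Q (u : ℕ) : ℕ := Nat.land (Nat.shiftRight c0ctl0Qd (Nat.mul u (nat_lit 5))) (nat_lit 31)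
noncomputable def c0ctl0 : H16.Lev := ⟨23, 13, c0ctl0D, c0ctl0P, c0ctl0Q⟩
noncomputable def c0ctl1Dd : ℕ := nat_lit 0xae6c2c2168593d3c323130252d241c1b1a1917140a00
noncomputable def c0ctl1D (u : ℕ) : ℕ := Nat.land (Nat.shiftRight c0ctl1Dd (Nat.mul u (nat_lit 8))) (nat_lit 255)
noncomputable def c0ctl1Pd : ℕ := nat_lit 0x22e282134ae54459f5390cd62862
noncomputable def c0ctl1P (u : ℕ) : ℕ := Nat.land (Nat.shiftRight c0ctl1Pd (Nat.mul u (nat_lit 5))) (nat_lit 31)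
noncomputable def c0ctl1Qd : ℕ := nat_lit 0x290c836b14d083709eb3966608012
noncomputable def c0ctl1Q (u : ℕ) : ℕ := Nat.land (Nat.shiftRight c0ctl1Qd (Nat.mul u (nat_lit 5))) (nat_lit 31)
noncomputable def c0ctl1 : H16.Lev := ⟨22, 11, c0ctl1D, c0ctl1P, c0ctl1Q⟩
noncomputable def c0ctl2Dd : ℕ := nat_lit 0x95591e1455472e2d242322181f17100f0e0d0b0900
noncomputable def c0ctl2D (u : ℕ) : ℕ := Nat.land (Nat.shiftRight c0ctl2Dd (Nat.mul u (nat_lit 8))) (nat_lit 255)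
noncomputable def c0ctl2Pd : ℕ := nat_lit 0x11714109a572a22cfa9c866b143
noncomputable def c0ctl2P (u : ℕ) : ℕ := Nat.land (Nat.shiftRight c0ctl2Pd (Nat.mul u (nat_lit 5))) (nat_lit 31)
noncomputable def c0ctl2Qd : ℕ := nat_lit 0x24eb7b29044c62685ca3124500011
noncomputable def c0ctl2Q (u : ℕ) : ℕ := Nat.land (Nat.shiftRight c0ctl2Qd (Nat.mul u (nat_lit 5))) (nat_lit 31)
noncomputable def c0ctl2 : H16.Lev := ⟨21, 10, c0ctl2D, c0ctl2P, c0ctl2Q⟩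
noncomputable def c0ctl3Dd : ℕ := nat_lit 0x7546d2f1ac706105cf38a1c61440c0
noncomputable def c0ctl3D (u : ℕ) : ℕ := Nat.land (Nat.shiftRight c0ctl3Dd (Nat.mul u (nat_lit 6))) (nat_lit 63)
noncomputable def c0ctl3Pd : ℕ := nat_lit 0x2b81143d7434ecdac08a62647
noncomputable def c0ctl3P (u : ℕ) : ℕ := Nat.land (Nat.shiftRight c0ctl3Pd (Nat.mul u (nat_lit 5))) (nat_lit 31)
noncomputable def c0ctl3Qd : ℕ := nat_lit 0x24ec50606749036904f02e6500011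
noncomputable def c0ctl3Q (u : ℕ) : ℕ := Nat.land (Nat.shiftRight c0ctl3Qd (Nat.mul u (nat_lit 5))) (nat_lit 31)
noncomputable def c0ctl3 : H16.Lev := ⟨20, 9, c0ctl3D, c0ctl3P, c0ctl3Q⟩
noncomputable def c0ctl4Dd : ℕ := nat_lit 0x94e2c96564d020a143084040
noncomputable def c0ctl4D (u : ℕ) : ℕ := Nat.land (Nat.shiftRight c0ctl4Dd (Nat.mul u (nat_lit 6))) (nat_lit 63)
noncomputable def c0ctl4Pd : ℕ := nat_lit 0x6be0b748d14cca0a918a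
noncomputable def c0ctl4P (u : ℕ) : ℕ := Nat.land (Nat.shiftRight c0ctl4Pd (Nat.mul u (nat_lit 5))) (nat_lit 31)
noncomputable def c0ctl4Qd : ℕ := nat_lit 0x306a8debf1c07009520004
noncomputable def c0ctl4Q (u : ℕ) : ℕ := Nat.land (Nat.shiftRight c0ctl4Qd (Nat.mul u (nat_lit 4))) (nat_lit 15)
noncomputable def c0ctl4 : H16.Lev := ⟨16, 3, c0ctl4D, c0ctl4P, c0ctl4Q⟩
noncomputable def c0ctl5Dd : ℕ := nat_lit 4
noncomputable def c0ctl5D (u : ℕ) : ℕ := Nat.land (Nat.shiftRight c0ctl5Dd (Nat.mul u (nat_lit 1))) (nat_lit 1)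
noncomputable def c0ctl5Pd : ℕ := nat_lit 0x4526
noncomputable def c0ctl5P (u : ℕ) : ℕ := Nat.land (Nat.shiftRight c0ctl5Pd (Nat.mul u (nat_lit 5))) (nat_lit 31)
noncomputable def c0ctl5Qd : ℕ := nat_lit 0x800040000
noncomputable def c0ctl5Q (u : ℕ) : ℕ := Nat.land (Nat.shiftRight c0ctl5Qd (Nat.mul u (nat_lit 2))) (nat_lit 3)
noncomputable def c0ctl5 : H16.Lev := ⟨3, 1, c0ctl5D, c0ctl5P, c0ctl5Q⟩
noncomputable def c0ce_W : List (List ℕ) := [[nat_lit 3, nat_lit 6, nat_lit 0, nat_lit 3, nat_lit 4, nat_lit 7, nat_lit 6, nat_lit 1, nat_lit 8, nat_lit 7, nat_lit 6, nat_lit 3],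
  [nat_lit 0, nat_lit 1, nat_lit 6, nat_lit 1, nat_lit 3, nat_lit 6, nat_lit 8, nat_lit 1],
  [nat_lit 0, nat_lit 1, nat_lit 5, nat_lit 6, nat_lit 0, nat_lit 7, nat_lit 6, nat_lit 0, nat_lit 2, nat_lit 8, nat_lit 7, nat_lit 6, nat_lit 0, nat_lit 1],
  [nat_lit 7, nat_lit 0, nat_lit 1, nat_lit 2, nat_lit 6, nat_lit 0, nat_lit 2, nat_lit 5, nat_lit 6, nat_lit 8, nat_lit 7]]
noncomputable def c0ce_P : ℕ → ℕ → ℕ := wdsP H15.MM23.P c0ce_W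
noncomputable def c0cc0Dd : ℕ := nat_lit 0xba26965ce28b1871020c0040
noncomputable def c0cc0D (u : ℕ) : ℕ := Nat.land (Nat.shiftRight c0cc0Dd (Nat.mul u (nat_lit 6))) (nat_lit 63)
noncomputable def c0cc0Pd : ℕ := nat_lit 0xb36aa9b1f23456819c41
noncomputable def c0cc0P (u : ℕ) : ℕ := Nat.land (Nat.shiftRight c0cc0Pd (Nat.mul u (nat_lit 5))) (nat_lit 31)
noncomputable def c0cc0Qd : ℕ := nat_lit 0xfd0b86090ea5c0427003100
noncomputable def c0cc0Q (u : ℕ) : ℕ := Nat.land (Nat.shiftRight c0cc0Qd (Nat.mul u (nat_lit 4))) (nat_lit 15)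
noncomputable def c0cc0 : H16.Lev := ⟨16, 4, c0cc0D, c0cc0P, c0cc0Q⟩
noncomputable def c0ctn0Fd : ℕ := nat_lit 0x2a1094
noncomputable def c0ctn0F (u : ℕ) : ℕ := Nat.land (Nat.shiftRight c0ctn0Fd (Nat.mul u (nat_lit 1))) (nat_lit 1)
noncomputable def c0ctn0 : Nd := ⟨c0ctn0F, (nat_lit 4), (nat_lit 4), [[nat_lit 0]], [((nat_lit 0), [])], []⟩
noncomputable def c0nW : List (List (List ℕ)) := [[[nat_lit 0],
  [nat_lit 1, nat_lit 2, nat_lit 3],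
  [nat_lit 0, nat_lit 3],
  [nat_lit 0, nat_lit 2]], [[nat_lit 0],
  [nat_lit 0, nat_lit 1],
  [nat_lit 3],
  [nat_lit 2]], [[nat_lit 0],
  [nat_lit 1, nat_lit 3],
  [nat_lit 1, nat_lit 2, nat_lit 3],
  [nat_lit 1]], [[nat_lit 0, nat_lit 1, nat_lit 2],
  [nat_lit 1, nat_lit 3],
  [nat_lit 1],
  [nat_lit 1, nat_lit 2, nat_lit 3]], [[nat_lit 0, nat_lit 2, nat_lit 3],
  [nat_lit 3],
  [nat_lit 1, nat_lit 2, nat_lit 3],
  [nat_lit 1]]]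

theorem md_b : ltAll 24 H15.MM23.B = 0 ∧ 10200960 ≠ 0 := by decide +kernel
theorem p2t_lt : H16.allL (ltAll 10) p2t_W = true := by decide +kernel
theorem p2_r_a : allZ2 (resEnt p2t_P p2P p2E p2I (nat_lit 24) (nat_lit 23)) (nat_lit 7) (nat_lit 23) = true := by decide +kernel
theorem p2_b : neL H15.MM23.B (p2B.map p2E) = 0 ∧ ltAll 23 p2B = 0 := by decide +kernel
theorem p2_p : allZ2 (pcEnt p2P (nat_lit 2) p2B p2C) 7 7 = true := by decide +kernel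
theorem p2_e : H16.allL (ltAll 7) p2e = true := by decide +kernel
theorem p2l0_e_0 : allZ (dent p2l0 (wdsP p2P p2e) (nat_lit 23)) (nat_lit 0) (nat_lit 15) = true := by decide +kernel
theorem p2l0_h : 0 < p2l0.n ∧ 0 < p2l0.K ∧ p2l0.Pt 0 < 23 ∧ p2l0.Q (p2l0.Pt 0) = 0 := by decide +kernel
theorem p2l1_e_0 : allZ (dent p2l1 (wdsP p2P p2e) (nat_lit 23)) (nat_lit 0) (nat_lit 7) = true := by decide +kernel
theorem p2l1_h : 0 < p2l1.n ∧ 0 < p2l1.K ∧ p2l1.Pt 0 < 23 ∧ p2l1.Q (p2l1.Pt 0) = 0 := by decide +kernel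
theorem p2_f1 : (Nat.ble p2l1.K 22 && Nat.ble (topK []) p2l1.K && fixLetters (wdsP p2P p2e) (topK []) (p2l1.Pt 0)) = true := by decide +kernel
theorem p2_f0 : (Nat.ble p2l0.K 22 && Nat.ble (topK [p2l1]) p2l0.K && fixLetters (wdsP p2P p2e) (topK [p2l1]) (p2l0.Pt 0)) = true := by decide +kernel
theorem p2_c : chainCard [p2l0, p2l1] = 2 ^ 7 ∧ ¬ 2 ^ (7 + 1) ∣ 10200960 := by decide +kernel
theorem covr_lt : H16.allL (ltAll 10) covr_W = true := by decide +kernel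
theorem cov_c0 : (Nat.ble 7 7 && Nat.beq (ltAll 7 []) 0 && Nat.beq (covT0.chk H15.MM23.P p2P covr_P p2E 10 7 2 2 1 p2B 7 [] 0) 0) = true := by decide +kernel
theorem c0ax_lt : H16.allL (ltAll 10) c0ax_W = true := by decide +kernel
theorem c0ath_lt : H16.allL (ltAll 10) c0ath_W = true := by decide +kernel
theorem c0atl0_e_0 : allZ (dent c0atl0 c0ath_P (nat_lit 24)) (nat_lit 0) (nat_lit 22) = true := by decide +kernel
theorem c0atl0_h : 0 < c0atl0.n ∧ 0 < c0atl0.K ∧ c0atl0.Pt 0 < 24 ∧ c0atl0.Q (c0atl0.Pt 0) = 0 := by decide +kernel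
theorem c0atl1_e_0 : allZ (dent c0atl1 c0ath_P (nat_lit 24)) (nat_lit 0) (nat_lit 21) = true := by decide +kernel
theorem c0atl1_h : 0 < c0atl1.n ∧ 0 < c0atl1.K ∧ c0atl1.Pt 0 < 24 ∧ c0atl1.Q (c0atl1.Pt 0) = 0 := by decide +kernel
theorem c0atl2_e_0 : allZ (dent c0atl2 c0ath_P (nat_lit 24)) (nat_lit 0) (nat_lit 20) = true := by decide +kernel
theorem c0atl2_h : 0 < c0atl2.n ∧ 0 < c0atl2.K ∧ c0atl2.Pt 0 < 24 ∧ c0atl2.Q (c0atl2.Pt 0) = 0 := by decide +kernel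
theorem c0atl3_e_0 : allZ (dent c0atl3 c0ath_P (nat_lit 24)) (nat_lit 0) (nat_lit 19) = true := by decide +kernel
theorem c0atl3_h : 0 < c0atl3.n ∧ 0 < c0atl3.K ∧ c0atl3.Pt 0 < 24 ∧ c0atl3.Q (c0atl3.Pt 0) = 0 := by decide +kernel
theorem c0atl4_e_0 : allZ (dent c0atl4 c0ath_P (nat_lit 24)) (nat_lit 0) (nat_lit 2) = true := by decide +kernel
theorem c0atl4_h : 0 < c0atl4.n ∧ 0 < c0atl4.K ∧ c0atl4.Pt 0 < 24 ∧ c0atl4.Q (c0atl4.Pt 0) = 0 := by decide +kernel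
theorem c0atl5_e_0 : allZ (dent c0atl5 c0ath_P (nat_lit 24)) (nat_lit 0) (nat_lit 15) = true := by decide +kernel
theorem c0atl5_h : 0 < c0atl5.n ∧ 0 < c0atl5.K ∧ c0atl5.Pt 0 < 24 ∧ c0atl5.Q (c0atl5.Pt 0) = 0 := by decide +kernel
theorem c0at_f5 : (Nat.ble c0atl5.K 16 && Nat.ble (topK []) c0atl5.K && fixLetters c0ath_P (topK []) (c0atl5.Pt 0)) = true := by decide +kernel
theorem c0at_f4 : (Nat.ble c0atl4.K 16 && Nat.ble (topK [c0atl5]) c0atl4.K && fixLetters c0ath_P (topK [c0atl5]) (c0atl4.Pt 0)) = true := by decide +kernel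
theorem c0at_f3 : (Nat.ble c0atl3.K 16 && Nat.ble (topK [c0atl4, c0atl5]) c0atl3.K && fixLetters c0ath_P (topK [c0atl4, c0atl5]) (c0atl3.Pt 0)) = true := by decide +kernel
theorem c0at_f2 : (Nat.ble c0atl2.K 16 && Nat.ble (topK [c0atl3, c0atl4, c0atl5]) c0atl2.K && fixLetters c0ath_P (topK [c0atl3, c0atl4, c0atl5]) (c0atl2.Pt 0)) = true := by decide +kernel
theorem c0at_f1 : (Nat.ble c0atl1.K 16 && Nat.ble (topK [c0atl2, c0atl3, c0atl4, c0atl5]) c0atl1.K && fixLetters c0ath_P (topK [c0atl2, c0atl3, c0atl4, c0atl5]) (c0atl1.Pt 0)) = true := by decide +kernel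
theorem c0at_f0 : (Nat.ble c0atl0.K 16 && Nat.ble (topK [c0atl1, c0atl2, c0atl3, c0atl4, c0atl5]) c0atl0.K && fixLetters c0ath_P (topK [c0atl1, c0atl2, c0atl3, c0atl4, c0atl5]) (c0atl0.Pt 0)) = true := by decide +kernel
theorem c0at_c : chainCard [c0atl0, c0atl1, c0atl2, c0atl3, c0atl4, c0atl5] = 10200960 := by decide +kernel
theorem c0ace_lt : H16.allL (ltAll 10) c0ace_W = true := by decide +kernel
theorem c0acc5_e_0 : allZ (dent c0acc5 c0ace_P (nat_lit 24)) (nat_lit 0) (nat_lit 3) = true := by decide +kernel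
theorem c0acc5_h : 0 < c0acc5.n ∧ 0 < c0acc5.K ∧ c0acc5.Pt 0 < 24 ∧ c0acc5.Q (c0acc5.Pt 0) = 0 := by decide +kernel
theorem c0atn0_0 : (Nat.ble c0atl5.K 16 && Nat.beq (ltAll 24 [c0atl4.Pt 0, c0atl3.Pt 0, c0atl2.Pt 0, c0atl1.Pt 0, c0atl0.Pt 0]) 0 && kChk c0ace_P c0ax_P c0atn0.Kn 1 H15.MM23.B [c0atl4.Pt 0, c0atl3.Pt 0, c0atl2.Pt 0, c0atl1.Pt 0, c0atl0.Pt 0] && H16.allL (ltAll 1) c0atn0.pre && planOK c0ath_P c0ax_P 1 (c0atl5.Pt 0) c0atn0.plan [c0atl5]) = true := by decide +kernel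
theorem c0atn0_1_0 : allZ (c0atn0.ent H15.MM23.P c0ath_P c0ax_P c0ax_P c0ace_P (nat_lit 10) (nat_lit 1) H15.MM23.B c0atl5 [] (memO c0acc5)) (nat_lit 0) (nat_lit 16) = true := by decide +kernel
theorem c0ac_f5 : (Nat.ble c0acc5.K 5 && Nat.ble (topK []) c0acc5.K && Nat.beq (c0acc5.Pt 0) (c0atl5.Pt 0) && Nat.beq (ltAll 24 [c0atl4.Pt 0, c0atl3.Pt 0, c0atl2.Pt 0, c0atl1.Pt 0, c0atl0.Pt 0]) 0 && kChk c0ace_P c0ax_P c0acc5.K 1 H15.MM23.B [c0atl4.Pt 0, c0atl3.Pt 0, c0atl2.Pt 0, c0atl1.Pt 0, c0atl0.Pt 0]) = true := by decide +kernel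
theorem c0acc4_e_0 : allZ (dent c0acc4 c0ace_P (nat_lit 24)) (nat_lit 0) (nat_lit 2) = true := by decide +kernel
theorem c0acc4_h : 0 < c0acc4.n ∧ 0 < c0acc4.K ∧ c0acc4.Pt 0 < 24 ∧ c0acc4.Q (c0acc4.Pt 0) = 0 := by decide +kernel
theorem c0atn1_0 : (Nat.ble c0atl4.K 16 && Nat.beq (ltAll 24 [c0atl3.Pt 0, c0atl2.Pt 0, c0atl1.Pt 0, c0atl0.Pt 0]) 0 && kChk c0ace_P c0ax_P c0atn1.Kn 1 H15.MM23.B [c0atl3.Pt 0, c0atl2.Pt 0, c0atl1.Pt 0, c0atl0.Pt 0] && H16.allL (ltAll 1) c0atn1.pre && planOK c0ath_P c0ax_P 1 (c0atl4.Pt 0) c0atn1.plan [c0atl4, c0atl5]) = true := by decide +kernel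
theorem c0atn1_1_0 : allZ (c0atn1.ent H15.MM23.P c0ath_P c0ax_P c0ax_P c0ace_P (nat_lit 10) (nat_lit 1) H15.MM23.B c0atl4 [c0atl5] (memO c0acc4)) (nat_lit 0) (nat_lit 3) = true := by decide +kernel
theorem c0ac_f4 : (Nat.ble c0acc4.K 5 && Nat.ble (topK [c0acc5]) c0acc4.K && Nat.beq (c0acc4.Pt 0) (c0atl4.Pt 0) && Nat.beq (ltAll 24 [c0atl3.Pt 0, c0atl2.Pt 0, c0atl1.Pt 0, c0atl0.Pt 0]) 0 && kChk c0ace_P c0ax_P c0acc4.K 1 H15.MM23.B [c0atl3.Pt 0, c0atl2.Pt 0, c0atl1.Pt 0, c0atl0.Pt 0]) = true := by decide +kernel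
theorem c0ac_f3 : (Nat.ble c0atl3.K 16 && Nat.blt (nat_lit 2) 24 && fixLetters c0ath_P c0atl3.K (nat_lit 2) && Nat.beq (ltAll 1 [nat_lit 0]) 0 && Nat.beq (apW c0ax_P [nat_lit 0] (nat_lit 2)) (c0atl3.Pt 0)) = true := by decide +kernel
theorem c0acc2_e_0 : allZ (dent c0acc2 c0ace_P (nat_lit 24)) (nat_lit 0) (nat_lit 13) = true := by decide +kernel
theorem c0acc2_h : 0 < c0acc2.n ∧ 0 < c0acc2.K ∧ c0acc2.Pt 0 < 24 ∧ c0acc2.Q (c0acc2.Pt 0) = 0 := by decide +kernel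
theorem c0atn2_0 : (Nat.ble c0atl2.K 16 && Nat.beq (ltAll 24 [c0atl1.Pt 0, c0atl0.Pt 0]) 0 && kChk c0ace_P c0ax_P c0atn2.Kn 1 H15.MM23.B [c0atl1.Pt 0, c0atl0.Pt 0] && H16.allL (ltAll 1) c0atn2.pre && planOK c0ath_P c0ax_P 1 (c0atl2.Pt 0) c0atn2.plan [c0atl2, c0atl3, c0atl4, c0atl5]) = true := by decide +kernel
theorem c0atn2_1_0 : allZ (c0atn2.ent H15.MM23.P c0ath_P c0ax_P c0ax_P c0ace_P (nat_lit 10) (nat_lit 1) H15.MM23.B c0atl2 [c0atl3, c0atl4, c0atl5] (memO c0acc2)) (nat_lit 0) (nat_lit 21) = true := by decide +kernel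
theorem c0ac_f2 : (Nat.ble c0acc2.K 5 && Nat.ble (topK [c0acc4, c0acc5]) c0acc2.K && Nat.beq (c0acc2.Pt 0) (c0atl2.Pt 0) && Nat.beq (ltAll 24 [c0atl1.Pt 0, c0atl0.Pt 0]) 0 && kChk c0ace_P c0ax_P c0acc2.K 1 H15.MM23.B [c0atl1.Pt 0, c0atl0.Pt 0]) = true := by decide +kernel
theorem c0ac_f1 : (Nat.ble c0atl1.K 16 && Nat.blt (nat_lit 1) 24 && fixLetters c0ath_P c0atl1.K (nat_lit 1) && Nat.beq (ltAll 1 [nat_lit 0]) 0 && Nat.beq (apW c0ax_P [nat_lit 0] (nat_lit 1)) (c0atl1.Pt 0)) = true := by decide +kernel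
theorem c0acc0_e_0 : allZ (dent c0acc0 c0ace_P (nat_lit 24)) (nat_lit 0) (nat_lit 15) = true := by decide +kernel
theorem c0acc0_h : 0 < c0acc0.n ∧ 0 < c0acc0.K ∧ c0acc0.Pt 0 < 24 ∧ c0acc0.Q (c0acc0.Pt 0) = 0 := by decide +kernel
theorem c0atn3_0 : (Nat.ble c0atl0.K 16 && Nat.beq (ltAll 24 []) 0 && kChk c0ace_P c0ax_P c0atn3.Kn 1 H15.MM23.B [] && H16.allL (ltAll 1) c0atn3.pre && planOK c0ath_P c0ax_P 1 (c0atl0.Pt 0) c0atn3.plan [c0atl0, c0atl1, c0atl2, c0atl3, c0atl4, c0atl5]) = true := by decide +kernel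
theorem c0atn3_1_0 : allZ (c0atn3.ent H15.MM23.P c0ath_P c0ax_P c0ax_P c0ace_P (nat_lit 10) (nat_lit 1) H15.MM23.B c0atl0 [c0atl1, c0atl2, c0atl3, c0atl4, c0atl5] (memO c0acc0)) (nat_lit 0) (nat_lit 23) = true := by decide +kernel
theorem c0ac_f0 : (Nat.ble c0acc0.K 5 && Nat.ble (topK [c0acc2, c0acc4, c0acc5]) c0acc0.K && Nat.beq (c0acc0.Pt 0) (c0atl0.Pt 0) && Nat.beq (ltAll 24 []) 0 && kChk c0ace_P c0ax_P c0acc0.K 1 H15.MM23.B []) = true := by decide +kernel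
theorem c0ac_c : chainCard [c0acc0, c0acc2, c0acc4, c0acc5] = 2688 ∧ topK [c0acc0, c0acc2, c0acc4, c0acc5] = 5 := by decide +kernel
theorem c0v_lt : H16.allL (ltAll 10) c0v_W = true := by decide +kernel
theorem c0cth_lt : H16.allL (ltAll 10) c0cth_W = true := by decide +kernel
theorem c0ctl0_e_0 : allZ (dent c0ctl0 c0cth_P (nat_lit 24)) (nat_lit 0) (nat_lit 22) = true := by decide +kernel
theorem c0ctl0_h : 0 < c0ctl0.n ∧ 0 < c0ctl0.K ∧ c0ctl0.Pt 0 < 24 ∧ c0ctl0.Q (c0ctl0.Pt 0) = 0 := by decide +kernel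
theorem c0ctl1_e_0 : allZ (dent c0ctl1 c0cth_P (nat_lit 24)) (nat_lit 0) (nat_lit 21) = true := by decide +kernel
theorem c0ctl1_h : 0 < c0ctl1.n ∧ 0 < c0ctl1.K ∧ c0ctl1.Pt 0 < 24 ∧ c0ctl1.Q (c0ctl1.Pt 0) = 0 := by decide +kernel
theorem c0ctl2_e_0 : allZ (dent c0ctl2 c0cth_P (nat_lit 24)) (nat_lit 0) (nat_lit 20) = true := by decide +kernel
theorem c0ctl2_h : 0 < c0ctl2.n ∧ 0 < c0ctl2.K ∧ c0ctl2.Pt 0 < 24 ∧ c0ctl2.Q (c0ctl2.Pt 0) = 0 := by decide +kernel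
theorem c0ctl3_e_0 : allZ (dent c0ctl3 c0cth_P (nat_lit 24)) (nat_lit 0) (nat_lit 19) = true := by decide +kernel
theorem c0ctl3_h : 0 < c0ctl3.n ∧ 0 < c0ctl3.K ∧ c0ctl3.Pt 0 < 24 ∧ c0ctl3.Q (c0ctl3.Pt 0) = 0 := by decide +kernel
theorem c0ctl4_e_0 : allZ (dent c0ctl4 c0cth_P (nat_lit 24)) (nat_lit 0) (nat_lit 15) = true := by decide +kernel
theorem c0ctl4_h : 0 < c0ctl4.n ∧ 0 < c0ctl4.K ∧ c0ctl4.Pt 0 < 24 ∧ c0ctl4.Q (c0ctl4.Pt 0) = 0 := by decide +kernel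
theorem c0ctl5_e_0 : allZ (dent c0ctl5 c0cth_P (nat_lit 24)) (nat_lit 0) (nat_lit 2) = true := by decide +kernel
theorem c0ctl5_h : 0 < c0ctl5.n ∧ 0 < c0ctl5.K ∧ c0ctl5.Pt 0 < 24 ∧ c0ctl5.Q (c0ctl5.Pt 0) = 0 := by decide +kernel
theorem c0ct_f5 : (Nat.ble c0ctl5.K 13 && Nat.ble (topK []) c0ctl5.K && fixLetters c0cth_P (topK []) (c0ctl5.Pt 0)) = true := by decide +kernel
theorem c0ct_f4 : (Nat.ble c0ctl4.K 13 && Nat.ble (topK [c0ctl5]) c0ctl4.K && fixLetters c0cth_P (topK [c0ctl5]) (c0ctl4.Pt 0)) = true := by decide +kernel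
theorem c0ct_f3 : (Nat.ble c0ctl3.K 13 && Nat.ble (topK [c0ctl4, c0ctl5]) c0ctl3.K && fixLetters c0cth_P (topK [c0ctl4, c0ctl5]) (c0ctl3.Pt 0)) = true := by decide +kernel
theorem c0ct_f2 : (Nat.ble c0ctl2.K 13 && Nat.ble (topK [c0ctl3, c0ctl4, c0ctl5]) c0ctl2.K && fixLetters c0cth_P (topK [c0ctl3, c0ctl4, c0ctl5]) (c0ctl2.Pt 0)) = true := by decide +kernel
theorem c0ct_f1 : (Nat.ble c0ctl1.K 13 && Nat.ble (topK [c0ctl2, c0ctl3, c0ctl4, c0ctl5]) c0ctl1.K && fixLetters c0cth_P (topK [c0ctl2, c0ctl3, c0ctl4, c0ctl5]) (c0ctl1.Pt 0)) = true := by decide +kernel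
theorem c0ct_f0 : (Nat.ble c0ctl0.K 13 && Nat.ble (topK [c0ctl1, c0ctl2, c0ctl3, c0ctl4, c0ctl5]) c0ctl0.K && fixLetters c0cth_P (topK [c0ctl1, c0ctl2, c0ctl3, c0ctl4, c0ctl5]) (c0ctl0.Pt 0)) = true := by decide +kernel
theorem c0ct_c : chainCard [c0ctl0, c0ctl1, c0ctl2, c0ctl3, c0ctl4, c0ctl5] = 10200960 := by decide +kernel
theorem c0ce_lt : H16.allL (ltAll 10) c0ce_W = true := by decide +kernel
theorem c0c_f5 : (Nat.ble c0ctl5.K 13 && Nat.blt (nat_lit 1) 24 && fixLetters c0cth_P c0ctl5.K (nat_lit 1) && Nat.beq (ltAll 4 [nat_lit 1, nat_lit 2]) 0 && Nat.beq (apW c0v_P [nat_lit 1, nat_lit 2] (nat_lit 1)) (c0ctl5.Pt 0)) = true := by decide +kernel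
theorem c0c_f4 : (Nat.ble c0ctl4.K 13 && Nat.blt (nat_lit 1) 24 && fixLetters c0cth_P c0ctl4.K (nat_lit 1) && Nat.beq (ltAll 4 [nat_lit 1]) 0 && Nat.beq (apW c0v_P [nat_lit 1] (nat_lit 1)) (c0ctl4.Pt 0)) = true := by decide +kernel
theorem c0c_f3 : (Nat.ble c0ctl3.K 13 && Nat.blt (nat_lit 1) 24 && fixLetters c0cth_P c0ctl3.K (nat_lit 1) && Nat.beq (ltAll 4 [nat_lit 2]) 0 && Nat.beq (apW c0v_P [nat_lit 2] (nat_lit 1)) (c0ctl3.Pt 0)) = true := by decide +kernel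
theorem c0c_f2 : (Nat.ble c0ctl2.K 13 && Nat.blt (nat_lit 1) 24 && fixLetters c0cth_P c0ctl2.K (nat_lit 1) && Nat.beq (ltAll 4 [nat_lit 3]) 0 && Nat.beq (apW c0v_P [nat_lit 3] (nat_lit 1)) (c0ctl2.Pt 0)) = true := by decide +kernel
theorem c0c_f1 : (Nat.ble c0ctl1.K 13 && Nat.blt (nat_lit 1) 24 && fixLetters c0cth_P c0ctl1.K (nat_lit 1) && Nat.beq (ltAll 4 [nat_lit 0]) 0 && Nat.beq (apW c0v_P [nat_lit 0] (nat_lit 1)) (c0ctl1.Pt 0)) = true := by decide +kernel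
theorem c0cc0_e_0 : allZ (dent c0cc0 c0ce_P (nat_lit 24)) (nat_lit 0) (nat_lit 15) = true := by decide +kernel
theorem c0cc0_h : 0 < c0cc0.n ∧ 0 < c0cc0.K ∧ c0cc0.Pt 0 < 24 ∧ c0cc0.Q (c0cc0.Pt 0) = 0 := by decide +kernel
theorem c0ctn0_0 : (Nat.ble c0ctl0.K 13 && Nat.beq (ltAll 24 []) 0 && kChk c0ce_P c0v_P c0ctn0.Kn 4 H15.MM23.B [] && H16.allL (ltAll 4) c0ctn0.pre && planOK c0cth_P c0v_P 4 (c0ctl0.Pt 0) c0ctn0.plan [c0ctl0, c0ctl1, c0ctl2, c0ctl3, c0ctl4, c0ctl5]) = true := by decide +kernel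
theorem c0ctn0_1_0 : allZ (c0ctn0.ent H15.MM23.P c0cth_P c0v_P c0v_P c0ce_P (nat_lit 10) (nat_lit 4) H15.MM23.B c0ctl0 [c0ctl1, c0ctl2, c0ctl3, c0ctl4, c0ctl5] (memO c0cc0)) (nat_lit 0) (nat_lit 23) = true := by decide +kernel
theorem c0c_f0 : (Nat.ble c0cc0.K 4 && Nat.ble (topK []) c0cc0.K && Nat.beq (c0cc0.Pt 0) (c0ctl0.Pt 0) && Nat.beq (ltAll 24 []) 0 && kChk c0ce_P c0v_P c0cc0.K 4 H15.MM23.B []) = true := by decide +kernel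
theorem c0c_c : chainCard [c0cc0] = 16 ∧ topK [c0cc0] = 4 := by decide +kernel
theorem c0z_k_0 : allZ (cmEnt c0v_P covr_P (nat_lit 4) H15.MM23.B (nat_lit 0)) (nat_lit 0) (nat_lit 4) = true := by decide +kernel
theorem c0n_k_a : allZ2 (nrmEnt c0v_P c0ace_P (nat_lit 4) H15.MM23.B c0nW) (nat_lit 5) (nat_lit 4) = true := by decide +kernel
theorem c0m0_k_0 : allZ (cmEnt c0v_P c0v_P (nat_lit 4) H15.MM23.B (nat_lit 0)) (nat_lit 0) (nat_lit 4) = true := by decide +kernel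
theorem c0m1_k_0 : allZ (cmEnt c0v_P c0v_P (nat_lit 4) H15.MM23.B (nat_lit 1)) (nat_lit 0) (nat_lit 4) = true := by decide +kernel
theorem c0m2_k_0 : allZ (cmEnt c0v_P c0v_P (nat_lit 4) H15.MM23.B (nat_lit 2)) (nat_lit 0) (nat_lit 4) = true := by decide +kernel
theorem c0m3_k_0 : allZ (cmEnt c0v_P c0v_P (nat_lit 4) H15.MM23.B (nat_lit 3)) (nat_lit 0) (nat_lit 4) = true := by decide +kernel

theorem md {G : Type*} [Group G] (e : gen H15.MM23.g 10 ≃* G) :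
    ∃ (_ : MulAction G (Cfsg.GolayPt)) (g : ℕ → G), Md g H15.pt H15.MM23.P 24 10 H15.MM23.B 10200960 ∧
      ∀ k < 10, (e.symm (g k)).1 = H15.MM23.g k :=
  exists_md H15.MM23.act H15.MM23.inj H15.MM23.card H15.MM23.isBase md_b e
theorem p2t_act {G Ω : Type*} [Group G] [MulAction G Ω] {g : ℕ → G} {pt : ℕ → Ω}
    (M : Md g pt H15.MM23.P 24 10 H15.MM23.B 10200960) : Act (wds g p2t_W) pt p2t_P 24 7 :=
  M.wact p2t_lt
theorem p2_r : ∀ k < 7, ∀ i < 23, (resEnt p2t_P p2P p2E p2I (nat_lit 24) (nat_lit 23)) k i = 0 := allZ2_sound p2_r_a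
theorem p2_sm {G Ω : Type*} [Group G] [MulAction G Ω] {g : ℕ → G} {pt : ℕ → Ω}
    (M : Md g pt H15.MM23.P 24 10 H15.MM23.B 10200960) : Sm (wds g p2t_W) (fun i => pt (p2E i)) p2P 23 7 p2B ∧ ∀ i < 23, p2E i < 24 :=
  M.res (p2t_act M) (by decide) p2_r p2_b
theorem p2l0_e : ∀ i < 15, (dent p2l0 (wdsP p2P p2e) (nat_lit 23)) i = 0 := allZ_sound0 p2l0_e_0
theorem p2l0_ok : DOK p2l0 (wdsP p2P p2e) 23 := ⟨p2l0_h, p2l0_e⟩
theorem p2l1_e : ∀ i < 7, (dent p2l1 (wdsP p2P p2e) (nat_lit 23)) i = 0 := allZ_sound0 p2l1_e_0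
theorem p2l1_ok : DOK p2l1 (wdsP p2P p2e) 23 := ⟨p2l1_h, p2l1_e⟩
theorem p2_low {G Ω : Type*} [Group G] [MulAction G Ω] {g : ℕ → G} {pt : ℕ → Ω}
    (M : Md g pt H15.MM23.P 24 10 H15.MM23.B 10200960) : SLow (gi (wds (wds g p2t_W) p2e)) (fun i => pt (p2E i)) 23 [p2l0, p2l1] :=
  ((SLow.nil).cons p2l1_ok ((p2_sm M).1.act.wds p2_e 22) p2_f1).cons p2l0_ok ((p2_sm M).1.act.wds p2_e 22) p2_f0
theorem p2_pc {G Ω : Type*} [Group G] [MulAction G Ω] {g : ℕ → G} {pt : ℕ → Ω}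
    (M : Md g pt H15.MM23.P 24 10 H15.MM23.B 10200960) : PC (wds g p2t_W) 7 2 :=
  have := M.fin
  ((p2_sm M).1.pc0 (by decide) p2_p).pc (p2_low M) (p2_sm M).1.inj
    (fun k => evA_mem_gen _ (nth_lt p2_e k)) M.card ⟨by decide, p2_c⟩
theorem covr_act {G Ω : Type*} [Group G] [MulAction G Ω] {g : ℕ → G} {pt : ℕ → Ω}
    (M : Md g pt H15.MM23.P 24 10 H15.MM23.B 10200960) : Act (wds g covr_W) pt covr_P 24 1 :=
  M.wact covr_lt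
theorem cov_0 {G Ω : Type*} [Group G] [MulAction G Ω] {g : ℕ → G} {pt : ℕ → Ω}
    (M : Md g pt H15.MM23.P 24 10 H15.MM23.B 10200960) : H0.TR.Cov (wds g p2t_W) (wds g covr_W) 2 1 7 (evA (wds g p2t_W) []) :=
  have := M.fin
  covT0.cov M (p2_sm M).1 (p2_sm M).2 (covr_act M) (p2_pc M) _ _ cov_c0
theorem cov {G Ω : Type*} [Group G] [MulAction G Ω] {g : ℕ → G} {pt : ℕ → Ω}
    (M : Md g pt H15.MM23.P 24 10 H15.MM23.B 10200960) {y : G} {e : ℕ} (hy : y ^ 2 ^ e = 1) (hq : y ^ 2 = 1) : Good (wds g covr_W) 1 y :=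
  have := M.fin
  H0.TR.Cov.all (p2_pc M) (cov_0 M) hy hq
theorem c0ax_act {G Ω : Type*} [Group G] [MulAction G Ω] {g : ℕ → G} {pt : ℕ → Ω}
    (M : Md g pt H15.MM23.P 24 10 H15.MM23.B 10200960) : Act (wds g c0ax_W) pt c0ax_P 24 1 :=
  M.wact c0ax_lt
theorem c0ath_act {G Ω : Type*} [Group G] [MulAction G Ω] {g : ℕ → G} {pt : ℕ → Ω}
    (M : Md g pt H15.MM23.P 24 10 H15.MM23.B 10200960) : Act (wds g c0ath_W) pt c0ath_P 24 16 :=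
  M.wact c0ath_lt
theorem c0atl0_e : ∀ i < 22, (dent c0atl0 c0ath_P (nat_lit 24)) i = 0 := allZ_sound0 c0atl0_e_0
theorem c0atl0_ok : DOK c0atl0 c0ath_P 24 := ⟨c0atl0_h, c0atl0_e⟩
theorem c0atl1_e : ∀ i < 21, (dent c0atl1 c0ath_P (nat_lit 24)) i = 0 := allZ_sound0 c0atl1_e_0
theorem c0atl1_ok : DOK c0atl1 c0ath_P 24 := ⟨c0atl1_h, c0atl1_e⟩
theorem c0atl2_e : ∀ i < 20, (dent c0atl2 c0ath_P (nat_lit 24)) i = 0 := allZ_sound0 c0atl2_e_0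
theorem c0atl2_ok : DOK c0atl2 c0ath_P 24 := ⟨c0atl2_h, c0atl2_e⟩
theorem c0atl3_e : ∀ i < 19, (dent c0atl3 c0ath_P (nat_lit 24)) i = 0 := allZ_sound0 c0atl3_e_0
theorem c0atl3_ok : DOK c0atl3 c0ath_P 24 := ⟨c0atl3_h, c0atl3_e⟩
theorem c0atl4_e : ∀ i < 2, (dent c0atl4 c0ath_P (nat_lit 24)) i = 0 := allZ_sound0 c0atl4_e_0
theorem c0atl4_ok : DOK c0atl4 c0ath_P 24 := ⟨c0atl4_h, c0atl4_e⟩
theorem c0atl5_e : ∀ i < 15, (dent c0atl5 c0ath_P (nat_lit 24)) i = 0 := allZ_sound0 c0atl5_e_0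
theorem c0atl5_ok : DOK c0atl5 c0ath_P 24 := ⟨c0atl5_h, c0atl5_e⟩
theorem c0at_low {G Ω : Type*} [Group G] [MulAction G Ω] {g : ℕ → G} {pt : ℕ → Ω}
    (M : Md g pt H15.MM23.P 24 10 H15.MM23.B 10200960) : SLow (gi (wds g c0ath_W)) pt 24 [c0atl0, c0atl1, c0atl2, c0atl3, c0atl4, c0atl5] :=
  ((((((SLow.nil).cons c0atl5_ok (c0ath_act M) c0at_f5).cons c0atl4_ok (c0ath_act M) c0at_f4).cons c0atl3_ok (c0ath_act M) c0at_f3).cons c0atl2_ok (c0ath_act M) c0at_f2).cons c0atl1_ok (c0ath_act M) c0at_f1).cons c0atl0_ok (c0ath_act M) c0at_f0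
theorem c0at_S0 {G Ω : Type*} [Group G] [MulAction G Ω] {g : ℕ → G} {pt : ℕ → Ω}
    (M : Md g pt H15.MM23.P 24 10 H15.MM23.B 10200960) : Stage ⊤ (wds g c0ath_W) pt 24 [c0atl0, c0atl1, c0atl2, c0atl3, c0atl4, c0atl5] [] :=
  M.stage (c0at_low M) c0at_c
theorem c0at_S1 {G Ω : Type*} [Group G] [MulAction G Ω] {g : ℕ → G} {pt : ℕ → Ω}
    (M : Md g pt H15.MM23.P 24 10 H15.MM23.B 10200960) : Stage ⊤ (wds g c0ath_W) pt 24 [c0atl1, c0atl2, c0atl3, c0atl4, c0atl5] [c0atl0.Pt 0] :=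
  (c0at_S0 M).next
theorem c0at_S2 {G Ω : Type*} [Group G] [MulAction G Ω] {g : ℕ → G} {pt : ℕ → Ω}
    (M : Md g pt H15.MM23.P 24 10 H15.MM23.B 10200960) : Stage ⊤ (wds g c0ath_W) pt 24 [c0atl2, c0atl3, c0atl4, c0atl5] [c0atl1.Pt 0, c0atl0.Pt 0] :=
  (c0at_S1 M).next
theorem c0at_S3 {G Ω : Type*} [Group G] [MulAction G Ω] {g : ℕ → G} {pt : ℕ → Ω}
    (M : Md g pt H15.MM23.P 24 10 H15.MM23.B 10200960) : Stage ⊤ (wds g c0ath_W) pt 24 [c0atl3, c0atl4, c0atl5] [c0atl2.Pt 0, c0atl1.Pt 0, c0atl0.Pt 0] :=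
  (c0at_S2 M).next
theorem c0at_S4 {G Ω : Type*} [Group G] [MulAction G Ω] {g : ℕ → G} {pt : ℕ → Ω}
    (M : Md g pt H15.MM23.P 24 10 H15.MM23.B 10200960) : Stage ⊤ (wds g c0ath_W) pt 24 [c0atl4, c0atl5] [c0atl3.Pt 0, c0atl2.Pt 0, c0atl1.Pt 0, c0atl0.Pt 0] :=
  (c0at_S3 M).next
theorem c0at_S5 {G Ω : Type*} [Group G] [MulAction G Ω] {g : ℕ → G} {pt : ℕ → Ω}
    (M : Md g pt H15.MM23.P 24 10 H15.MM23.B 10200960) : Stage ⊤ (wds g c0ath_W) pt 24 [c0atl5] [c0atl4.Pt 0, c0atl3.Pt 0, c0atl2.Pt 0, c0atl1.Pt 0, c0atl0.Pt 0] :=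
  (c0at_S4 M).next
theorem c0at_S6 {G Ω : Type*} [Group G] [MulAction G Ω] {g : ℕ → G} {pt : ℕ → Ω}
    (M : Md g pt H15.MM23.P 24 10 H15.MM23.B 10200960) : Stage ⊤ (wds g c0ath_W) pt 24 [] [c0atl5.Pt 0, c0atl4.Pt 0, c0atl3.Pt 0, c0atl2.Pt 0, c0atl1.Pt 0, c0atl0.Pt 0] :=
  (c0at_S5 M).next
theorem c0ace_act {G Ω : Type*} [Group G] [MulAction G Ω] {g : ℕ → G} {pt : ℕ → Ω}
    (M : Md g pt H15.MM23.P 24 10 H15.MM23.B 10200960) : Act (wds g c0ace_W) pt c0ace_P 24 5 :=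
  M.wact c0ace_lt
theorem c0acc5_e : ∀ i < 3, (dent c0acc5 c0ace_P (nat_lit 24)) i = 0 := allZ_sound0 c0acc5_e_0
theorem c0acc5_ok : DOK c0acc5 c0ace_P 24 := ⟨c0acc5_h, c0acc5_e⟩
theorem c0atn0_1 : ∀ i < 16, (c0atn0.ent H15.MM23.P c0ath_P c0ax_P c0ax_P c0ace_P (nat_lit 10) (nat_lit 1) H15.MM23.B c0atl5 [] (memO c0acc5)) i = 0 := allZ_sound0 c0atn0_1_0
theorem c0atn0_t {G Ω : Type*} [Group G] [MulAction G Ω] {g : ℕ → G} {pt : ℕ → Ω}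
    (M : Md g pt H15.MM23.P 24 10 H15.MM23.B 10200960) : TrO (gen (wds g c0ath_W) c0atl5.K) (wds g c0ax_W) (wds g c0ax_W) 1 pt 24 (c0atl5.Pt 0) (memO c0acc5) :=
  node M (c0at_S5 M) (c0ath_act M) (c0ax_act M) (c0ax_act M) c0atn0 ((c0ace_act M).mono (by decide)) (fun _ _ => trivial) c0atn0_0 c0atn0_1 (List.forall_mem_nil _)
theorem c0acc4_e : ∀ i < 2, (dent c0acc4 c0ace_P (nat_lit 24)) i = 0 := allZ_sound0 c0acc4_e_0
theorem c0acc4_ok : DOK c0acc4 c0ace_P 24 := ⟨c0acc4_h, c0acc4_e⟩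
theorem c0atn1_1 : ∀ i < 3, (c0atn1.ent H15.MM23.P c0ath_P c0ax_P c0ax_P c0ace_P (nat_lit 10) (nat_lit 1) H15.MM23.B c0atl4 [c0atl5] (memO c0acc4)) i = 0 := allZ_sound0 c0atn1_1_0
theorem c0atn1_t {G Ω : Type*} [Group G] [MulAction G Ω] {g : ℕ → G} {pt : ℕ → Ω}
    (M : Md g pt H15.MM23.P 24 10 H15.MM23.B 10200960) : TrO (gen (wds g c0ath_W) c0atl4.K) (wds g c0ax_W) (wds g c0ax_W) 1 pt 24 (c0atl4.Pt 0) (memO c0acc4) :=
  node M (c0at_S4 M) (c0ath_act M) (c0ax_act M) (c0ax_act M) c0atn1 ((c0ace_act M).mono (by decide)) (fun _ _ => trivial) c0atn1_0 c0atn1_1 (List.forall_mem_nil _)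
theorem c0acc2_e : ∀ i < 13, (dent c0acc2 c0ace_P (nat_lit 24)) i = 0 := allZ_sound0 c0acc2_e_0
theorem c0acc2_ok : DOK c0acc2 c0ace_P 24 := ⟨c0acc2_h, c0acc2_e⟩
theorem c0atn2_1 : ∀ i < 21, (c0atn2.ent H15.MM23.P c0ath_P c0ax_P c0ax_P c0ace_P (nat_lit 10) (nat_lit 1) H15.MM23.B c0atl2 [c0atl3, c0atl4, c0atl5] (memO c0acc2)) i = 0 := allZ_sound0 c0atn2_1_0
theorem c0atn2_t {G Ω : Type*} [Group G] [MulAction G Ω] {g : ℕ → G} {pt : ℕ → Ω}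
    (M : Md g pt H15.MM23.P 24 10 H15.MM23.B 10200960) : TrO (gen (wds g c0ath_W) c0atl2.K) (wds g c0ax_W) (wds g c0ax_W) 1 pt 24 (c0atl2.Pt 0) (memO c0acc2) :=
  node M (c0at_S2 M) (c0ath_act M) (c0ax_act M) (c0ax_act M) c0atn2 ((c0ace_act M).mono (by decide)) (fun _ _ => trivial) c0atn2_0 c0atn2_1 (List.forall_mem_nil _)
theorem c0acc0_e : ∀ i < 15, (dent c0acc0 c0ace_P (nat_lit 24)) i = 0 := allZ_sound0 c0acc0_e_0
theorem c0acc0_ok : DOK c0acc0 c0ace_P 24 := ⟨c0acc0_h, c0acc0_e⟩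
theorem c0atn3_1 : ∀ i < 23, (c0atn3.ent H15.MM23.P c0ath_P c0ax_P c0ax_P c0ace_P (nat_lit 10) (nat_lit 1) H15.MM23.B c0atl0 [c0atl1, c0atl2, c0atl3, c0atl4, c0atl5] (memO c0acc0)) i = 0 := allZ_sound0 c0atn3_1_0
theorem c0atn3_t {G Ω : Type*} [Group G] [MulAction G Ω] {g : ℕ → G} {pt : ℕ → Ω}
    (M : Md g pt H15.MM23.P 24 10 H15.MM23.B 10200960) : TrO (gen (wds g c0ath_W) c0atl0.K) (wds g c0ax_W) (wds g c0ax_W) 1 pt 24 (c0atl0.Pt 0) (memO c0acc0) :=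
  node M (c0at_S0 M) (c0ath_act M) (c0ax_act M) (c0ax_act M) c0atn3 ((c0ace_act M).mono (by decide)) (fun _ _ => trivial) c0atn3_0 c0atn3_1 (List.forall_mem_nil _)
theorem c0ac {G Ω : Type*} [Group G] [MulAction G Ω] {g : ℕ → G} {pt : ℕ → Ω}
    (M : Md g pt H15.MM23.P 24 10 H15.MM23.B 10200960) : Cen ⊤ (wds g c0ax_W) 1 (wds g c0ace_W) pt 24 [c0acc0, c0acc2, c0acc4, c0acc5] :=
  (c0at_S0 M).top ▸ Cen.lev M (c0at_S0 M) (Cen.triv (c0at_S1 M) (Cen.lev M (c0at_S2 M) (Cen.triv (c0at_S3 M) (Cen.lev M (c0at_S4 M) (Cen.lev M (c0at_S5 M) (Cen.bot) (c0atn0_t M) (c0ax_act M) (c0ace_act M) (fun _ _ => trivial) c0acc5_ok c0ac_f5) (c0atn1_t M) (c0ax_act M) (c0ace_act M) (fun _ _ => trivial) c0acc4_ok c0ac_f4) (forced (c0at_S3 M) (c0ath_act M) (c0ax_act M) _ _ c0ac_f3)) (c0atn2_t M) (c0ax_act M) (c0ace_act M) (fun _ _ => trivial) c0acc2_ok c0ac_f2) (forced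 (c0at_S1 M) (c0ath_act M) (c0ax_act M) _ _ c0ac_f1)) (c0atn3_t M) (c0ax_act M) (c0ace_act M) (fun _ _ => trivial) c0acc0_ok c0ac_f0
theorem c0ac_card {G Ω : Type*} [Group G] [MulAction G Ω] {g : ℕ → G} {pt : ℕ → Ω}
    (M : Md g pt H15.MM23.P 24 10 H15.MM23.B 10200960) : Nat.card (Subgroup.centralizer {(wds g c0ax_W) 0}) = 2688 :=
  (c0ac M).card_cent1 M.inj c0ac_c.1
theorem c0ac_eq {G Ω : Type*} [Group G] [MulAction G Ω] {g : ℕ → G} {pt : ℕ → Ω}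
    (M : Md g pt H15.MM23.P 24 10 H15.MM23.B 10200960) : Subgroup.centralizer (gen (wds g c0ax_W) 1) = gen (wds g c0ace_W) 5 ∧ Nat.card (gen (wds g c0ace_W) 5) = 2688 :=
  c0ac_c.1 ▸ c0ac_c.2 ▸ ⟨(c0ac M).cent, (c0ac M).card M.inj⟩
theorem c0a_z {G Ω : Type*} [Group G] [MulAction G Ω] {g : ℕ → G} {pt : ℕ → Ω}
    (M : Md g pt H15.MM23.P 24 10 H15.MM23.B 10200960) : Subgroup.centralizer {(wds g c0ax_W) 0} = (gen (wds g c0ace_W) 5) :=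
  c0ac_c.2 ▸ (c0ac M).cent1
theorem c0v_act {G Ω : Type*} [Group G] [MulAction G Ω] {g : ℕ → G} {pt : ℕ → Ω}
    (M : Md g pt H15.MM23.P 24 10 H15.MM23.B 10200960) : Act (wds g c0v_W) pt c0v_P 24 4 :=
  M.wact c0v_lt
theorem c0cth_act {G Ω : Type*} [Group G] [MulAction G Ω] {g : ℕ → G} {pt : ℕ → Ω}
    (M : Md g pt H15.MM23.P 24 10 H15.MM23.B 10200960) : Act (wds g c0cth_W) pt c0cth_P 24 13 :=
  M.wact c0cth_lt
theorem c0ctl0_e : ∀ i < 22, (dent c0ctl0 c0cth_P (nat_lit 24)) i = 0 := allZ_sound0 c0ctl0_e_0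
theorem c0ctl0_ok : DOK c0ctl0 c0cth_P 24 := ⟨c0ctl0_h, c0ctl0_e⟩
theorem c0ctl1_e : ∀ i < 21, (dent c0ctl1 c0cth_P (nat_lit 24)) i = 0 := allZ_sound0 c0ctl1_e_0
theorem c0ctl1_ok : DOK c0ctl1 c0cth_P 24 := ⟨c0ctl1_h, c0ctl1_e⟩
theorem c0ctl2_e : ∀ i < 20, (dent c0ctl2 c0cth_P (nat_lit 24)) i = 0 := allZ_sound0 c0ctl2_e_0
theorem c0ctl2_ok : DOK c0ctl2 c0cth_P 24 := ⟨c0ctl2_h, c0ctl2_e⟩
theorem c0ctl3_e : ∀ i < 19, (dent c0ctl3 c0cth_P (nat_lit 24)) i = 0 := allZ_sound0 c0ctl3_e_0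
theorem c0ctl3_ok : DOK c0ctl3 c0cth_P 24 := ⟨c0ctl3_h, c0ctl3_e⟩
theorem c0ctl4_e : ∀ i < 15, (dent c0ctl4 c0cth_P (nat_lit 24)) i = 0 := allZ_sound0 c0ctl4_e_0
theorem c0ctl4_ok : DOK c0ctl4 c0cth_P 24 := ⟨c0ctl4_h, c0ctl4_e⟩
theorem c0ctl5_e : ∀ i < 2, (dent c0ctl5 c0cth_P (nat_lit 24)) i = 0 := allZ_sound0 c0ctl5_e_0
theorem c0ctl5_ok : DOK c0ctl5 c0cth_P 24 := ⟨c0ctl5_h, c0ctl5_e⟩
theorem c0ct_low {G Ω : Type*} [Group G] [MulAction G Ω] {g : ℕ → G} {pt : ℕ → Ω}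
    (M : Md g pt H15.MM23.P 24 10 H15.MM23.B 10200960) : SLow (gi (wds g c0cth_W)) pt 24 [c0ctl0, c0ctl1, c0ctl2, c0ctl3, c0ctl4, c0ctl5] :=
  ((((((SLow.nil).cons c0ctl5_ok (c0cth_act M) c0ct_f5).cons c0ctl4_ok (c0cth_act M) c0ct_f4).cons c0ctl3_ok (c0cth_act M) c0ct_f3).cons c0ctl2_ok (c0cth_act M) c0ct_f2).cons c0ctl1_ok (c0cth_act M) c0ct_f1).cons c0ctl0_ok (c0cth_act M) c0ct_f0
theorem c0ct_S0 {G Ω : Type*} [Group G] [MulAction G Ω] {g : ℕ → G} {pt : ℕ → Ω}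
    (M : Md g pt H15.MM23.P 24 10 H15.MM23.B 10200960) : Stage ⊤ (wds g c0cth_W) pt 24 [c0ctl0, c0ctl1, c0ctl2, c0ctl3, c0ctl4, c0ctl5] [] :=
  M.stage (c0ct_low M) c0ct_c
theorem c0ct_S1 {G Ω : Type*} [Group G] [MulAction G Ω] {g : ℕ → G} {pt : ℕ → Ω}
    (M : Md g pt H15.MM23.P 24 10 H15.MM23.B 10200960) : Stage ⊤ (wds g c0cth_W) pt 24 [c0ctl1, c0ctl2, c0ctl3, c0ctl4, c0ctl5] [c0ctl0.Pt 0] :=
  (c0ct_S0 M).next
theorem c0ct_S2 {G Ω : Type*} [Group G] [MulAction G Ω] {g : ℕ → G} {pt : ℕ → Ω}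
    (M : Md g pt H15.MM23.P 24 10 H15.MM23.B 10200960) : Stage ⊤ (wds g c0cth_W) pt 24 [c0ctl2, c0ctl3, c0ctl4, c0ctl5] [c0ctl1.Pt 0, c0ctl0.Pt 0] :=
  (c0ct_S1 M).next
theorem c0ct_S3 {G Ω : Type*} [Group G] [MulAction G Ω] {g : ℕ → G} {pt : ℕ → Ω}
    (M : Md g pt H15.MM23.P 24 10 H15.MM23.B 10200960) : Stage ⊤ (wds g c0cth_W) pt 24 [c0ctl3, c0ctl4, c0ctl5] [c0ctl2.Pt 0, c0ctl1.Pt 0, c0ctl0.Pt 0] :=
  (c0ct_S2 M).next
theorem c0ct_S4 {G Ω : Type*} [Group G] [MulAction G Ω] {g : ℕ → G} {pt : ℕ → Ω}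
    (M : Md g pt H15.MM23.P 24 10 H15.MM23.B 10200960) : Stage ⊤ (wds g c0cth_W) pt 24 [c0ctl4, c0ctl5] [c0ctl3.Pt 0, c0ctl2.Pt 0, c0ctl1.Pt 0, c0ctl0.Pt 0] :=
  (c0ct_S3 M).next
theorem c0ct_S5 {G Ω : Type*} [Group G] [MulAction G Ω] {g : ℕ → G} {pt : ℕ → Ω}
    (M : Md g pt H15.MM23.P 24 10 H15.MM23.B 10200960) : Stage ⊤ (wds g c0cth_W) pt 24 [c0ctl5] [c0ctl4.Pt 0, c0ctl3.Pt 0, c0ctl2.Pt 0, c0ctl1.Pt 0, c0ctl0.Pt 0] :=
  (c0ct_S4 M).next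
theorem c0ct_S6 {G Ω : Type*} [Group G] [MulAction G Ω] {g : ℕ → G} {pt : ℕ → Ω}
    (M : Md g pt H15.MM23.P 24 10 H15.MM23.B 10200960) : Stage ⊤ (wds g c0cth_W) pt 24 [] [c0ctl5.Pt 0, c0ctl4.Pt 0, c0ctl3.Pt 0, c0ctl2.Pt 0, c0ctl1.Pt 0, c0ctl0.Pt 0] :=
  (c0ct_S5 M).next
theorem c0ce_act {G Ω : Type*} [Group G] [MulAction G Ω] {g : ℕ → G} {pt : ℕ → Ω}
    (M : Md g pt H15.MM23.P 24 10 H15.MM23.B 10200960) : Act (wds g c0ce_W) pt c0ce_P 24 4 :=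
  M.wact c0ce_lt
theorem c0cc0_e : ∀ i < 15, (dent c0cc0 c0ce_P (nat_lit 24)) i = 0 := allZ_sound0 c0cc0_e_0
theorem c0cc0_ok : DOK c0cc0 c0ce_P 24 := ⟨c0cc0_h, c0cc0_e⟩
theorem c0ctn0_1 : ∀ i < 23, (c0ctn0.ent H15.MM23.P c0cth_P c0v_P c0v_P c0ce_P (nat_lit 10) (nat_lit 4) H15.MM23.B c0ctl0 [c0ctl1, c0ctl2, c0ctl3, c0ctl4, c0ctl5] (memO c0cc0)) i = 0 := allZ_sound0 c0ctn0_1_0
theorem c0ctn0_t {G Ω : Type*} [Group G] [MulAction G Ω] {g : ℕ → G} {pt : ℕ → Ω}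
    (M : Md g pt H15.MM23.P 24 10 H15.MM23.B 10200960) : TrO (gen (wds g c0cth_W) c0ctl0.K) (wds g c0v_W) (wds g c0v_W) 4 pt 24 (c0ctl0.Pt 0) (memO c0cc0) :=
  node M (c0ct_S0 M) (c0cth_act M) (c0v_act M) (c0v_act M) c0ctn0 ((c0ce_act M).mono (by decide)) (fun _ _ => trivial) c0ctn0_0 c0ctn0_1 (List.forall_mem_nil _)
theorem c0c {G Ω : Type*} [Group G] [MulAction G Ω] {g : ℕ → G} {pt : ℕ → Ω}
    (M : Md g pt H15.MM23.P 24 10 H15.MM23.B 10200960) : Cen ⊤ (wds g c0v_W) 4 (wds g c0ce_W) pt 24 [c0cc0] :=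
  (c0ct_S0 M).top ▸ Cen.lev M (c0ct_S0 M) (Cen.triv (c0ct_S1 M) (Cen.triv (c0ct_S2 M) (Cen.triv (c0ct_S3 M) (Cen.triv (c0ct_S4 M) (Cen.triv (c0ct_S5 M) (Cen.bot) (forced (c0ct_S5 M) (c0cth_act M) (c0v_act M) _ _ c0c_f5)) (forced (c0ct_S4 M) (c0cth_act M) (c0v_act M) _ _ c0c_f4)) (forced (c0ct_S3 M) (c0cth_act M) (c0v_act M) _ _ c0c_f3)) (forced (c0ct_S2 M) (c0cth_act M) (c0v_act M) _ _ c0c_f2)) (forced (c0ct_S1 M) (c0cth_act M) (c0v_act M) _ _ c0c_f1)) (c0ctn0_t M) (c0v_act M) (c0ce_act M) (fun _ _ => trivial) c0cc0_ok c0c_f0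
theorem c0c_eq {G Ω : Type*} [Group G] [MulAction G Ω] {g : ℕ → G} {pt : ℕ → Ω}
    (M : Md g pt H15.MM23.P 24 10 H15.MM23.B 10200960) : Subgroup.centralizer (gen (wds g c0v_W) 4) = gen (wds g c0ce_W) 4 ∧ Nat.card (gen (wds g c0ce_W) 4) = 16 :=
  c0c_c.1 ▸ c0c_c.2 ▸ ⟨(c0c M).cent, (c0c M).card M.inj⟩
theorem c0z_k : ∀ i < 4, (cmEnt c0v_P covr_P (nat_lit 4) H15.MM23.B (nat_lit 0)) i = 0 := allZ_sound0 c0z_k_0
theorem c0z {G Ω : Type*} [Group G] [MulAction G Ω] {g : ℕ → G} {pt : ℕ → Ω}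
    (M : Md g pt H15.MM23.P 24 10 H15.MM23.B 10200960) : (wds g covr_W) 0 ∈ Subgroup.centralizer ((gen (wds g c0v_W) 4) : Set G) :=
  cms M (c0v_act M) (covr_act M) (by decide) c0z_k
theorem c0n_k : ∀ k < 5, ∀ i < 4, (nrmEnt c0v_P c0ace_P (nat_lit 4) H15.MM23.B c0nW) k i = 0 := allZ2_sound c0n_k_a
theorem c0n {G Ω : Type*} [Group G] [MulAction G Ω] {g : ℕ → G} {pt : ℕ → Ω}
    (M : Md g pt H15.MM23.P 24 10 H15.MM23.B 10200960) : (gen (wds g c0ace_W) 5) ≤ Subgroup.normalizer ((gen (wds g c0v_W) 4) : Set G) :=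
  norms M (c0v_act M) (c0ace_act M) c0n_k
theorem c0m0_k : ∀ i < 4, (cmEnt c0v_P c0v_P (nat_lit 4) H15.MM23.B (nat_lit 0)) i = 0 := allZ_sound0 c0m0_k_0
theorem c0m0 {G Ω : Type*} [Group G] [MulAction G Ω] {g : ℕ → G} {pt : ℕ → Ω}
    (M : Md g pt H15.MM23.P 24 10 H15.MM23.B 10200960) : (wds g c0v_W) 0 ∈ Subgroup.centralizer ((gen (wds g c0v_W) 4) : Set G) :=
  cms M (c0v_act M) (c0v_act M) (by decide) c0m0_k
theorem c0m1_k : ∀ i < 4, (cmEnt c0v_P c0v_P (nat_lit 4) H15.MM23.B (nat_lit 1)) i = 0 := allZ_sound0 c0m1_k_0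
theorem c0m1 {G Ω : Type*} [Group G] [MulAction G Ω] {g : ℕ → G} {pt : ℕ → Ω}
    (M : Md g pt H15.MM23.P 24 10 H15.MM23.B 10200960) : (wds g c0v_W) 1 ∈ Subgroup.centralizer ((gen (wds g c0v_W) 4) : Set G) :=
  cms M (c0v_act M) (c0v_act M) (by decide) c0m1_k
theorem c0m2_k : ∀ i < 4, (cmEnt c0v_P c0v_P (nat_lit 4) H15.MM23.B (nat_lit 2)) i = 0 := allZ_sound0 c0m2_k_0
theorem c0m2 {G Ω : Type*} [Group G] [MulAction G Ω] {g : ℕ → G} {pt : ℕ → Ω}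
    (M : Md g pt H15.MM23.P 24 10 H15.MM23.B 10200960) : (wds g c0v_W) 2 ∈ Subgroup.centralizer ((gen (wds g c0v_W) 4) : Set G) :=
  cms M (c0v_act M) (c0v_act M) (by decide) c0m2_k
theorem c0m3_k : ∀ i < 4, (cmEnt c0v_P c0v_P (nat_lit 4) H15.MM23.B (nat_lit 3)) i = 0 := allZ_sound0 c0m3_k_0
theorem c0m3 {G Ω : Type*} [Group G] [MulAction G Ω] {g : ℕ → G} {pt : ℕ → Ω}
    (M : Md g pt H15.MM23.P 24 10 H15.MM23.B 10200960) : (wds g c0v_W) 3 ∈ Subgroup.centralizer ((gen (wds g c0v_W) 4) : Set G) :=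
  cms M (c0v_act M) (c0v_act M) (by decide) c0m3_k
theorem c0s {G Ω : Type*} [Group G] [MulAction G Ω] {g : ℕ → G} {pt : ℕ → Ω}
    (M : Md g pt H15.MM23.P 24 10 H15.MM23.B 10200960) : Nat.card (gen (wds g c0v_W) 4) ∣ 16 :=
  have := M.fin
  ((congrArg (fun H : Subgroup G => Nat.card H) (c0c_eq M).1).trans (c0c_eq M).2) ▸ Subgroup.card_dvd_of_le (gen_le.2 fun k hk => match k, hk with | 0, _ => c0m0 M | 1, _ => c0m1 M | 2, _ => c0m2 M | 3, _ => c0m3 M)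
theorem c0 {G Ω : Type*} [Group G] [MulAction G Ω] {g : ℕ → G} {pt : ℕ → Ω}
    (M : Md g pt H15.MM23.P 24 10 H15.MM23.B 10200960) : NC ((wds g covr_W) 0) (⊤ : Subgroup G) :=
  have := M.fin
  nc2 (a := 16) (b := 16) le_top (c0z M) ((c0a_z M).le.trans (c0n M)) (c0s M) ((congrArg (fun H : Subgroup G => Nat.card H) (c0c_eq M).1).trans (c0c_eq M).2) (by norm_num)
theorem all {G Ω : Type*} [Group G] [MulAction G Ω] {g : ℕ → G} {pt : ℕ → Ω}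
    (M : Md g pt H15.MM23.P 24 10 H15.MM23.B 10200960) : NPa (⊤ : Subgroup G) :=
  npa_reps (wds g covr_W) 1 (fun _ hy => cov M (e := 1) hy hy) fun k hk => match k, hk with
    | 0, _ => c0 M

theorem np : NP Cfsg.Spor.M23 := by
  obtain ⟨_, g, M, -⟩ := md (MulEquiv.subgroupCongr H15.MM23.gen_eq)
  have := M.fin
  have := H15.simple_M23
  exact np_top (by rw [M.card]; norm_num) Cfsg.Agent.S2063.result (all M)

end H15.QS.YM23
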